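import Mathlib
import Cfsg.Agent.Lib.OrthPrime.Quad

/-!
An isometry of prime order `r` different from the characteristic: fixed and moved space, invariant subspaces,
divisibility of the dimension of a moved invariant subspace and the sign of a non-degenerate one.
-/

set_option autoImplicit false
set_option linter.unusedSectionVars false

namespace Cfsg.Agent.Lib.OrthPrime

open QuadraticMap
open scoped _root_.Classical

variable {F : Type*} [Field F] {V : Type*} [AddCommGroup V] [Module F V]

/-- The vectors fixed by `e`. -/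
def fixS (e : V ≃ₗ[F] V) : Submodule F V := LinearMap.ker (e.toLinearMap - LinearMap.id)

/-- The moved space. -/
def movS (e : V ≃ₗ[F] V) : Submodule F V := LinearMap.range (e.toLinearMap - LinearMap.id)

/-- `W` is invariant. -/
def Inv (e : V ≃ₗ[F] V) (W : Submodule F V) : Prop := ∀ w ∈ W, e w ∈ W

variable {e : V ≃ₗ[F] V}

theorem mem_fixS {v : V} : v ∈ fixS e ↔ e v = v := by
  simp [fixS, LinearMap.mem_ker, sub_eq_zero]

theorem sub_mem_movS (v : V) : e v - v ∈ movS e := ⟨v, rfl⟩

theorem inv_fixS : Inv e (fixS e) := fun w hw => by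
  rw [mem_fixS] at hw ⊢; rw [hw, hw]

theorem inv_movS : Inv e (movS e) := by
  rintro _ ⟨v, rfl⟩
  exact ⟨e v, by simp⟩

theorem Inv.pow {W : Submodule F V} (hW : Inv e W) (k : ℕ) {w : V} (hw : w ∈ W) : (e ^ k) w ∈ W := by
  induction k with
  | zero => exact hw
  | succ k ih => rw [pow_succ', LinearEquiv.mul_apply]; exact hW _ ih

theorem pow_apply_of_fixed {v : V} (hv : e v = v) (k : ℕ) : (e ^ k) v = v := by
  induction k with
  | zero => rfl
  | succ k ih => rw [pow_succ', LinearEquiv.mul_apply, ih, hv]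

theorem pow_sub_mem_movS (k : ℕ) (v : V) : (e ^ k) v - v ∈ movS e := by
  induction k with
  | zero => simp
  | succ k ih =>
    rw [pow_succ', LinearEquiv.mul_apply]
    have h := add_mem (sub_mem_movS (e := e) ((e ^ k) v)) ih
    rwa [sub_add_sub_cancel] at h

theorem Inv.sup {W U : Submodule F V} (hW : Inv e W) (hU : Inv e U) : Inv e (W ⊔ U) := by
  intro w hw
  obtain ⟨a, ha, b, hb, rfl⟩ := Submodule.mem_sup.1 hw
  rw [map_add]
  exact Submodule.add_mem_sup (hW a ha) (hU b hb)

theorem Inv.inf {W U : Submodule F V} (hW : Inv e W) (hU : Inv e U) : Inv e (W ⊓ U) :=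
  fun w hw => ⟨hW w hw.1, hU w hw.2⟩

theorem inv_of_le_fixS {W : Submodule F V} (h : W ≤ fixS e) : Inv e W := fun w hw => by
  rw [mem_fixS.1 (h hw)]; exact hw

section Order

variable {r : ℕ} (her : e ^ r = 1) (hr0 : (r : F) ≠ 0)
include her hr0

theorem fixS_inf_movS : fixS e ⊓ movS e = ⊥ := by
  rw [eq_bot_iff]
  rintro v ⟨hv, w, rfl⟩
  rw [SetLike.mem_coe, mem_fixS] at hv
  set u := (e.toLinearMap - LinearMap.id : V →ₗ[F] V) w with hu
  have hk : ∀ k : ℕ, (e ^ k) w = w + k • u := by
    intro k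
    induction k with
    | zero => simp
    | succ k ih =>
      rw [pow_succ', LinearEquiv.mul_apply, ih, map_add, map_nsmul, hv, succ_nsmul]
      have : e w = w + u := by simp [hu]
      rw [this]; abel
  have h := hk r
  rw [her] at h
  change w = w + r • u at h
  rw [left_eq_add, ← Nat.cast_smul_eq_nsmul F, smul_eq_zero] at h
  exact (Submodule.mem_bot F).2 (h.resolve_left hr0)

/-- Projection to the fixed space. -/
theorem exists_split (v : V) : ∃ a ∈ fixS e, ∃ b ∈ movS e, v = a + b ∧
    ∀ W : Submodule F V, Inv e W → v ∈ W → a ∈ W ∧ b ∈ W := by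
  refine ⟨(r : F)⁻¹ • ∑ k ∈ Finset.range r, (e ^ k) v, ?_, v - (r : F)⁻¹ • ∑ k ∈ Finset.range r, (e ^ k) v, ?_,
    by abel, fun W hW hv => ?_⟩
  · rw [mem_fixS, map_smul, map_sum]
    refine congrArg _ ?_
    have h1 : ∑ k ∈ Finset.range r, e ((e ^ k) v) = ∑ k ∈ Finset.range r, (e ^ (k + 1)) v :=
      Finset.sum_congr rfl fun k _ => by rw [pow_succ', LinearEquiv.mul_apply]
    rw [h1]
    have h2 := Finset.sum_range_succ' (fun k => (e ^ k) v) r
    rw [Finset.sum_range_succ, her] at h2
    exact (add_right_cancel (h2.trans (by rfl))).symm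
  · have h : v - (r : F)⁻¹ • ∑ k ∈ Finset.range r, (e ^ k) v =
        (r : F)⁻¹ • ∑ k ∈ Finset.range r, (v - (e ^ k) v) := by
      rw [Finset.sum_sub_distrib, smul_sub, Finset.sum_const, Finset.card_range, ← Nat.cast_smul_eq_nsmul F,
        smul_smul, inv_mul_cancel₀ hr0, one_smul]
    rw [h]
    refine Submodule.smul_mem _ _ (Submodule.sum_mem _ fun k _ => ?_)
    have := Submodule.neg_mem _ (pow_sub_mem_movS (e := e) k v)
    rwa [neg_sub] at this
  · have h : (r : F)⁻¹ • ∑ k ∈ Finset.range r, (e ^ k) v ∈ W :=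
      Submodule.smul_mem _ _ (Submodule.sum_mem _ fun k _ => hW.pow k hv)
    exact ⟨h, sub_mem hv h⟩

theorem isCompl_fixS_movS : IsCompl (fixS e) (movS e) := by
  refine ⟨disjoint_iff.2 (fixS_inf_movS her hr0), codisjoint_iff.2 (eq_top_iff.2 fun v _ => ?_)⟩
  obtain ⟨a, ha, b, hb, rfl, -⟩ := exists_split her hr0 v
  exact Submodule.add_mem_sup ha hb

/-- An invariant subspace splits. -/
theorem inv_split {W : Submodule F V} (hW : Inv e W) : W = (W ⊓ fixS e) ⊔ (W ⊓ movS e) := by
  refine le_antisymm (fun v hv => ?_) (sup_le inf_le_left inf_le_left)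
  obtain ⟨a, ha, b, hb, rfl, h⟩ := exists_split her hr0 v
  obtain ⟨haW, hbW⟩ := h W hW hv
  exact Submodule.add_mem_sup ⟨haW, ha⟩ ⟨hbW, hb⟩

theorem finrank_inv_split [FiniteDimensional F V] {W : Submodule F V} (hW : Inv e W) :
    Module.finrank F W = Module.finrank F ↥(W ⊓ fixS e) + Module.finrank F ↥(W ⊓ movS e) := by
  have h := Submodule.finrank_sup_add_finrank_inf_eq (W ⊓ fixS e) (W ⊓ movS e)
  rw [← inv_split her hr0 hW, show (W ⊓ fixS e) ⊓ (W ⊓ movS e) = ⊥ from eq_bot_iff.2
    (le_trans (inf_le_inf inf_le_right inf_le_right) (fixS_inf_movS her hr0).le), finrank_bot, add_zero] at h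
  exact h

theorem fixed_eq_zero {v : V} (hv : v ∈ movS e) (hfix : e v = v) : v = 0 :=
  (Submodule.mem_bot F).1 ((fixS_inf_movS her hr0).le ⟨mem_fixS.2 hfix, hv⟩)

end Order

section Form

variable {Q : QuadraticForm F V} (hQe : ∀ v, Q (e v) = Q v)
include hQe

theorem polar_e (u v : V) : polar ⇑Q (e u) (e v) = polar ⇑Q u v := by
  simp [polar, ← map_add, hQe]

theorem fixS_perp_movS {a b : V} (ha : a ∈ fixS e) (hb : b ∈ movS e) : polar ⇑Q a b = 0 := by
  obtain ⟨w, rfl⟩ := hb
  rw [mem_fixS] at ha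
  show polar ⇑Q a (e w - w) = 0
  rw [polar_sub_right]
  conv_lhs => rw [show polar ⇑Q a (e w) = polar ⇑Q (e a) (e w) by rw [ha], polar_e hQe, sub_self]

variable [FiniteDimensional F V] {r : ℕ} (her : e ^ r = 1) (hr0 : (r : F) ≠ 0)
include her hr0

theorem qperp_fixS (hQ : (polarBilin Q).Nondegenerate) :
    Nd Q (fixS e) ∧ Nd Q (movS e) ∧ qperp Q (fixS e) = movS e := by
  have hnd : ∀ (A B : Submodule F V), A ⊔ B = ⊤ → (∀ a ∈ A, ∀ b ∈ B, polar ⇑Q a b = 0) → Nd Q A := by
    intro A B hAB hperp w hw h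
    refine hQ.1 w fun v => ?_
    obtain ⟨a, ha, b, hb, rfl⟩ := Submodule.mem_sup.1 (hAB ▸ Submodule.mem_top : v ∈ A ⊔ B)
    rw [map_add, polarBilin_apply_apply, polarBilin_apply_apply, h a ha, hperp w hw b hb, add_zero]
  have hc := isCompl_fixS_movS her hr0
  have hC := hnd _ _ hc.sup_eq_top fun a ha b hb => fixS_perp_movS hQe ha hb
  refine ⟨hC, hnd _ _ (sup_comm (fixS e) (movS e) ▸ hc.sup_eq_top) fun a ha b hb => by
    rw [polar_comm]; exact fixS_perp_movS hQe hb ha, ?_⟩
  have h1 := finrank_qperp Q hC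
  have h2 := Submodule.finrank_add_eq_of_isCompl hc
  exact (Submodule.eq_of_le_of_finrank_eq (fun b hb => (mem_qperp Q).2 fun a ha => fixS_perp_movS hQe ha hb)
    (by omega)).symm

theorem nd_inf_movS {W : Submodule F V} (hW : Inv e W) (hnd : Nd Q W) :
    Nd Q (W ⊓ fixS e) ∧ Nd Q (W ⊓ movS e) := by
  constructor
  · intro w hw h
    refine hnd w hw.1 fun x hx => ?_
    obtain ⟨a, ha, b, hb, rfl⟩ := Submodule.mem_sup.1 ((inv_split her hr0 hW).le hx)
    rw [polar_add_right, h a ha, fixS_perp_movS hQe hw.2 hb.2, add_zero]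
  · intro w hw h
    refine hnd w hw.1 fun x hx => ?_
    obtain ⟨a, ha, b, hb, rfl⟩ := Submodule.mem_sup.1 ((inv_split her hr0 hW).le hx)
    rw [polar_add_right, h b hb, polar_comm, fixS_perp_movS hQe ha.2 hw.2, add_zero]

/-- A totally isotropic invariant subspace of the moved space is totally singular. -/
theorem totallySingular_of_isotropic {W : Submodule F V} (hW : Inv e W) (hmov : W ≤ movS e)
    (hiso : ∀ x ∈ W, ∀ y ∈ W, polar ⇑Q x y = 0) : ∀ w ∈ W, Q w = 0 := by
  let f : W →ₗ[F] W := (e.toLinearMap - LinearMap.id).restrict fun w hw => sub_mem (hW w hw) hw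
  have hf : Function.Injective f := (injective_iff_map_eq_zero f).2 fun w hw => Subtype.ext
    (fixed_eq_zero her hr0 (hmov w.2) (sub_eq_zero.1 (congrArg Subtype.val hw)))
  intro w hw
  obtain ⟨u, hu⟩ := LinearMap.injective_iff_surjective.1 hf ⟨w, hw⟩
  have hu' : e (u : V) - (u : V) = w := congrArg Subtype.val hu
  rw [← hu', sub_eq_add_neg, QuadraticMap.map_add (⇑Q), QuadraticMap.map_neg, hQe, polar_neg_right,
    hiso _ (hW _ u.2) _ u.2, neg_zero, add_zero]
  have h := hiso _ u.2 _ u.2
  rwa [polar_self, two_nsmul] at h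

end Form

/-! ### Orbit counting -/

theorem card_fixed_modEq {α : Type*} [Finite α] (σ : Equiv.Perm α) {r : ℕ} [Fact r.Prime] (hσ : σ ^ r = 1) :
    Nat.card α ≡ Nat.card {a // σ a = a} [MOD r] := by
  haveI := Fintype.ofFinite α
  let f : Function.End α := ⇑σ
  have hk : ∀ k : ℕ, (f ^ k : Function.End α) = ⇑(σ ^ k) := by
    intro k
    induction k with
    | zero => rfl
    | succ k ih =>
      rw [pow_succ, pow_succ]
      change (f ^ k : α → α) ∘ f = _
      rw [ih]; rfl
  have hf : f ^ r ^ 1 = 1 := by rw [pow_one, hk, hσ]; rfl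
  have h := Equiv.Perm.card_fixedPoints_modEq (p := r) (n := 1) (f := f) hf
  rw [← Nat.card_eq_fintype_card, ← Nat.card_eq_fintype_card] at h
  exact h

section Count

variable [Fintype F] [FiniteDimensional F V] {r : ℕ} [Fact r.Prime] (her : e ^ r = 1) (hr0 : (r : F) ≠ 0)
include her hr0

theorem card_inv_modEq {W : Submodule F V} (hW : Inv e W) (hmov : W ≤ movS e) (P : V → Prop)
    (hP : ∀ v, P (e v) ↔ P v) :
    (Nat.card {w : W // P (w : V)} : ZMod r) = if P 0 then 1 else 0 := by
  haveI : Finite V := Module.finite_of_finite F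
  have hinv : ∀ w ∈ W, e.symm w ∈ W := fun w hw => by
    have h : (e ^ (r - 1)) w = e.symm w := by
      apply e.injective
      rw [LinearEquiv.apply_symm_apply, ← LinearEquiv.mul_apply, ← pow_succ',
        Nat.sub_add_cancel (Fact.out : r.Prime).one_le, her]
      rfl
    rw [← h]
    exact hW.pow _ hw
  let σ : Equiv.Perm {w : W // P (w : V)} :=
    { toFun := fun w => ⟨⟨e (w : W), hW _ w.1.2⟩, (hP _).2 w.2⟩
      invFun := fun w => ⟨⟨e.symm (w : W), hinv _ w.1.2⟩, (hP _).1 (by simpa using w.2)⟩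
      left_inv := fun w => Subtype.ext (Subtype.ext (e.symm_apply_apply _))
      right_inv := fun w => Subtype.ext (Subtype.ext (e.apply_symm_apply _)) }
  have hval : ∀ (k : ℕ) (w : {w : W // P (w : V)}), (((σ ^ k) w).1 : V) = (e ^ k) (w.1 : V) := by
    intro k
    induction k with
    | zero => intro w; rfl
    | succ k ih =>
      intro w
      rw [pow_succ', Equiv.Perm.mul_apply, pow_succ', LinearEquiv.mul_apply, ← ih]
      rfl
  have hσ : σ ^ r = 1 := Equiv.ext fun w => Subtype.ext (Subtype.ext (by rw [hval, her]; rfl))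
  have hfix : ∀ w : {w : W // P (w : V)}, σ w = w ↔ (w.1 : V) = 0 := fun w => by
    constructor
    · intro h
      exact fixed_eq_zero her hr0 (hmov w.1.2) (congrArg (fun x : {w : W // P (w : V)} => (x.1 : V)) h)
    · intro h
      exact Subtype.ext (Subtype.ext (by show e (w.1 : V) = _; rw [h, map_zero]))
  rw [(ZMod.natCast_eq_natCast_iff _ _ _).2 (card_fixed_modEq σ hσ), Nat.card_congr (Equiv.subtypeEquivRight hfix)]
  split_ifs with h0
  · rw [show Nat.card {w : {w : W // P (w : V)} // (w.1 : V) = 0} = 1 from Nat.card_eq_one_iff_unique.2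
      ⟨⟨fun a b => Subtype.ext (Subtype.ext (Subtype.ext (a.2.trans b.2.symm)))⟩,
        ⟨⟨⟨0, by simpa using h0⟩, by simp⟩⟩⟩, Nat.cast_one]
  · haveI : IsEmpty {w : {w : W // P (w : V)} // (w.1 : V) = 0} := ⟨fun w => h0 (w.2 ▸ w.1.2)⟩
    rw [Nat.card_of_isEmpty, Nat.cast_zero]

theorem q_pow_finrank {W : Submodule F V} (hW : Inv e W) (hmov : W ≤ movS e) :
    (Fintype.card F : ZMod r) ^ Module.finrank F W = 1 := by
  have h := card_inv_modEq her hr0 hW hmov (fun _ => True) (fun _ => Iff.rfl)
  rw [if_pos trivial, Nat.card_congr (Equiv.subtypeUnivEquiv fun _ => trivial),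
    Module.natCard_eq_pow_finrank (K := F), Nat.card_eq_fintype_card] at h
  exact_mod_cast h

theorem orderOf_dvd_finrank {W : Submodule F V} (hW : Inv e W) (hmov : W ≤ movS e) :
    orderOf (Fintype.card F : ZMod r) ∣ Module.finrank F W :=
  orderOf_dvd_of_pow_eq_one (q_pow_finrank her hr0 hW hmov)

variable {Q : QuadraticForm F V} (hQe : ∀ v, Q (e v) = Q v) (hr2 : r ≠ 2)
include hQe hr2

/-- The moved non-degenerate subspaces have even dimension. -/
theorem even_finrank {W : Submodule F V} (hW : Inv e W) (hmov : W ≤ movS e) (hnd : Nd Q W) :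
    Even (Module.finrank F W) := by
  have hQW := (nd_iff Q W).2 hnd
  let n := Module.finrank F W
  let b : Module.Basis (Fin n) F W := Module.finBasis F W
  let B := LinearMap.BilinForm.toMatrix b (polarBilin (rQ Q W))
  have hB : B.det ≠ 0 := (LinearMap.BilinForm.nondegenerate_iff_det_ne_zero b).1 hQW
  by_cases h2 : (2 : F) = 0
  · haveI : CharP F 2 := CharP.charP_iff_prime_eq_zero Nat.prime_two |>.2 (by exact_mod_cast h2)
    by_contra hodd
    rw [Nat.not_even_iff_odd] at hodd
    -- an alternating form of odd size is singular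
    apply hB
    have hsym : B.transpose = B := Matrix.ext fun i j => by
      simp [B, LinearMap.BilinForm.toMatrix_apply, polar_comm]
    have hdiag : ∀ i, B i i = 0 := fun i => by
      simp [B, LinearMap.BilinForm.toMatrix_apply, polar_self, two_nsmul, CharTwo.add_self_eq_zero, h2]
    rw [Matrix.det_apply]
    refine Finset.sum_involution (fun σ _ => σ⁻¹) (fun σ _ => ?_) (fun σ _ hne hσ => hne ?_)
      (fun σ _ => Finset.mem_univ _) (fun σ _ => inv_inv σ)
    · have hp : ∏ i, B (σ⁻¹ i) i = ∏ i, B (σ i) i := by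
        rw [← Equiv.prod_comp σ (fun i => B (σ⁻¹ i) i)]
        refine Finset.prod_congr rfl fun i _ => ?_
        rw [Equiv.Perm.inv_def, Equiv.symm_apply_apply, ← Matrix.transpose_apply B, hsym]
      rw [hp, Equiv.Perm.sign_inv, ← two_smul F, h2, zero_smul]
    · obtain ⟨i, hi⟩ : ∃ i, σ i = i := by
        by_contra hno
        push Not at hno
        have h := card_fixed_modEq (r := 2) σ (by rw [_root_.sq]; exact mul_eq_one_iff_eq_inv.2 hσ.symm)
        haveI : IsEmpty {a // σ a = a} := ⟨fun a => hno a a.2⟩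
        rw [Nat.card_fin, Nat.card_of_isEmpty] at h
        obtain ⟨k, hk⟩ := hodd
        have h' : n % 2 = 0 % 2 := h
        simp only [n] at h'
        omega
      rw [Finset.prod_eq_zero (Finset.mem_univ i) (by rw [hi, hdiag]), smul_zero]
  · let f : W →ₗ[F] W := e.toLinearMap.restrict hW
    let M := LinearMap.toMatrix b b f
    have hpre : M.transpose * B * M = B := by
      rw [← LinearMap.BilinForm.toMatrix_comp]
      refine congrArg _ (LinearMap.ext fun x => LinearMap.ext fun y => ?_)
      rw [LinearMap.BilinForm.comp_apply, polarBilin_apply_apply, polarBilin_apply_apply, polar_rQ, polar_rQ]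
      exact polar_e hQe (x : V) y
    have hfk : ∀ (k : ℕ) (w : W), (((f ^ k) w : W) : V) = (e ^ k) (w : V) := by
      intro k
      induction k with
      | zero => intro w; rfl
      | succ k ih =>
        intro w
        rw [pow_succ', Module.End.mul_apply, pow_succ', LinearEquiv.mul_apply, ← ih]
        rfl
    have hfr : f ^ r = 1 := LinearMap.ext fun w => Subtype.ext (by rw [hfk, her]; rfl)
    have hdet : M.det = 1 := by
      have h1 : M.det ^ r = 1 := by
        rw [LinearMap.det_toMatrix, ← map_pow, hfr, map_one]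
      have h3 : M.det * M.det = 1 := by
        have := congrArg Matrix.det hpre
        rw [Matrix.det_mul, Matrix.det_mul, Matrix.det_transpose] at this
        exact mul_right_cancel₀ hB (by linear_combination this)
      obtain ⟨k, hk⟩ := (Fact.out : r.Prime).odd_of_ne_two hr2
      rw [hk, pow_succ, pow_mul, _root_.sq, h3, one_pow, one_mul] at h1
      exact h1
    have hne : (M - 1).det ≠ 0 := by
      have e1 : M - 1 = LinearMap.toMatrix b b (f - 1) := by
        rw [map_sub, LinearMap.toMatrix_one]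
      rw [e1, LinearMap.det_toMatrix]
      intro h0
      obtain ⟨w, hw, hw0⟩ := Submodule.exists_mem_ne_zero_of_ne_bot
        ((LinearMap.det_eq_zero_iff_ker_ne_bot).1 h0)
      refine hw0 (Subtype.ext (fixed_eq_zero her hr0 (hmov w.2) ?_))
      exact congrArg Subtype.val (sub_eq_zero.1 (LinearMap.mem_ker.1 hw))
    have key : (M - 1).transpose * B * M = -(B * (M - 1)) := by
      rw [Matrix.transpose_sub, Matrix.transpose_one, sub_mul, sub_mul, hpre, one_mul, mul_sub, mul_one]
      abel
    have h := congrArg Matrix.det key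
    rw [Matrix.det_mul, Matrix.det_mul, Matrix.det_transpose, Matrix.det_neg, Matrix.det_mul, hdet, mul_one,
      Fintype.card_fin] at h
    by_contra hodd
    rw [Nat.not_even_iff_odd] at hodd
    rw [hodd.neg_one_pow] at h
    exact mul_ne_zero (mul_ne_zero h2 hne) hB (by linear_combination h)

/-- The sign of a moved non-degenerate subspace. -/
theorem qsgn_eq_q_pow {W : Submodule F V} (hW : Inv e W) (hmov : W ≤ movS e) (hnd : Nd Q W) {k : ℕ}
    (hk : Module.finrank F W = 2 * k) :
    (qsgn (rQ Q W) : ZMod r) = (Fintype.card F : ZMod r) ^ k := by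
  have h := card_inv_modEq her hr0 hW hmov (fun v => Q v = 1) (fun v => by rw [hQe])
  rw [if_neg (by simp)] at h
  have hc := congrArg (fun x : ℤ => (x : ZMod r)) (card_value_one hk ((nd_iff Q W).2 hnd))
  simp only [Int.cast_mul, Int.cast_sub, Int.cast_pow, Int.cast_natCast, Nat.card_eq_fintype_card,
    QuadraticMap.comp_apply, Submodule.coe_subtype] at hc
  rw [h, mul_zero] at hc
  set qz : ZMod r := (Fintype.card F : ZMod r) with hqz
  have hq : qz ^ Module.finrank F W = 1 := q_pow_finrank her hr0 hW hmov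
  rw [hk] at hq
  rw [hq] at hc
  have h2 : qz ^ k * qz ^ k = 1 := by rw [← pow_add, ← two_mul]; exact hq
  linear_combination qz ^ k * hc - (qsgn (rQ Q W) : ZMod r) * h2

end Count

end Cfsg.Agent.Lib.OrthPrime
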