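import Mathlib
import Cfsg.Agent.Lib.OrthPrime.Elem

/-!
The classes of irreducible invariant subspaces of an element of prime order `r ≠ p`: irreducible factors of the
cyclotomic polynomial and cyclic subspaces.
-/

set_option autoImplicit false
set_option linter.unusedSectionVars false

namespace Cfsg.Agent.Lib.OrthPrime

open Polynomial
open scoped _root_.Classical

variable {F : Type*} [Field F]

/-- The monic irreducible factors of the `r`-th cyclotomic polynomial. -/
noncomputable def classes (F : Type*) [Field F] (r : ℕ) : Finset F[X] :=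
  (UniqueFactorizationMonoid.normalizedFactors (cyclotomic r F)).toFinset

section Classes

variable [Fintype F] {r : ℕ} [Fact r.Prime] (hr0 : (r : F) ≠ 0)

theorem irreducible_of_mem {p : F[X]} (hp : p ∈ classes F r) : Irreducible p :=
  UniqueFactorizationMonoid.irreducible_of_normalized_factor p (Multiset.mem_toFinset.1 hp)

theorem monic_of_mem {p : F[X]} (hp : p ∈ classes F r) : p.Monic := by
  have h := UniqueFactorizationMonoid.normalize_normalized_factor p (Multiset.mem_toFinset.1 hp)
  rw [← h]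
  exact Polynomial.monic_normalize (irreducible_of_mem hp).ne_zero

theorem isCoprime_of_mem {p p' : F[X]} (hp : p ∈ classes F r) (hp' : p' ∈ classes F r) (h : p ≠ p') :
    IsCoprime p p' := by
  rw [(irreducible_of_mem hp).coprime_iff_not_dvd]
  intro hd
  exact h (eq_of_monic_of_associated (monic_of_mem hp) (monic_of_mem hp')
    ((irreducible_of_mem hp).associated_of_dvd (irreducible_of_mem hp') hd))

include hr0

theorem exists_char_pow : ∃ (p f : ℕ) (_ : Fact p.Prime), Fintype.card F = p ^ f ∧ p.Coprime r := by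
  obtain ⟨p, hp⟩ := CharP.exists F
  obtain ⟨f, hpr, hf⟩ := FiniteField.card F p
  refine ⟨p, f, ⟨hpr⟩, hf, (hpr.coprime_iff_not_dvd).2 fun h => hr0 ?_⟩
  exact (CharP.cast_eq_zero_iff F p r).2 h

theorem natDegree_of_mem {p : F[X]} (hp : p ∈ classes F r) :
    p.natDegree = orderOf (Fintype.card F : ZMod r) := by
  obtain ⟨c, f, hc, hF, hcop⟩ := exists_char_pow hr0
  rw [natDegree_of_mem_normalizedFactors_cyclotomic hF hcop (Multiset.mem_toFinset.1 hp), ← orderOf_units,
    ZMod.coe_unitOfCoprime, hF]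

theorem orderOf_pos' : 0 < orderOf (Fintype.card F : ZMod r) := by
  obtain ⟨c, f, hc, hF, hcop⟩ := exists_char_pow hr0
  rw [hF, ← ZMod.coe_unitOfCoprime _ (hcop.pow_left f), orderOf_units]
  exact orderOf_pos _

theorem card_classes : (classes F r).card = (r - 1) / orderOf (Fintype.card F : ZMod r) := by
  obtain ⟨c, f, hc, hF, hcop⟩ := exists_char_pow hr0
  rw [classes, normalizedFactors_cyclotomic_card hF hcop, ← orderOf_units, ZMod.coe_unitOfCoprime, hF,
    Nat.totient_prime (Fact.out : r.Prime)]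

theorem orderOf_dvd_pred : orderOf (Fintype.card F : ZMod r) ∣ r - 1 := by
  obtain ⟨c, f, hc, hF, hcop⟩ := exists_char_pow hr0
  rw [hF, ← ZMod.coe_unitOfCoprime _ (hcop.pow_left f), orderOf_units]
  have h := orderOf_dvd_card (x := ZMod.unitOfCoprime _ (hcop.pow_left f))
  rwa [ZMod.card_units_eq_totient, Nat.totient_prime (Fact.out : r.Prime)] at h

theorem classes_nonempty : (classes F r).Nonempty := by
  rw [← Finset.card_pos, card_classes hr0]
  have := (Fact.out : r.Prime).two_le
  exact Nat.div_pos (Nat.le_of_dvd (by omega) (orderOf_dvd_pred hr0)) (orderOf_pos' hr0)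

theorem prod_classes : Associated (∏ p ∈ classes F r, p) (cyclotomic r F) := by
  haveI : NeZero (r : F) := ⟨hr0⟩
  have hsq := squarefree_cyclotomic r F
  have hnd := (UniqueFactorizationMonoid.squarefree_iff_nodup_normalizedFactors (cyclotomic_ne_zero r F)).1 hsq
  have h : ∏ p ∈ classes F r, p = (UniqueFactorizationMonoid.normalizedFactors (cyclotomic r F)).prod := by
    unfold classes
    rw [Finset.prod, Multiset.toFinset_val, Multiset.dedup_eq_self.2 hnd, Multiset.map_id']
  rw [h]
  exact UniqueFactorizationMonoid.prod_normalizedFactors (cyclotomic_ne_zero r F)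

end Classes

/-! ### Polynomials in `e` -/

variable {V : Type*} [AddCommGroup V] [Module F V] (e : V ≃ₗ[F] V)

/-- `p(e)`. -/
noncomputable def pE (p : F[X]) : V →ₗ[F] V := aeval (e.toLinearMap : Module.End F V) p

theorem pE_mul (a b : F[X]) (v : V) : pE e (a * b) v = pE e a (pE e b v) := by
  simp [pE, map_mul, Module.End.mul_apply]

theorem pE_add (a b : F[X]) (v : V) : pE e (a + b) v = pE e a v + pE e b v := by simp [pE]

theorem pE_one (v : V) : pE e 1 v = v := by simp [pE]

theorem pE_C (c : F) (v : V) : pE e (C c) v = c • v := by simp [pE, Module.algebraMap_end_apply]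

theorem pE_X (v : V) : pE e X v = e v := by simp [pE]

theorem pE_X_pow (k : ℕ) (v : V) : pE e (X ^ k) v = (e ^ k) v := by
  induction k with
  | zero => simp [pE]
  | succ k ih => rw [pow_succ', pE_mul, pE_X, ih, pow_succ', LinearEquiv.mul_apply]

theorem pE_comm (a : F[X]) (v : V) : pE e a (e v) = e (pE e a v) := by
  rw [← pE_X e v, ← pE_X e (pE e a v), ← pE_mul, ← pE_mul, mul_comm]

theorem pE_mem {W : Submodule F V} (hW : Inv e W) (a : F[X]) {w : V} (hw : w ∈ W) : pE e a w ∈ W := by
  induction a using Polynomial.induction_on' with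
  | add a b ha hb => rw [pE_add]; exact add_mem ha hb
  | monomial k c => rw [← C_mul_X_pow_eq_monomial, pE_mul, pE_C, pE_X_pow]; exact W.smul_mem _ (hW.pow k hw)

theorem inv_ker (a : F[X]) : Inv e (LinearMap.ker (pE e a)) := fun w hw => by
  rw [LinearMap.mem_ker] at hw ⊢
  rw [pE_comm, hw, map_zero]

theorem ker_eq_zero_of_coprime {a b : F[X]} (h : IsCoprime a b) {v : V} (ha : pE e a v = 0) (hb : pE e b v = 0) :
    v = 0 := by
  obtain ⟨x, y, hxy⟩ := h
  rw [← pE_one e v, ← hxy, pE_add, pE_mul, pE_mul, ha, hb, map_zero, map_zero, add_zero]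

/-- A component of a vector killed by a product of pairwise coprime polynomials. -/
theorem exists_component (s : Finset F[X]) (hs : ∀ p ∈ s, ∀ p' ∈ s, p ≠ p' → IsCoprime p p')
    {W : Submodule F V} (hW : Inv e W) {v : V} (hv : v ∈ W) (h0 : pE e (∏ p ∈ s, p) v = 0)
    (f : V →ₗ[F] F) (hf : f v ≠ 0) : ∃ p ∈ s, ∃ w ∈ W, pE e p w = 0 ∧ f w ≠ 0 := by
  induction s using Finset.induction_on generalizing v with
  | empty =>
    rw [Finset.prod_empty, pE_one] at h0
    exact absurd (h0 ▸ map_zero f) hf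
  | insert a s ha ih =>
    rw [Finset.prod_insert ha] at h0
    have hcop : IsCoprime a (∏ p ∈ s, p) := IsCoprime.prod_right fun p hp =>
      hs a (Finset.mem_insert_self a s) p (Finset.mem_insert_of_mem hp) fun e => ha (e ▸ hp)
    obtain ⟨x, y, hxy⟩ := hcop
    have hv2 : v = pE e (x * a) v + pE e (y * ∏ p ∈ s, p) v := by rw [← pE_add, hxy, pE_one]
    by_cases h1 : f (pE e (y * ∏ p ∈ s, p) v) = 0
    · obtain ⟨p, hp, w, hw, h⟩ := ih (fun p hp p' hp' => hs p (Finset.mem_insert_of_mem hp) p' (Finset.mem_insert_of_mem hp'))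
        (pE_mem e hW (x * a) hv)
        (by rw [← pE_mul, show (∏ p ∈ s, p) * (x * a) = x * (a * ∏ p ∈ s, p) by ring, pE_mul, h0, map_zero])
        (fun h2 => hf (by rw [hv2, map_add, h1, h2, add_zero]))
      exact ⟨p, Finset.mem_insert_of_mem hp, w, hw, h⟩
    · exact ⟨a, Finset.mem_insert_self a s, _, pE_mem e hW _ hv,
        by rw [← pE_mul, show a * (y * ∏ p ∈ s, p) = y * (a * ∏ p ∈ s, p) by ring, pE_mul, h0, map_zero], h1⟩

/-- The cyclic subspace of `v`. -/
noncomputable def cyc (v : V) : Submodule F V :=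
  LinearMap.range ((LinearMap.applyₗ v).comp (aeval (e.toLinearMap : Module.End F V)).toLinearMap)

theorem mem_cyc {v w : V} : w ∈ cyc e v ↔ ∃ a : F[X], pE e a v = w := Iff.rfl

theorem self_mem_cyc (v : V) : v ∈ cyc e v := ⟨1, pE_one e v⟩

theorem inv_cyc (v : V) : Inv e (cyc e v) := by
  rintro _ ⟨a, rfl⟩
  exact ⟨X * a, by show pE e (X * a) v = e (pE e a v); rw [pE_mul, pE_X]⟩

theorem cyc_le {W : Submodule F V} (hW : Inv e W) {v : V} (hv : v ∈ W) : cyc e v ≤ W := by
  rintro _ ⟨a, rfl⟩
  exact pE_mem e hW a hv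

theorem ker_cyc {p : F[X]} {v w : V} (hv : pE e p v = 0) (hw : w ∈ cyc e v) : pE e p w = 0 := by
  obtain ⟨a, rfl⟩ := hw
  show pE e p (pE e a v) = 0
  rw [← pE_mul, mul_comm, pE_mul, hv, map_zero]

variable {p : F[X]} (hp : Irreducible p) {v : V} (hv : v ≠ 0) (hpv : pE e p v = 0)
include hp hv hpv

theorem pE_eq_zero_iff (a : F[X]) : pE e a v = 0 ↔ p ∣ a := by
  refine ⟨fun h => ?_, fun ⟨b, hb⟩ => by rw [hb, mul_comm, pE_mul, hpv, map_zero]⟩
  by_contra hd
  exact hv (ker_eq_zero_of_coprime e ((hp.coprime_iff_not_dvd).2 hd) hpv h)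

theorem finrank_cyc (hm : p.Monic) : Module.finrank F (cyc e v) = p.natDegree := by
  let f : (Fin p.natDegree → F) →ₗ[F] V := Fintype.linearCombination F fun k : Fin p.natDegree => (e ^ (k : ℕ)) v
  have hf : ∀ g, f g = pE e (∑ k, C (g k) * X ^ (k : ℕ)) v := fun g => by
    simp [f, Fintype.linearCombination_apply, pE, map_sum, LinearMap.sum_apply, Module.algebraMap_end_apply,
      Module.End.mul_apply]
    refine Finset.sum_congr rfl fun k _ => ?_
    rw [← pE_X_pow e k v, pE, map_pow, aeval_X]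
  have hinj : Function.Injective f := (injective_iff_map_eq_zero f).2 fun g hg => by
    rw [hf, pE_eq_zero_iff e hp hv hpv] at hg
    have hdeg : (∑ k, C (g k) * X ^ (k : ℕ)).degree < p.degree :=
      lt_of_lt_of_le (degree_sum_fin_lt g) (degree_eq_natDegree hm.ne_zero).ge
    have h0 := Polynomial.eq_zero_of_dvd_of_degree_lt hg hdeg
    funext k
    have := congrArg (fun s : F[X] => s.coeff k) h0
    simpa [coeff_C_mul_X_pow, Fin.val_inj, Finset.sum_ite_eq] using this
  have hrange : LinearMap.range f = cyc e v := by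
    refine le_antisymm ?_ ?_
    · rintro _ ⟨g, rfl⟩
      exact ⟨_, (hf g).symm⟩
    · rintro _ ⟨a, rfl⟩
      refine ⟨fun k => (a %ₘ p).coeff k, ?_⟩
      rw [hf]
      show _ = pE e a v
      have hlt : (a %ₘ p).natDegree < p.natDegree :=
        Polynomial.natDegree_modByMonic_lt a hm (fun h => hp.not_isUnit (h ▸ isUnit_one))
      have h2 : ∑ k : Fin p.natDegree, C ((a %ₘ p).coeff k) * X ^ (k : ℕ) = a %ₘ p := by
        rw [Fin.sum_univ_eq_sum_range (fun k => C ((a %ₘ p).coeff k) * X ^ k) p.natDegree]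
        exact ((a %ₘ p).as_sum_range_C_mul_X_pow' hlt).symm
      rw [h2]
      conv_rhs => rw [← modByMonic_add_div a p, pE_add, mul_comm p, pE_mul, hpv, map_zero, add_zero]
  rw [← hrange, LinearMap.finrank_range_of_inj hinj, Module.finrank_fin_fun]

theorem cyc_eq_of_mem [FiniteDimensional F V] (hm : p.Monic) {w : V} (hw : w ∈ cyc e v) (hw0 : w ≠ 0) :
    cyc e w = cyc e v :=
  Submodule.eq_of_le_of_finrank_eq (cyc_le e (inv_cyc e v) hw)
    (by rw [finrank_cyc e hp hw0 (ker_cyc e hpv hw) hm, finrank_cyc e hp hv hpv hm])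

omit hp hv hpv in
/-- Frobenius: `p(e^(q^n)) = p(e)^(q^n)`. -/
theorem aeval_pow_card [Fintype F] (p : F[X]) (n : ℕ) :
    aeval ((e.toLinearMap : Module.End F V) ^ Fintype.card F ^ n) p = (pE e p) ^ Fintype.card F ^ n := by
  induction n generalizing p with
  | zero => simp [pE]
  | succ n ih =>
    rw [pow_succ, pow_mul, ← expand_aeval, FiniteField.expand_card, ih]
    rw [pE, pE, map_pow, ← pow_mul, mul_comm]

omit hp hv hpv in
/-- If `q^h = -1` modulo `r`, a class is stable under inversion. -/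
theorem pE_symm [Fintype F] {r : ℕ} [Fact r.Prime] (her : e ^ r = 1) {h : ℕ}
    (hneg : (Fintype.card F : ZMod r) ^ h = -1) (p : F[X]) (v : V) (hpv : pE e p v = 0) :
    pE e.symm p v = 0 := by
  have hpos : 0 < Fintype.card F ^ h := pow_pos Fintype.card_pos h
  have hd : r ∣ Fintype.card F ^ h + 1 := by
    rw [← ZMod.natCast_eq_zero_iff, Nat.cast_add, Nat.cast_pow, hneg, Nat.cast_one, neg_add_cancel]
  obtain ⟨j, hj⟩ := hd
  have he : e ^ Fintype.card F ^ h = e.symm := by
    have h1 : e ^ (Fintype.card F ^ h + 1) = 1 := by rw [hj, pow_mul, her, one_pow]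
    rw [pow_succ] at h1
    exact eq_inv_of_mul_eq_one_left h1
  have hcoe : ∀ k : ℕ, ((e ^ k : V ≃ₗ[F] V).toLinearMap : Module.End F V) = (e.toLinearMap : Module.End F V) ^ k := by
    intro k
    induction k with
    | zero => rfl
    | succ k ih => rw [pow_succ, pow_succ, ← ih]; rfl
  rw [pE, ← he, hcoe, aeval_pow_card]
  obtain ⟨k, hk⟩ : ∃ k, Fintype.card F ^ h = k + 1 := ⟨_, (Nat.sub_add_cancel hpos).symm⟩
  rw [hk, pow_succ, Module.End.mul_apply, hpv, map_zero]

end Cfsg.Agent.Lib.OrthPrime
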