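import Mathlib
import Cfsg.Agent.Lib.OrthPrime.Poly

/-!
Orthogonal decomposition of the moved space of an element of prime order `r ≠ p` into blocks and the totally
singular invariant subspaces it contains.
-/

set_option autoImplicit false
set_option linter.unusedSectionVars false

namespace Cfsg.Agent.Lib.OrthPrime

open QuadraticMap
open scoped _root_.Classical

/-- The dimension of a block. -/
noncomputable def cdim (F : Type*) [Fintype F] (r : ℕ) : ℕ :=
  if Even (orderOf (Fintype.card F : ZMod r)) then orderOf (Fintype.card F : ZMod r)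
  else 2 * orderOf (Fintype.card F : ZMod r)

/-- The sign of a space of `t` blocks. -/
noncomputable def bsgn (F : Type*) [Fintype F] (r t : ℕ) : ℤ :=
  if Even (orderOf (Fintype.card F : ZMod r)) then (-1) ^ t else 1

/-- The guaranteed number of totally singular irreducibles among `S` blocks. -/
noncomputable def tsNum (F : Type*) [Fintype F] (r S : ℕ) : ℕ :=
  if Even (orderOf (Fintype.card F : ZMod r)) then (S + 1 - (r - 1) / orderOf (Fintype.card F : ZMod r)) / 2 else S

section Arith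

variable {F : Type*} [Field F] [Fintype F] {r : ℕ} [Fact r.Prime] (hr0 : (r : F) ≠ 0) (hr2 : r ≠ 2)

theorem intCast_inj_sign (hr2 : r ≠ 2) {a b : ℤ} (ha : a = 1 ∨ a = -1) (hb : b = 1 ∨ b = -1)
    (h : (a : ZMod r) = (b : ZMod r)) : a = b := by
  have h2 : ((2 : ℕ) : ZMod r) ≠ 0 := fun h2 => by
    rw [ZMod.natCast_eq_zero_iff] at h2
    exact hr2 ((Nat.prime_dvd_prime_iff_eq Fact.out Nat.prime_two).1 h2)
  rcases ha with rfl | rfl <;> rcases hb with rfl | rfl <;> first
    | rfl
    | (exfalso; push_cast at h h2; exact h2 (by linear_combination h))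
    | (exfalso; push_cast at h h2; exact h2 (by linear_combination -h))

theorem q_pow_half (hi : Even (orderOf (Fintype.card F : ZMod r))) (hr0 : (r : F) ≠ 0) :
    (Fintype.card F : ZMod r) ^ (orderOf (Fintype.card F : ZMod r) / 2) = -1 := by
  have hpos := orderOf_pos' (F := F) hr0
  set qz : ZMod r := (Fintype.card F : ZMod r)
  obtain ⟨h, hh⟩ := hi
  have h1 : qz ^ h * qz ^ h = 1 := by rw [← pow_add, ← hh]; exact pow_orderOf_eq_one qz
  rcases mul_self_eq_one_iff.1 h1 with h2 | h2
  · have := Nat.le_of_dvd (by omega) (orderOf_dvd_of_pow_eq_one h2)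
    omega
  · rwa [show orderOf qz / 2 = h by omega]

theorem q_pow_blocks (hr0 : (r : F) ≠ 0) {k t : ℕ} (hk : 2 * k = cdim F r * t) :
    (Fintype.card F : ZMod r) ^ k = (bsgn F r t : ZMod r) := by
  unfold cdim at hk
  unfold bsgn
  split_ifs at hk ⊢ with hi
  · have h2 := Nat.two_mul_div_two_of_even hi
    have hk' : k = orderOf (Fintype.card F : ZMod r) / 2 * t := by nlinarith
    rw [hk', pow_mul, q_pow_half hi hr0]
    push_cast
    rfl
  · have hk' : k = orderOf (Fintype.card F : ZMod r) * t := by nlinarith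
    rw [hk', pow_mul, pow_orderOf_eq_one, one_pow, Int.cast_one]

theorem bsgn_cases (t : ℕ) : bsgn F r t = 1 ∨ bsgn F r t = -1 := by
  unfold bsgn
  split_ifs
  · exact neg_one_pow_eq_or ℤ t
  · exact Or.inl rfl

theorem even_cdim : Even (cdim F r) := by
  unfold cdim; split_ifs with h
  · exact h
  · exact even_two_mul _

theorem cdim_pos (hr0 : (r : F) ≠ 0) : 0 < cdim F r := by
  have := orderOf_pos' (F := F) hr0
  unfold cdim; split_ifs <;> omega

theorem dvd_cdim : orderOf (Fintype.card F : ZMod r) ∣ cdim F r := by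
  unfold cdim; split_ifs
  · exact dvd_refl _
  · exact dvd_mul_left _ _

theorem cdim_dvd {n : ℕ} (h : orderOf (Fintype.card F : ZMod r) ∣ n) (h2 : Even n) : cdim F r ∣ n := by
  unfold cdim; split_ifs with hi
  · exact h
  · exact Nat.Coprime.mul_dvd_of_dvd_of_dvd
      (Nat.coprime_two_left.2 (Nat.not_even_iff_odd.1 hi)) h2.two_dvd h

end Arith

variable {F : Type*} [Field F] [Fintype F] {V : Type*} [AddCommGroup V] [Module F V] [FiniteDimensional F V]
variable {Q : QuadraticForm F V} {e : V ≃ₗ[F] V} {r : ℕ} [Fact r.Prime]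
variable (hQe : ∀ v, Q (e v) = Q v) (her : e ^ r = 1) (hr0 : (r : F) ≠ 0) (hr2 : r ≠ 2)
include hQe her hr0 hr2

theorem qsgn_blocks {W : Submodule F V} (hW : Inv e W) (hmov : W ≤ movS e) (hnd : Nd Q W) {t : ℕ}
    (ht : Module.finrank F W = cdim F r * t) : qsgn (rQ Q W) = bsgn F r t := by
  obtain ⟨k, hk⟩ := even_finrank her hr0 hQe hr2 hW hmov hnd
  refine intCast_inj_sign hr2 (qsgn_cases _) (bsgn_cases t) ?_
  rw [qsgn_eq_q_pow her hr0 hQe hr2 hW hmov hnd (k := k) (by omega), q_pow_blocks hr0 (by omega : 2 * k = cdim F r * t)]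

omit her hr0 hr2 in
theorem inv_qperp {W : Submodule F V} (hW : Inv e W) : Inv e (qperp Q W) := by
  intro x hx
  rw [mem_qperp] at hx ⊢
  intro w hw
  let f : W →ₗ[F] W := e.toLinearMap.restrict hW
  have hf : Function.Injective f := fun a b h => Subtype.ext (e.injective (congrArg Subtype.val h))
  obtain ⟨w', hw'⟩ := LinearMap.injective_iff_surjective.1 hf ⟨w, hw⟩
  rw [← show e (w' : V) = w from congrArg Subtype.val hw', polar_e hQe]
  exact hx _ w'.2

theorem inv_symm_qperp {W : Submodule F V} (hW : Inv e W) {B : Submodule F V} (hB : Inv e B) :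
    Inv e (W ⊓ qperp Q B) := hW.inf (inv_qperp hQe hB)

omit hQe her hr0 hr2 in
/-- The complement of a non-degenerate subspace inside a non-degenerate one. -/
theorem nd_rest {W B : Submodule F V} (hW : Nd Q W) (hB : Nd Q B) (hle : B ≤ W) :
    Nd Q (W ⊓ qperp Q B) ∧ Module.finrank F B + Module.finrank F ↥(W ⊓ qperp Q B) = Module.finrank F W := by
  have hc := isCompl_qperp Q hB
  have hsup : B ⊔ W ⊓ qperp Q B = W := by
    refine le_antisymm (sup_le hle inf_le_left) fun w hw => ?_
    obtain ⟨a, ha, b, hb, rfl⟩ := Submodule.mem_sup.1 (hc.sup_eq_top ▸ Submodule.mem_top : w ∈ B ⊔ qperp Q B)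
    exact Submodule.add_mem_sup ha ⟨by simpa using W.sub_mem hw (hle ha), hb⟩
  constructor
  · intro w hw h
    refine hW w hw.1 fun x hx => ?_
    obtain ⟨a, ha, b, hb, rfl⟩ := Submodule.mem_sup.1 (hsup.ge hx)
    rw [polar_add_right, h b hb, polar_comm, (mem_qperp Q).1 hw.2 a ha, add_zero]
  · have h := Submodule.finrank_sup_add_finrank_inf_eq B (W ⊓ qperp Q B)
    rw [hsup, show B ⊓ (W ⊓ qperp Q B) = ⊥ from eq_bot_iff.2
      (le_trans (inf_le_inf le_rfl inf_le_right) hc.inf_eq_bot.le), finrank_bot, add_zero] at h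
    omega

omit hQe her hr0 hr2 in
theorem pE_cyclotomic_mov (her : e ^ r = 1) {v : V} (hv : v ∈ movS e) : pE e (Polynomial.cyclotomic r F) v = 0 := by
  obtain ⟨w, rfl⟩ := hv
  have h : (e.toLinearMap - LinearMap.id : V →ₗ[F] V) w = pE e (Polynomial.X - 1) w := by simp [pE]
  rw [h, ← pE_mul, Polynomial.cyclotomic_prime_mul_X_sub_one]
  simp only [pE, map_sub, map_one, LinearMap.sub_apply, Module.End.one_apply]
  have := pE_X_pow e r w
  rw [pE] at this
  rw [this, her]
  exact sub_self _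

omit hQe hr2 in
/-- A component in one class. -/
theorem exists_class {W : Submodule F V} (hW : Inv e W) (hmov : W ≤ movS e) {v : V} (hv : v ∈ W)
    (f : V →ₗ[F] F) (hf : f v ≠ 0) : ∃ p ∈ classes F r, ∃ w ∈ W, pE e p w = 0 ∧ f w ≠ 0 := by
  refine exists_component e _ (fun p hp p' hp' h => isCoprime_of_mem hp hp' h) hW hv ?_ f hf
  obtain ⟨u, hu⟩ := prod_classes (F := F) (r := r) hr0
  have h := pE_cyclotomic_mov her (hmov hv)
  rw [← hu, mul_comm, pE_mul] at h
  refine u.isUnit.exists_left_inv.elim fun b hb => ?_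
  rw [← pE_one e (pE e (∏ p ∈ classes F r, p) v), ← hb, pE_mul, h, map_zero]

omit hQe hr2 in
theorem exists_class_mem {W : Submodule F V} (hW : Inv e W) (hmov : W ≤ movS e) (hne : W ≠ ⊥) :
    ∃ p ∈ classes F r, ∃ w ∈ W, w ≠ 0 ∧ pE e p w = 0 := by
  obtain ⟨v, hv, hv0⟩ := Submodule.exists_mem_ne_zero_of_ne_bot hne
  obtain ⟨f, hf⟩ : ∃ f : V →ₗ[F] F, f v ≠ 0 := by
    by_contra h
    push Not at h
    exact hv0 ((Module.forall_dual_apply_eq_zero_iff F v).1 h)
  obtain ⟨p, hp, w, hw, hpw, hfw⟩ := exists_class her hr0 hW hmov hv f hf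
  exact ⟨p, hp, w, hw, fun h => hfw (by rw [h, map_zero]), hpw⟩

omit hQe her hr2 in
theorem finrank_cyc_class {p : Polynomial F} (hp : p ∈ classes F r) {w : V} (hw : w ≠ 0) (hpw : pE e p w = 0) :
    Module.finrank F (cyc e w) = orderOf (Fintype.card F : ZMod r) := by
  rw [finrank_cyc e (irreducible_of_mem hp) hw hpw (monic_of_mem hp), natDegree_of_mem hr0 hp]

omit hr2 in
/-- An irreducible invariant subspace is non-degenerate or totally singular. -/
theorem cyc_nd_or_ts {p : Polynomial F} (hp : p ∈ classes F r) {w : V} (hw : w ≠ 0) (hpw : pE e p w = 0)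
    (hmov : cyc e w ≤ movS e) : Nd Q (cyc e w) ∨ ∀ x ∈ cyc e w, Q x = 0 := by
  by_cases h : Nd Q (cyc e w)
  · exact Or.inl h
  right
  simp only [Nd, not_forall] at h
  obtain ⟨x, hx, hrad, hx0⟩ := h
  have hle : cyc e x ≤ qperp Q (cyc e w) ⊓ cyc e w :=
    le_inf (cyc_le e (inv_qperp hQe (inv_cyc e w)) ((mem_qperp Q).2 fun y hy => by rw [polar_comm]; exact hrad y hy))
      (cyc_le e (inv_cyc e w) hx)
  rw [cyc_eq_of_mem e (irreducible_of_mem hp) hw hpw (monic_of_mem hp) hx hx0] at hle
  exact totallySingular_of_isotropic hQe her hr0 (inv_cyc e w) hmov fun a ha b hb =>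
    (mem_qperp Q).1 (hle hb).1 a ha

/-- One block. -/
theorem exists_block {W : Submodule F V} (hW : Inv e W) (hmov : W ≤ movS e) (hnd : Nd Q W) (hne : W ≠ ⊥) :
    ∃ B ≤ W, Inv e B ∧ Nd Q B ∧ Module.finrank F B = cdim F r := by
  set i := orderOf (Fintype.card F : ZMod r) with hi
  have hipos : 0 < i := orderOf_pos' hr0
  obtain ⟨p, hp, u, hu, hu0, hpu⟩ := exists_class_mem her hr0 hW hmov hne
  have hUW := cyc_le e hW hu
  have hUi := finrank_cyc_class hr0 hp hu0 hpu
  rcases cyc_nd_or_ts hQe her hr0 hp hu0 hpu (hUW.trans hmov) with hUn | hUs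
  · refine ⟨_, hUW, inv_cyc e u, hUn, ?_⟩
    have := even_finrank her hr0 hQe hr2 (inv_cyc e u) (hUW.trans hmov) hUn
    rw [hUi] at this
    rw [hUi, cdim, if_pos this]
  obtain ⟨x, hx, hux⟩ : ∃ x ∈ W, polar ⇑Q u x ≠ 0 := by
    by_contra h; push Not at h; exact hu0 (hnd u hu h)
  obtain ⟨p', hp', v, hv, hpv, huv⟩ := exists_class her hr0 hW hmov hx (polarBilin Q u) hux
  rw [polarBilin_apply_apply] at huv
  have hv0 : v ≠ 0 := fun h => huv (by rw [h, polar_zero_right])
  have hVW := cyc_le e hW hv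
  have hVi := finrank_cyc_class hr0 hp' hv0 hpv
  rcases cyc_nd_or_ts hQe her hr0 hp' hv0 hpv (hVW.trans hmov) with hVn | hVs
  · refine ⟨_, hVW, inv_cyc e v, hVn, ?_⟩
    have := even_finrank her hr0 hQe hr2 (inv_cyc e v) (hVW.trans hmov) hVn
    rw [hVi] at this
    rw [hVi, cdim, if_pos this]
  have hiso : ∀ {z : V}, (∀ y ∈ cyc e z, Q y = 0) → ∀ a ∈ cyc e z, ∀ b ∈ cyc e z, polar ⇑Q a b = 0 :=
    fun h a ha b hb => by simp [polar, h a ha, h b hb, h _ (add_mem ha hb)]
  -- no vector of either line is orthogonal to the other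
  have hperp : ∀ {a b : V} {pa : Polynomial F}, pa ∈ classes F r → pE e pa a = 0 → polar ⇑Q a b ≠ 0 →
      ∀ z ∈ cyc e a, (∀ y ∈ cyc e b, polar ⇑Q z y = 0) → z = 0 := by
    intro a b pa hpa hpaa hab z hz hzb
    by_contra hz0
    have ha0 : a ≠ 0 := fun h => hab (by rw [h, polar_zero_left])
    have hle : cyc e z ≤ qperp Q (cyc e b) :=
      cyc_le e (inv_qperp hQe (inv_cyc e b)) ((mem_qperp Q).2 fun y hy => by rw [polar_comm]; exact hzb y hy)
    rw [cyc_eq_of_mem e (irreducible_of_mem hpa) ha0 hpaa (monic_of_mem hpa) hz hz0] at hle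
    exact hab (by rw [polar_comm]; exact (mem_qperp Q).1 (hle (self_mem_cyc e a)) b (self_mem_cyc e b))
  have hE : Nd Q (cyc e u ⊔ cyc e v) ∧ cyc e u ⊓ cyc e v = ⊥ := by
    constructor
    · intro z hz hrad
      obtain ⟨a, ha, b, hb, rfl⟩ := Submodule.mem_sup.1 hz
      have hb0 : b = 0 := hperp hp' hpv (by rwa [polar_comm]) b hb fun y hy => by
        have := hrad y (Submodule.mem_sup_left hy)
        rwa [polar_add_left, hiso hUs a ha y hy, zero_add] at this
      have ha0 : a = 0 := hperp hp hpu huv a ha fun y hy => by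
        have := hrad y (Submodule.mem_sup_right hy)
        rwa [polar_add_left, hiso hVs b hb y hy, add_zero] at this
      rw [ha0, hb0, add_zero]
    · rw [eq_bot_iff]
      rintro z ⟨hz1, hz2⟩
      exact (Submodule.mem_bot F).2 (hperp hp hpu huv z hz1 fun y hy => hiso hVs z hz2 y hy)
  have hEdim : Module.finrank F ↥(cyc e u ⊔ cyc e v) = 2 * i := by
    have h := Submodule.finrank_sup_add_finrank_inf_eq (cyc e u) (cyc e v)
    rw [hE.2, finrank_bot, hUi, hVi] at h
    omega
  by_cases hev : Even i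
  swap
  · exact ⟨_, sup_le hUW hVW, (inv_cyc e u).sup (inv_cyc e v), hE.1, by rw [hEdim, cdim, if_neg hev]⟩
  -- `i` even: the two classes agree
  have hsymm := pE_symm (V := V) e her (q_pow_half hev hr0)
  have hadj : ∀ (a : Polynomial F) (y z : V), polar ⇑Q (pE e a y) z = polar ⇑Q y (pE e.symm a z) := by
    intro a y z
    induction a using Polynomial.induction_on' generalizing y z with
    | add a b ha hb => rw [pE_add, pE_add, polar_add_left, polar_add_right, ha, hb]
    | monomial k c =>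
      rw [← Polynomial.C_mul_X_pow_eq_monomial, pE_mul, pE_mul, pE_C, pE_C, pE_X_pow, pE_X_pow,
        polar_smul_left, polar_smul_right]
      refine congrArg _ ?_
      induction k generalizing y z with
      | zero => rfl
      | succ k ih =>
        rw [pow_succ, LinearEquiv.mul_apply, ih, pow_succ', LinearEquiv.mul_apply]
        conv_lhs => rw [show (e.symm ^ k) z = e (e.symm ((e.symm ^ k) z)) from (e.apply_symm_apply _).symm,
          polar_e hQe]
  have hpp : pE e p v = 0 := by
    have h1 : pE e.symm p v = 0 := by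
      refine hperp hp' hpv (by rwa [polar_comm]) _ ?_ fun y hy => ?_
      · exact pE_mem e.symm (fun w hw => by
          have h : (e ^ (r - 1)) w = e.symm w := by
            apply e.injective
            rw [LinearEquiv.apply_symm_apply, ← LinearEquiv.mul_apply, ← pow_succ',
              Nat.sub_add_cancel (Fact.out : r.Prime).one_le, her]
            rfl
          rw [← h]
          exact (inv_cyc e v).pow _ hw) p (self_mem_cyc e v)
      · rw [polar_comm, ← hadj, ker_cyc e hpu hy, polar_zero_left]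
    have h2 := pE_symm e.symm (r := r) (by
      rw [show e.symm = e⁻¹ from rfl, inv_pow, her, inv_one]) (q_pow_half hev hr0) p v h1
    rwa [LinearEquiv.symm_symm] at h2
  -- a cyclic subspace that is not totally singular
  have hcand : ∀ w ∈ cyc e v, w ≠ 0 → (∀ y ∈ cyc e (u + w), Q y = 0) →
      ∀ a b : Polynomial F, polar ⇑Q (pE e a u) (pE e b w) + polar ⇑Q (pE e a w) (pE e b u) = 0 := by
    intro w hw _ hs a b
    have h := hiso hs _ ⟨a, rfl⟩ _ ⟨b, rfl⟩
    change polar ⇑Q (pE e a (u + w)) (pE e b (u + w)) = 0 at h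
    rw [map_add, map_add, polar_add_left, polar_add_right, polar_add_right] at h
    have h1 := hiso hUs (pE e a u) ⟨a, rfl⟩ (pE e b u) ⟨b, rfl⟩
    have h2 := hiso hVs (pE e a w) (pE_mem e (inv_cyc e v) a hw) (pE e b w) (pE_mem e (inv_cyc e v) b hw)
    linear_combination h - h1 - h2
  by_contra hno
  push Not at hno
  have hts : ∀ w ∈ cyc e v, w ≠ 0 → ∀ y ∈ cyc e (u + w), Q y = 0 := by
    intro w hw hw0
    have hne0 : u + w ≠ 0 := fun h => hu0 (by
      have hmem : u ∈ cyc e u ⊓ cyc e v := ⟨self_mem_cyc e u, by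
        rw [show u = -w from eq_neg_of_add_eq_zero_left h]; exact neg_mem hw⟩
      rwa [hE.2, Submodule.mem_bot] at hmem)
    have hpz : pE e p (u + w) = 0 := by rw [map_add, hpu, ker_cyc e hpp hw, add_zero]
    have hzW : cyc e (u + w) ≤ W := cyc_le e hW (add_mem hu (hVW hw))
    refine (cyc_nd_or_ts hQe her hr0 hp hne0 hpz (hzW.trans hmov)).resolve_left fun hn => ?_
    exact hno _ hzW (inv_cyc e _) hn (by rw [finrank_cyc_class hr0 hp hne0 hpz, cdim, if_pos hev])
  have hev0 : e v ≠ 0 := fun h => hv0 (e.map_eq_zero_iff.1 h)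
  have A := hcand v (self_mem_cyc e v) hv0 (hts v (self_mem_cyc e v) hv0)
  have B := hcand (e v) (inv_cyc e v v (self_mem_cyc e v)) hev0 (hts (e v) (inv_cyc e v v (self_mem_cyc e v)) hev0)
  have key : ∀ b : Polynomial F, polar ⇑Q u (pE e b (e (e v))) = polar ⇑Q u (pE e b v) := by
    intro b
    have hB := B 1 (Polynomial.X * b)
    have hA := A Polynomial.X (Polynomial.X * b)
    have hA' := A 1 b
    have hsh : polar ⇑Q (pE e Polynomial.X u) (pE e (Polynomial.X * b) v) = polar ⇑Q u (pE e b v) := by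
      rw [pE_mul, pE_X, pE_X, polar_e hQe]
    have hsh' : polar ⇑Q (pE e Polynomial.X v) (pE e (Polynomial.X * b) u) = polar ⇑Q (e v) (pE e (Polynomial.X * b) u) := by
      rw [pE_X]
    have hB1 : polar ⇑Q (pE e 1 u) (pE e (Polynomial.X * b) (e v)) = polar ⇑Q u (pE e b (e (e v))) := by
      rw [pE_one, pE_mul, pE_X, pE_comm e b (e v)]
    rw [hsh, hsh'] at hA
    rw [hB1, pE_one] at hB
    linear_combination hB - hA
  have hv2 : e (e v) - v ∈ cyc e v :=
    sub_mem (inv_cyc e v _ (inv_cyc e v v (self_mem_cyc e v))) (self_mem_cyc e v)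
  have hne2 : e (e v) - v ≠ 0 := by
    intro h
    have h' : (e ^ 2) v = v := by rw [_root_.sq, LinearEquiv.mul_apply]; exact sub_eq_zero.1 h
    obtain ⟨k, hk⟩ := (Fact.out : r.Prime).odd_of_ne_two hr2
    refine hv0 (fixed_eq_zero her hr0 (hmov hv) ?_)
    have h3 : (e ^ r) v = e v := by
      rw [hk, pow_succ', LinearEquiv.mul_apply, pow_mul, pow_apply_of_fixed h']
    rw [her] at h3
    exact h3.symm
  have hcyc := cyc_eq_of_mem e (irreducible_of_mem hp') hv0 hpv (monic_of_mem hp') hv2 hne2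
  obtain ⟨b, hb⟩ := (mem_cyc e).1 (hcyc.symm ▸ self_mem_cyc e v : v ∈ cyc e (e (e v) - v))
  refine huv ?_
  rw [← hb, map_sub, polar_sub_right, key, sub_self]

/-- All sizes of non-degenerate invariant subspaces. -/
theorem exists_sub {W : Submodule F V} (hW : Inv e W) (hmov : W ≤ movS e) (hnd : Nd Q W) :
    ∃ S, Module.finrank F W = cdim F r * S ∧
      ∀ t ≤ S, ∃ B ≤ W, Inv e B ∧ Nd Q B ∧ Module.finrank F B = cdim F r * t := by
  obtain ⟨S, hS⟩ := cdim_dvd (orderOf_dvd_finrank her hr0 hW hmov) (even_finrank her hr0 hQe hr2 hW hmov hnd)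
  refine ⟨S, hS, fun t ht => ?_⟩
  induction t with
  | zero => exact ⟨⊥, bot_le, fun w hw => by simp [(Submodule.mem_bot F).1 hw], nd_bot Q, by simp⟩
  | succ t ih =>
    obtain ⟨B, hBW, hBi, hBn, hBd⟩ := ih (by omega)
    obtain ⟨hRn, hRd⟩ := nd_rest hnd hBn hBW
    have hne : W ⊓ qperp Q B ≠ ⊥ := by
      intro h
      rw [h, finrank_bot, hS, hBd, add_zero] at hRd
      have := Nat.eq_of_mul_eq_mul_left (cdim_pos hr0) hRd
      omega
    obtain ⟨C, hCR, hCi, hCn, hCd⟩ := exists_block hQe her hr0 hr2 (inv_symm_qperp hQe her hr0 hr2 hW hBi)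
      (inf_le_left.trans hmov) hRn hne
    refine ⟨B ⊔ C, sup_le hBW (hCR.trans inf_le_left), hBi.sup hCi, ?_, ?_⟩
    · intro z hz hrad
      obtain ⟨a, ha, b, hb, rfl⟩ := Submodule.mem_sup.1 hz
      have ha0 : a = 0 := hBn a ha fun y hy => by
        have := hrad y (Submodule.mem_sup_left hy)
        rwa [polar_add_left, polar_comm ⇑Q b y, (mem_qperp Q).1 (hCR hb).2 y hy, add_zero] at this
      have hb0 : b = 0 := hCn b hb fun y hy => by
        have := hrad y (Submodule.mem_sup_right hy)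
        rwa [polar_add_left, (mem_qperp Q).1 (hCR hy).2 a ha, zero_add] at this
      rw [ha0, hb0, add_zero]
    · have h := Submodule.finrank_sup_add_finrank_inf_eq B C
      rw [show B ⊓ C = ⊥ from eq_bot_iff.2 (le_trans (inf_le_inf le_rfl (hCR.trans inf_le_right))
        (isCompl_qperp Q hBn).inf_eq_bot.le), finrank_bot, hBd, hCd] at h
      rw [Nat.mul_succ]
      omega

end Cfsg.Agent.Lib.OrthPrime
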