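import Mathlib

/-!
The numerical criteria, compared with their closed forms.
-/

set_option autoImplicit false

namespace Cfsg.Agent.Lib.OrthPrime.Arith

/-- Block dimension. -/
def cD (i : ℕ) : ℕ := if Even i then i else 2 * i

/-- Sign of `t` blocks. -/
def bS (i t : ℕ) : ℤ := if Even i then (-1) ^ t else 1

/-- Number of totally singular irreducibles. -/
def tN (i r S : ℕ) : ℕ := if Even i then (S + 1 - (r - 1) / i) / 2 else S

/-- Numbers of blocks. -/
def AdmN (n i : ℕ) (ε : ℤ) (S : ℕ) : Prop := 1 ≤ S ∧ (cD i * S < n ∨ (cD i * S = n ∧ ε = bS i S))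

/-- Witt index of the fixed space. -/
def wN (n i : ℕ) (ε : ℤ) (S : ℕ) : ℕ :=
  if Odd n ∨ ε = bS i S then (n - cD i * S) / 2 else (n - cD i * S) / 2 - 1

/-- The criterion for totally singular spaces. -/
def CritTS (n m i r : ℕ) (ε : ℤ) : Prop :=
  ∀ S, AdmN n i ε S → ∃ k ≤ tN i r S, i * k ≤ m ∧ m - i * k ≤ wN n i ε S

/-- The criterion for non-degenerate spaces of even dimension. -/
def CritND (n m i : ℕ) (ε s : ℤ) : Prop :=
  ∀ S, AdmN n i ε S → ∃ t ≤ S, cD i * t ≤ m ∧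
      ((cD i * t = m ∧ bS i t = s) ∨ (cD i * t < m ∧
        (m - cD i * t < n - cD i * S ∨ (m - cD i * t = n - cD i * S ∧ ε * bS i S * bS i t = s))))

/-- The criterion for non-degenerate spaces of odd dimension. -/
def CritOdd (n m i : ℕ) (ε : ℤ) : Prop :=
  ∀ S, AdmN n i ε S → ∃ t ≤ S, cD i * t < m ∧ m - cD i * t ≤ n - cD i * S

theorem cD_of_even {i : ℕ} (h : i % 2 = 0) : cD i = i := if_pos (Nat.even_iff.2 h)

theorem cD_of_odd {i : ℕ} (h : i % 2 = 1) : cD i = 2 * i := if_neg (Nat.not_even_iff.2 h)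

theorem tN_of_even {i : ℕ} (r S : ℕ) (h : i % 2 = 0) : tN i r S = (S + 1 - (r - 1) / i) / 2 :=
  if_pos (Nat.even_iff.2 h)

theorem tN_of_odd {i : ℕ} (r S : ℕ) (h : i % 2 = 1) : tN i r S = S := if_neg (Nat.not_even_iff.2 h)

theorem bS_one (i t : ℕ) : bS i t = 1 ↔ (i % 2 = 0 → t % 2 = 0) := by
  unfold bS
  split_ifs with h
  · rw [Nat.even_iff] at h
    rw [neg_one_pow_eq_one_iff_even (by decide), Nat.even_iff]
    tauto
  · rw [Nat.even_iff] at h
    tauto

theorem bS_neg (i t : ℕ) : bS i t = -1 ↔ (i % 2 = 0 ∧ t % 2 = 1) := by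
  unfold bS
  split_ifs with h
  · rw [Nat.even_iff] at h
    rw [neg_one_pow_eq_neg_one_iff_odd (by decide), Nat.odd_iff]
    tauto
  · rw [Nat.even_iff] at h
    simp [h]

theorem one_eq_bS (i t : ℕ) : 1 = bS i t ↔ (i % 2 = 0 → t % 2 = 0) := eq_comm.trans (bS_one i t)

theorem neg_eq_bS (i t : ℕ) : -1 = bS i t ↔ (i % 2 = 0 ∧ t % 2 = 1) := eq_comm.trans (bS_neg i t)

theorem bS_mul (i a b : ℕ) : bS i a * bS i b = bS i (a + b) := by
  unfold bS
  split_ifs <;> simp [pow_add]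

theorem lex_lt {c u G M D : ℕ} (hM : M < c) (hD : D < c) :
    c * u + M < c * G + D ↔ u < G ∨ (u = G ∧ M < D) := by
  rcases lt_trichotomy u G with h | rfl | h
  · have := Nat.mul_le_mul_left c (Nat.succ_le_of_lt h)
    rw [Nat.mul_succ] at this
    omega
  · omega
  · have := Nat.mul_le_mul_left c (Nat.succ_le_of_lt h)
    rw [Nat.mul_succ] at this
    omega

theorem lex_eq {c u G M D : ℕ} (hM : M < c) (hD : D < c) :
    c * u + M = c * G + D ↔ u = G ∧ M = D := by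
  have h1 := lex_lt (u := u) (G := G) hM hD
  have h2 := lex_lt (u := G) (G := u) hD hM
  constructor
  · intro h; omega
  · rintro ⟨rfl, rfl⟩; rfl

theorem le_three {c u G X D : ℕ} (hD : D < c) (hX : X ≤ D + 2 * c) :
    c * u + X ≤ c * G + D ↔
      (X ≤ D ∧ u ≤ G) ∨ (D < X ∧ X ≤ D + c ∧ u + 1 ≤ G) ∨ (D + c < X ∧ u + 2 ≤ G) := by
  rcases (by omega : u + 2 ≤ G ∨ u + 1 = G ∨ u = G ∨ G + 1 ≤ u) with h | h | h | h
  · have := Nat.mul_le_mul_left c h
    rw [Nat.mul_add] at this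
    omega
  · subst h; rw [Nat.mul_add, Nat.mul_one]; omega
  · subst h; omega
  · have := Nat.mul_le_mul_left c h
    rw [Nat.mul_add] at this
    omega

theorem adm_iff {n i B D : ℕ} (ε : ℤ) (hn : n = cD i * B + D) (hD : D < cD i) (S : ℕ) :
    AdmN n i ε S ↔ 1 ≤ S ∧ (S < B ∨ (S = B ∧ (0 < D ∨ ε = bS i B))) := by
  have h1 := lex_lt (u := S) (G := B) (M := 0) (by omega) hD
  have h2 := lex_eq (u := S) (G := B) (M := 0) (by omega) hD
  unfold AdmN
  rw [hn, show cD i * S = cD i * S + 0 by rfl, h1, h2]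
  constructor
  · rintro ⟨hS, (h | ⟨h, h'⟩) | ⟨⟨h, hD0⟩, h'⟩⟩
    · exact ⟨hS, Or.inl h⟩
    · exact ⟨hS, Or.inr ⟨h, Or.inl h'⟩⟩
    · exact ⟨hS, Or.inr ⟨h, Or.inr (h ▸ h')⟩⟩
  · rintro ⟨hS, h | ⟨h, h'⟩⟩
    · exact ⟨hS, Or.inl (Or.inl h)⟩
    · rcases Nat.eq_zero_or_pos D with h0 | h0
      · exact ⟨hS, Or.inr ⟨⟨h, h0.symm⟩, h ▸ h'.resolve_left (by omega)⟩⟩
      · exact ⟨hS, Or.inl (Or.inr ⟨h, h0⟩)⟩

theorem sub_lin {c a A M t : ℕ} (ha : a = c * A + M) (ht : t ≤ A) : a - c * t = c * (A - t) + M := by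
  subst ha
  have := Nat.mul_le_mul_left c ht
  rw [Nat.mul_sub]
  omega

/-! ### Totally singular spaces -/

/-- The deficit in twice the Witt index. -/
def dlt (n i : ℕ) (ε : ℤ) (S : ℕ) : ℕ := if n % 2 = 1 then 1 else if ε = bS i S then 0 else 2

/-- One linear condition. -/
def Le3 (c u G X D : ℕ) : Prop :=
  (X ≤ D ∧ u ≤ G) ∨ (D < X ∧ X ≤ D + c ∧ u + 1 ≤ G) ∨ (D + c < X ∧ u + 2 ≤ G)

theorem wN_iff {n i B D : ℕ} (ε : ℤ) (hi : 0 < i) (hn : n = cD i * B + D) (hD : D < cD i) {S : ℕ}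
    (hS : AdmN n i ε S) (y : ℕ) : y ≤ wN n i ε S ↔ 2 * y + dlt n i ε S ≤ n - cD i * S := by
  have hpar : cD i * S % 2 = 0 := by
    unfold cD
    split_ifs with h
    · rw [Nat.mul_mod, Nat.even_iff.1 h, zero_mul, Nat.zero_mod]
    · rw [mul_assoc, Nat.mul_mod_right]
  unfold wN dlt
  simp only [Nat.odd_iff]
  rcases hS.2 with h | ⟨h, h'⟩
  · split_ifs <;> omega
  · rw [if_pos (Or.inr h'), if_neg (show ¬ n % 2 = 1 by omega), if_pos h']
    omega

theorem ts_even {n m i r B D a l : ℕ} (ε : ℤ) (hev : i % 2 = 0) (hn : n = i * B + D) (hD : D < i)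
    (hm : m = i * a + l) (hl : l < i) :
    CritTS n m i r ε ↔ ∀ S, 1 ≤ S → (S < B ∨ (S = B ∧ (0 < D ∨ ε = bS i B))) →
      Le3 i (2 * (a - (S + 1 - (r - 1) / i) / 2)) (B - S) (2 * l + dlt n i ε S) D := by
  have hc := cD_of_even hev
  refine forall_congr' fun S => ?_
  rw [adm_iff ε (by rwa [hc]) (by rwa [hc]) S, and_imp]
  refine imp_congr_right fun h1 => imp_congr_right fun h2 => ?_
  have hAdm : AdmN n i ε S := (adm_iff ε (by rwa [hc]) (by rwa [hc]) S).2 ⟨h1, h2⟩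
  have hSB : S ≤ B := by omega
  have hdl : dlt n i ε S ≤ 2 := by unfold dlt; split_ifs <;> omega
  rw [tN_of_even r S hev]
  have key : ∀ k ≤ a, (m - i * k ≤ wN n i ε S ↔ Le3 i (2 * (a - k)) (B - S) (2 * l + dlt n i ε S) D) := by
    intro k hk
    rw [wN_iff ε (by omega) (by rwa [hc]) (by rwa [hc]) hAdm, hc, sub_lin hm hk, sub_lin hn hSB, Le3,
      ← le_three hD (by omega)]
    ring_nf
  constructor
  · rintro ⟨k, hk, hkm, hle⟩
    have hka : k ≤ a := by
      by_contra hc'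
      have := Nat.mul_le_mul_left i (Nat.succ_le_of_lt (Nat.lt_of_not_le hc'))
      rw [Nat.mul_succ] at this
      omega
    rw [key k hka] at hle
    unfold Le3 at hle ⊢
    omega
  · intro h
    have hka : min a ((S + 1 - (r - 1) / i) / 2) ≤ a := min_le_left _ _
    refine ⟨min a ((S + 1 - (r - 1) / i) / 2), min_le_right _ _, ?_, (key _ hka).2 ?_⟩
    · have := Nat.mul_le_mul_left i hka
      omega
    · rwa [show a - min a ((S + 1 - (r - 1) / i) / 2) = a - (S + 1 - (r - 1) / i) / 2 by omega]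

theorem ts_odd {n m i r B D a l : ℕ} (ε : ℤ) (hod : i % 2 = 1) (hn : n = 2 * i * B + D) (hD : D < 2 * i)
    (hm : m = i * a + l) (hl : l < i) :
    CritTS n m i r ε ↔ ∀ S, 1 ≤ S → (S < B ∨ (S = B ∧ (0 < D ∨ ε = bS i B))) →
      Le3 (2 * i) (a - S) (B - S) (2 * l + dlt n i ε S) D := by
  have hc := cD_of_odd hod
  refine forall_congr' fun S => ?_
  rw [adm_iff ε (by rwa [hc]) (by rwa [hc]) S, and_imp]
  refine imp_congr_right fun h1 => imp_congr_right fun h2 => ?_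
  have hAdm : AdmN n i ε S := (adm_iff ε (by rwa [hc]) (by rwa [hc]) S).2 ⟨h1, h2⟩
  have hSB : S ≤ B := by omega
  have hdl : dlt n i ε S ≤ 2 := by unfold dlt; split_ifs <;> omega
  rw [tN_of_odd r S hod]
  have key : ∀ k ≤ a, (m - i * k ≤ wN n i ε S ↔ Le3 (2 * i) (a - k) (B - S) (2 * l + dlt n i ε S) D) := by
    intro k hk
    rw [wN_iff ε (by omega) (by rwa [hc]) (by rwa [hc]) hAdm, hc, sub_lin hm hk, sub_lin hn hSB, Le3,
      ← le_three hD (by omega)]
    ring_nf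
  constructor
  · rintro ⟨k, hk, hkm, hle⟩
    have hka : k ≤ a := by
      by_contra hc'
      have := Nat.mul_le_mul_left i (Nat.succ_le_of_lt (Nat.lt_of_not_le hc'))
      rw [Nat.mul_succ] at this
      omega
    rw [key k hka] at hle
    unfold Le3 at hle ⊢
    omega
  · intro h
    have hka : min a S ≤ a := min_le_left _ _
    refine ⟨min a S, min_le_right _ _, ?_, (key _ hka).2 ?_⟩
    · have := Nat.mul_le_mul_left i hka
      omega
    · rwa [show a - min a S = a - S by omega]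

/-! ### Non-degenerate spaces -/

theorem nd_lin {n m i B D A M : ℕ} (ε s : ℤ) (hn : n = cD i * B + D) (hD : D < cD i)
    (hm : m = cD i * A + M) (hM : M < cD i) :
    CritND n m i ε s ↔ ∀ S, 1 ≤ S → (S < B ∨ (S = B ∧ (0 < D ∨ ε = bS i B))) →
      ((M = 0 ∧ A ≤ S ∧ bS i A = s) ∨
       (0 < M ∧ (A - S < B - S ∨ (A - S = B - S ∧ (M < D ∨ (M = D ∧ ε * bS i (S + min A S) = s))))) ∨
       (M = 0 ∧ 0 < A ∧ (A - min (A - 1) S < B - S ∨
          (A - min (A - 1) S = B - S ∧ (0 < D ∨ (D = 0 ∧ ε * bS i (S + min (A - 1) S) = s)))))) := by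
  refine forall_congr' fun S => ?_
  rw [adm_iff ε hn hD S, and_imp]
  refine imp_congr_right fun h1 => imp_congr_right fun h2 => ?_
  have hSB : S ≤ B := by omega
  have tle : ∀ t, cD i * t ≤ m → t ≤ A := by
    intro t ht
    by_contra hc'
    have := Nat.mul_le_mul_left (cD i) (Nat.succ_le_of_lt (Nat.lt_of_not_le hc'))
    rw [Nat.mul_succ] at this
    omega
  have teq : ∀ t, (cD i * t = m ↔ t = A ∧ M = 0) := fun t => by
    rw [hm, show cD i * t = cD i * t + 0 by rfl, lex_eq (by omega) hM]; tauto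
  have tlt : ∀ t, (cD i * t < m ↔ t < A ∨ (t = A ∧ 0 < M)) := fun t => by
    rw [hm, show cD i * t = cD i * t + 0 by rfl, lex_lt (by omega) hM]
  have clt : ∀ t ≤ A, (m - cD i * t < n - cD i * S ↔ A - t < B - S ∨ (A - t = B - S ∧ M < D)) := fun t ht => by
    rw [sub_lin hm ht, sub_lin hn hSB, lex_lt hM hD]
  have ceq : ∀ t ≤ A, (m - cD i * t = n - cD i * S ↔ A - t = B - S ∧ M = D) := fun t ht => by
    rw [sub_lin hm ht, sub_lin hn hSB, lex_eq hM hD]
  constructor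
  · rintro ⟨t, htS, htm, ⟨h, h'⟩ | ⟨h, h'⟩⟩
    · obtain ⟨rfl, hM0⟩ := (teq t).1 h
      exact Or.inl ⟨hM0, htS, h'⟩
    · have htA := tle t htm
      rw [tlt] at h
      rw [clt t htA, ceq t htA, mul_assoc, bS_mul] at h'
      rcases Nat.eq_zero_or_pos M with hM0 | hM0
      · refine Or.inr (Or.inr ⟨hM0, by omega, ?_⟩)
        rcases h' with (h' | ⟨h', h''⟩) | ⟨⟨h', h''⟩, h3⟩
        · exact Or.inl (by omega)
        · rcases eq_or_ne t (min (A - 1) S) with rfl | hne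
          · exact Or.inr ⟨h', Or.inl (by omega)⟩
          · exact Or.inl (by omega)
        · rcases eq_or_ne t (min (A - 1) S) with rfl | hne
          · exact Or.inr ⟨h', Or.inr ⟨by omega, h3⟩⟩
          · exact Or.inl (by omega)
      · refine Or.inr (Or.inl ⟨hM0, ?_⟩)
        rcases eq_or_ne t (min A S) with rfl | hne
        · rw [show A - min A S = A - S by omega] at h'
          rcases h' with (h' | ⟨h', h''⟩) | ⟨⟨h', h''⟩, h3⟩
          · exact Or.inl h'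
          · exact Or.inr ⟨h', Or.inl h''⟩
          · exact Or.inr ⟨h', Or.inr ⟨h'', h3⟩⟩
        · exact Or.inl (by omega)
  · rintro (⟨hM0, hA, hs⟩ | ⟨hM0, h⟩ | ⟨hM0, hA, h⟩)
    · exact ⟨A, hA, le_of_eq ((teq A).2 ⟨rfl, hM0⟩), Or.inl ⟨(teq A).2 ⟨rfl, hM0⟩, hs⟩⟩
    · have hlt : cD i * min A S < m := (tlt _).2 (by omega)
      refine ⟨min A S, min_le_right _ _, hlt.le, Or.inr ⟨hlt, ?_⟩⟩
      rw [clt _ (min_le_left _ _), ceq _ (min_le_left _ _), mul_assoc, bS_mul,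
        show A - min A S = A - S by omega]
      tauto
    · have hle : min (A - 1) S ≤ A := by omega
      have hlt : cD i * min (A - 1) S < m := (tlt _).2 (by omega)
      refine ⟨min (A - 1) S, min_le_right _ _, hlt.le, Or.inr ⟨hlt, ?_⟩⟩
      rw [clt _ hle, ceq _ hle, mul_assoc, bS_mul, hM0]
      tauto

theorem odd_lin {n m i B D A M : ℕ} (ε : ℤ) (hn : n = cD i * B + D) (hD : D < cD i)
    (hm : m = cD i * A + M) (hM : M < cD i) (hM0 : 0 < M) :
    CritOdd n m i ε ↔ ∀ S, 1 ≤ S → (S < B ∨ (S = B ∧ (0 < D ∨ ε = bS i B))) →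
      (A - S < B - S ∨ (A - S = B - S ∧ M ≤ D)) := by
  refine forall_congr' fun S => ?_
  rw [adm_iff ε hn hD S, and_imp]
  refine imp_congr_right fun h1 => imp_congr_right fun h2 => ?_
  have hSB : S ≤ B := by omega
  have tlt : ∀ t, (cD i * t < m ↔ t ≤ A) := fun t => by
    rw [hm, show cD i * t = cD i * t + 0 by rfl, lex_lt (by omega) hM]
    omega
  have cle : ∀ t ≤ A, (m - cD i * t ≤ n - cD i * S ↔ A - t < B - S ∨ (A - t = B - S ∧ M ≤ D)) := fun t ht => by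
    rw [sub_lin hm ht, sub_lin hn hSB, le_iff_lt_or_eq, lex_lt hM hD, lex_eq hM hD]
    omega
  constructor
  · rintro ⟨t, htS, htm, h⟩
    rw [tlt] at htm
    rw [cle t htm] at h
    omega
  · intro h
    refine ⟨min A S, min_le_right _ _, (tlt _).2 (min_le_left _ _), (cle _ (min_le_left _ _)).2 ?_⟩
    rwa [show A - min A S = A - S by omega]

end Cfsg.Agent.Lib.OrthPrime.Arith
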