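import Mathlib
import Cfsg.Agent.Lib.OrthPrime.Arith

/-!
The closed forms of the criteria.
-/

set_option autoImplicit false

namespace Cfsg.Agent.Lib.OrthPrime.Arith

theorem cmp_bound {c u G X D : ℕ} (h : c * u + X ≤ c * G + D) (hD : D < c) (hX : X ≤ D + 2 * c) : Le3 c u G X D :=
  (le_three hD hX).1 h

theorem two_sub (a S N G : ℕ) : 2 * (a - (S + 1 - N) / 2) ≤ G ↔
    2 * a ≤ G ∨ 2 * a + N + G % 2 ≤ G + S + 1 := by omega

theorem two_sub_one (a S N G : ℕ) : 2 * (a - (S + 1 - N) / 2) + 1 ≤ G ↔
    2 * a + 1 ≤ G ∨ (1 ≤ G ∧ 2 * a + N + 1 + (G + 1) % 2 ≤ G + S + 1) := by omega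

theorem two_sub_two (a S N G : ℕ) : 2 * (a - (S + 1 - N) / 2) + 2 ≤ G ↔
    2 * a + 2 ≤ G ∨ (2 ≤ G ∧ 2 * a + N + 2 + G % 2 ≤ G + S + 1) := by omega

theorem ts_odd_form {d m i r : ℕ} (hi : 0 < i) (him : i ≤ m) (hmd : m ≤ d) (hN : 1 ≤ (r - 1) / i) :
    CritTS (2 * d + 1) m i r (-1) ↔
      2 * (m % i) < (2 * d + 1) % cD i ∧ (Odd i ∨ (r - 1) / i + 2 * (m / i) ≤ (2 * d + 1) / i) := by
  have hm := (Nat.div_add_mod m i).symm
  have hl := Nat.mod_lt m hi
  have ha : 0 < m / i := Nat.div_pos him hi
  rw [Nat.odd_iff]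
  generalize hN' : (r - 1) / i = N at hN
  generalize m / i = a at hm ha
  generalize m % i = l at hm hl
  rcases Nat.mod_two_eq_zero_or_one i with hev | hod
  · rw [cD_of_even hev]
    have hn := (Nat.div_add_mod (2 * d + 1) i).symm
    have hD := Nat.mod_lt (2 * d + 1) hi
    generalize (2 * d + 1) / i = B at hn
    generalize (2 * d + 1) % i = D at hn hD
    rw [ts_even _ hev hn hD hm hl, hN']
    have hb := cmp_bound (c := i) (u := 2 * a) (G := B) (X := 2 * l + 1) (D := D) (by rw [mul_left_comm]; omega) hD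
      (by omega)
    have hdl : ∀ S, dlt (2 * d + 1) i (-1) S = 1 := fun S => if_pos (by omega)
    have hDp : 0 < D := by
      rcases Nat.eq_zero_or_pos D with rfl | h
      · exfalso
        have h1 : i * B % 2 = 0 := by rw [Nat.mul_mod, hev, zero_mul, Nat.zero_mod]
        omega
      · exact h
    simp only [hdl]
    unfold Le3 at hb ⊢
    constructor
    · intro h
      have h1 := h B (by omega) (Or.inr ⟨rfl, Or.inl hDp⟩)
      have h2 := h (B - 1)
      simp only [imp_iff_not_or] at h2
      omega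
    · intro h S hS hadm
      replace hadm : S ≤ B := by omega
      omega
  · rw [cD_of_odd hod]
    have hn := (Nat.div_add_mod (2 * d + 1) (2 * i)).symm
    have hD := Nat.mod_lt (2 * d + 1) (show 0 < 2 * i by omega)
    generalize (2 * d + 1) / (2 * i) = B at hn
    generalize (2 * d + 1) % (2 * i) = D at hn hD
    rw [ts_odd _ hod hn hD hm hl]
    have hb := cmp_bound (c := 2 * i) (u := a) (G := B) (X := 2 * l + 1) (D := D)
      (by simp only [mul_assoc] at hn ⊢; omega) hD (by omega)
    have hdl : ∀ S, dlt (2 * d + 1) i (-1) S = 1 := fun S => if_pos (by omega)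
    have hDp : 0 < D := by simp only [mul_assoc] at hn; omega
    simp only [hdl]
    unfold Le3 at hb ⊢
    constructor
    · intro h
      have h1 := h B (by omega) (Or.inr ⟨rfl, Or.inl hDp⟩)
      have h2 := h (B - 1)
      simp only [imp_iff_not_or] at h2
      omega
    · intro h S hS hadm
      replace hadm : S ≤ B := by omega
      omega

theorem ts_plus_form {d m i r : ℕ} (hi : 0 < i) (him : i ≤ m) (hmd : m < d) (hN : 1 ≤ (r - 1) / i) :
    CritTS (2 * d) m i r 1 ↔
      ((Odd i ∧ 2 * (m % i) ≤ (2 * d) % cD i) ∨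
       (Even i ∧ (r - 1) / i + 2 * (m / i) ≤ (2 * d) / i ∧
        ((2 * (m % i) ≤ i ∧ (2 * d) % cD i = 0 ∧ Odd ((2 * d) / i) ∧ (r - 1) / i + 2 * (m / i) < (2 * d) / i) ∨
         (2 * (m % i) ≤ (2 * d) % cD i ∧ Even ((2 * d) / i)) ∨
         (2 * (m % i) < (2 * d) % cD i ∧ Odd ((2 * d) / i))))) := by
  have hm := (Nat.div_add_mod m i).symm
  have hl := Nat.mod_lt m hi
  have ha : 0 < m / i := Nat.div_pos him hi
  simp only [Nat.odd_iff, Nat.even_iff]
  generalize hN' : (r - 1) / i = N at hN
  generalize m / i = a at hm ha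
  generalize m % i = l at hm hl
  rcases Nat.mod_two_eq_zero_or_one i with hev | hod
  · rw [cD_of_even hev]
    have hn := (Nat.div_add_mod (2 * d) i).symm
    have hD := Nat.mod_lt (2 * d) hi
    generalize (2 * d) / i = B at hn
    generalize (2 * d) % i = D at hn hD
    rw [ts_even _ hev hn hD hm hl, hN']
    have hb := cmp_bound (c := i) (u := 2 * a) (G := B) (X := 2 * l + 2) (D := D) (by rw [mul_left_comm]; omega) hD
      (by omega)
    have hDe : D % 2 = 0 := by
      have h1 : i * B % 2 = 0 := by rw [Nat.mul_mod, hev, zero_mul, Nat.zero_mod]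
      omega
    have hdl : ∀ S, dlt (2 * d) i 1 S = if S % 2 = 0 then 0 else 2 := fun S => by
      simp [dlt, one_eq_bS, hev]
    simp only [hdl, one_eq_bS, hev, true_implies]
    unfold Le3 at hb ⊢
    constructor
    · intro h
      have h1 := h B
      have h2 := h (B - 1)
      have h3 := h (B - 2)
      simp only [two_sub, two_sub_one, two_sub_two, imp_iff_not_or] at h1 h2 h3
      have hB2 : 2 ≤ B := by omega
      have e1 : B - (B - 1) = 1 := by omega
      have e2 : B - (B - 2) = 2 := by omega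
      have e3 : B - 1 + 1 = B := by omega
      have e4 : 2 * a ≠ 1 := by omega
      rcases Nat.mod_two_eq_zero_or_one B with hB | hB
      · have p1 : (B - 1) % 2 = 1 := by omega
        have p2 : (B - 2) % 2 = 0 := by omega
        rcases Nat.eq_zero_or_pos D with hD0 | hD0
        · subst hD0
          simp [hB, p1, p2, e1, e2, hB2, hev] at h1 h2 h3 ⊢ <;> omega
        · simp [hB, p1, p2, e1, e2, hB2, hev, hD0, hD0.ne'] at h1 h2 h3 ⊢ <;> omega
      · have p1 : (B - 1) % 2 = 0 := by omega
        have p2 : (B - 2) % 2 = 1 := by omega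
        rcases Nat.eq_zero_or_pos D with hD0 | hD0
        · subst hD0
          simp [hB, p1, p2, e1, e2, hB2, hev] at h1 h2 h3 ⊢ <;> omega
        · simp [hB, p1, p2, e1, e2, hB2, hev, hD0, hD0.ne'] at h1 h2 h3 ⊢ <;> omega
    · intro h S hS hadm
      simp only [two_sub, two_sub_one, two_sub_two]
      rcases Nat.mod_two_eq_zero_or_one B with hB | hB <;> split_ifs <;> omega
  · rw [cD_of_odd hod]
    have hn := (Nat.div_add_mod (2 * d) (2 * i)).symm
    have hD := Nat.mod_lt (2 * d) (show 0 < 2 * i by omega)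
    generalize (2 * d) / (2 * i) = B at hn
    generalize (2 * d) % (2 * i) = D at hn hD
    rw [ts_odd _ hod hn hD hm hl]
    have hb := cmp_bound (c := 2 * i) (u := a) (G := B) (X := 2 * l + 2) (D := D)
      (by simp only [mul_assoc] at hn ⊢; omega) hD (by omega)
    have hDe : D % 2 = 0 := by simp only [mul_assoc] at hn; omega
    have hdl : ∀ S, dlt (2 * d) i 1 S = 0 := fun S => by
      simp [dlt, one_eq_bS, hod]
    simp only [hdl, one_eq_bS, hod, one_ne_zero, IsEmpty.forall_iff, false_and, or_false, or_true, and_true,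
      true_and]
    unfold Le3 at hb ⊢
    constructor
    · intro h
      have h1 := h B
      simp [imp_iff_not_or] at h1
      omega
    · intro h S hS hadm
      omega

theorem ts_minus_form {d m i r : ℕ} (hi : 0 < i) (him : i ≤ m) (hmd : m + 1 ≤ d) (hN : 1 ≤ (r - 1) / i) :
    CritTS (2 * d) m i r (-1) ↔
      ((Odd i ∧ ((2 * d) % cD i = 0 ∨ 2 * (m % i) < (2 * d) % cD i)) ∨
       (Even i ∧ (r - 1) / i + 2 * (m / i) ≤ (2 * d) / i ∧
        ((2 * (m % i) ≤ i ∧ (2 * d) % cD i = 0 ∧ Even ((2 * d) / i) ∧ (r - 1) / i + 2 * (m / i) < (2 * d) / i) ∨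
         (2 * (m % i) ≤ (2 * d) % cD i ∧ Odd ((2 * d) / i)) ∨
         (2 * (m % i) < (2 * d) % cD i ∧ Even ((2 * d) / i))))) := by
  have hm := (Nat.div_add_mod m i).symm
  have hl := Nat.mod_lt m hi
  have ha : 0 < m / i := Nat.div_pos him hi
  simp only [Nat.odd_iff, Nat.even_iff]
  generalize hN' : (r - 1) / i = N at hN
  generalize m / i = a at hm ha
  generalize m % i = l at hm hl
  rcases Nat.mod_two_eq_zero_or_one i with hev | hod
  · rw [cD_of_even hev]
    have hn := (Nat.div_add_mod (2 * d) i).symm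
    have hD := Nat.mod_lt (2 * d) hi
    generalize (2 * d) / i = B at hn
    generalize (2 * d) % i = D at hn hD
    rw [ts_even _ hev hn hD hm hl, hN']
    have hb := cmp_bound (c := i) (u := 2 * a) (G := B) (X := 2 * l + 2) (D := D) (by rw [mul_left_comm]; omega) hD
      (by omega)
    have hDe : D % 2 = 0 := by
      have h1 : i * B % 2 = 0 := by rw [Nat.mul_mod, hev, zero_mul, Nat.zero_mod]
      omega
    have hdl : ∀ S, dlt (2 * d) i (-1) S = if S % 2 = 1 then 0 else 2 := fun S => by
      simp [dlt, neg_eq_bS, hev]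
    simp only [hdl, neg_eq_bS, hev, true_and]
    unfold Le3 at hb ⊢
    constructor
    · intro h
      have h1 := h B
      have h2 := h (B - 1)
      have h3 := h (B - 2)
      simp only [two_sub, two_sub_one, two_sub_two, imp_iff_not_or] at h1 h2 h3
      have hB2 : 2 ≤ B := by omega
      have e1 : B - (B - 1) = 1 := by omega
      have e2 : B - (B - 2) = 2 := by omega
      have e3 : B - 1 + 1 = B := by omega
      have e4 : 2 * a ≠ 1 := by omega
      rcases Nat.mod_two_eq_zero_or_one B with hB | hB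
      · have p1 : (B - 1) % 2 = 1 := by omega
        have p2 : (B - 2) % 2 = 0 := by omega
        rcases Nat.eq_zero_or_pos D with hD0 | hD0
        · subst hD0
          simp [hB, p1, p2, e1, e2, hB2, hev] at h1 h2 h3 ⊢ <;> omega
        · simp [hB, p1, p2, e1, e2, hB2, hev, hD0, hD0.ne'] at h1 h2 h3 ⊢ <;> omega
      · have p1 : (B - 1) % 2 = 0 := by omega
        have p2 : (B - 2) % 2 = 1 := by omega
        rcases Nat.eq_zero_or_pos D with hD0 | hD0
        · subst hD0
          simp [hB, p1, p2, e1, e2, hB2, hev] at h1 h2 h3 ⊢ <;> omega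
        · simp [hB, p1, p2, e1, e2, hB2, hev, hD0, hD0.ne'] at h1 h2 h3 ⊢ <;> omega
    · intro h S hS hadm
      simp only [two_sub, two_sub_one, two_sub_two]
      rcases Nat.mod_two_eq_zero_or_one B with hB | hB <;> split_ifs <;> omega
  · rw [cD_of_odd hod]
    have hn := (Nat.div_add_mod (2 * d) (2 * i)).symm
    have hD := Nat.mod_lt (2 * d) (show 0 < 2 * i by omega)
    generalize (2 * d) / (2 * i) = B at hn
    generalize (2 * d) % (2 * i) = D at hn hD
    rw [ts_odd _ hod hn hD hm hl]
    have hb := cmp_bound (c := 2 * i) (u := a) (G := B) (X := 2 * l + 2) (D := D)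
      (by simp only [mul_assoc] at hn ⊢; omega) hD (by omega)
    have hDe : D % 2 = 0 := by simp only [mul_assoc] at hn; omega
    have hdl : ∀ S, dlt (2 * d) i (-1) S = 2 := fun S => by
      simp [dlt, neg_eq_bS, hod]
    simp only [hdl, neg_eq_bS, hod, one_ne_zero, false_and, or_false, true_and]
    unfold Le3 at hb ⊢
    constructor
    · intro h
      have h1 := h B
      have h2 := h (B - 1)
      simp [imp_iff_not_or] at h1 h2
      omega
    · intro h S hS hadm
      omega

end Cfsg.Agent.Lib.OrthPrime.Arith
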