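import Mathlib
import Cfsg.Agent.Lib.OrthPrime.Arith

/-!
The closed forms of the criteria for non-degenerate spaces.
-/

set_option autoImplicit false
set_option maxHeartbeats 4000000

namespace Cfsg.Agent.Lib.OrthPrime.Arith

theorem one_mul_sign (i t : ℕ) (s : ℤ) : (1 : ℤ) * bS i t = s ↔ bS i t = s := by rw [one_mul]

theorem neg_mul_sign (i t : ℕ) (s : ℤ) : (-1 : ℤ) * bS i t = s ↔ bS i t = -s := by
  rw [neg_one_mul, neg_eq_iff_eq_neg]

theorem cD_pos {i : ℕ} (hi : 0 < i) : 0 < cD i := by unfold cD; split_ifs <;> omega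

theorem even_cD (i : ℕ) : cD i % 2 = 0 := by
  unfold cD; split_ifs with h
  · exact Nat.even_iff.1 h
  · omega

/-- Quotients and remainders for the block dimension. -/
theorem split_cD {i : ℕ} (hi : 0 < i) (n m : ℕ) :
    ∃ B D A M, n = cD i * B + D ∧ D < cD i ∧ D % 2 = n % 2 ∧ m = cD i * A + M ∧ M < cD i ∧ M % 2 = m % 2 ∧
      B = n / cD i ∧ D = n % cD i ∧ A = m / cD i ∧ M = m % cD i ∧ (cD i ≤ m ↔ 1 ≤ A) := by
  have hc := cD_pos hi
  refine ⟨_, _, _, _, (Nat.div_add_mod n _).symm, Nat.mod_lt _ hc, ?_, (Nat.div_add_mod m _).symm, Nat.mod_lt _ hc,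
    ?_, rfl, rfl, rfl, rfl, ?_⟩
  · exact Nat.mod_mod_of_dvd _ (Nat.dvd_of_mod_eq_zero (even_cD i))
  · exact Nat.mod_mod_of_dvd _ (Nat.dvd_of_mod_eq_zero (even_cD i))
  · exact ⟨fun h => Nat.div_pos h hc, fun h => Nat.le_of_not_lt fun h' => by rw [Nat.div_eq_of_lt h'] at h; omega⟩

theorem lt_coords {c A M B D n m : ℕ} (hn : n = c * B + D) (hD : D < c) (hm : m = c * A + M) (hM : M < c)
    (h : m < n) : A < B ∨ (A = B ∧ M < D) := (lex_lt hM hD).1 (by omega)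

theorem half_coords {c A M B D n m : ℕ} (hn : n = c * B + D) (hD : D < c) (hm : m = c * A + M) (hM : M < c)
    (h : 2 * m + 2 ≤ n) :
    (2 * M + 2 ≤ D ∧ 2 * A ≤ B) ∨ (D < 2 * M + 2 ∧ 2 * M + 2 ≤ D + c ∧ 2 * A + 1 ≤ B) ∨
      (D + c < 2 * M + 2 ∧ 2 * A + 2 ≤ B) :=
  (le_three hD (by omega)).1 (by rw [mul_left_comm]; omega)

theorem div_sum {i n m B D A M : ℕ} (hev : i % 2 = 0) (hi : 0 < i) (hn : n = cD i * B + D)
    (hm : m = cD i * A + M) (h : M = D) : (n + m - 2 * D) / i = B + A := by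
  rw [cD_of_even hev] at hn hm
  rw [show n + m - 2 * D = i * (B + A) by rw [mul_add]; omega, Nat.mul_div_cancel_left _ hi]

theorem nd_5992 {d m i : ℕ} (hi : 0 < i) (hme : m % 2 = 0) (hm : 2 ≤ m) (hmn : m ≤ 2 * d) :
    ((Odd i ∧ cD i ≤ m ∧ (m % cD i = 0 ∨ (0 < m % cD i ∧ m % cD i < (2 * d + 1) % cD i))) ∨
       (Even i ∧ i ≤ m ∧ m % cD i < (2 * d + 1) % cD i ∧ (0 < m % cD i ∨ Even (m / i))) →
      CritND (2 * d + 1) m i (-1) 1) ∧
    (cD i ≤ m → CritND (2 * d + 1) m i (-1) 1 →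
      (Odd i ∧ cD i ≤ m ∧ (m % cD i = 0 ∨ (0 < m % cD i ∧ m % cD i < (2 * d + 1) % cD i))) ∨
       (Even i ∧ i ≤ m ∧ m % cD i < (2 * d + 1) % cD i ∧ (0 < m % cD i ∨ Even (m / i)))) := by
  obtain ⟨B, D, A, M, hn, hD, hDp, hmA, hM, hMp, hB', hD', hA', hM', hA1⟩ := split_cD hi (2 * d + 1) m
  have hrel := lt_coords hn hD hmA hM (by omega)
  rw [nd_lin (-1) 1 hn hD hmA hM, ← hD', ← hM', hA1]
  simp only [Nat.odd_iff, Nat.even_iff, neg_mul_sign, neg_eq_bS, bS_neg, bS_one]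
  rcases Nat.mod_two_eq_zero_or_one i with hev | hod
  · have hc := cD_of_even hev
    rw [hc] at hn hD hmA hM hB' hA' hA1
    rw [← hA', show (i ≤ m ↔ 1 ≤ A) from hA1]
    simp [hev]
    refine ⟨by intros; omega, fun h1 h => ?_⟩
    · have hh := h B
      have hh' := h (B - 1)
      simp [imp_iff_not_or] at hh hh'
      omega
  · simp [hod]
    refine ⟨by intros; omega, fun h1 h => ?_⟩
    · have hh := h B
      have hh' := h (B - 1)
      simp [imp_iff_not_or] at hh hh'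
      omega

theorem nd_5993 {d m i : ℕ} (hi : 0 < i) (hme : m % 2 = 0) (hm : 2 ≤ m) (hmn : m ≤ 2 * d) :
    ((Odd i ∧ cD i ≤ m ∧ 0 < m % cD i ∧ m % cD i < (2 * d + 1) % cD i) ∨
       (Even i ∧ i ≤ m ∧ m % cD i < (2 * d + 1) % cD i ∧ (0 < m % cD i ∨ Odd (m / i))) →
      CritND (2 * d + 1) m i (-1) (-1)) ∧
    (cD i ≤ m → CritND (2 * d + 1) m i (-1) (-1) →
      (Odd i ∧ cD i ≤ m ∧ 0 < m % cD i ∧ m % cD i < (2 * d + 1) % cD i) ∨
       (Even i ∧ i ≤ m ∧ m % cD i < (2 * d + 1) % cD i ∧ (0 < m % cD i ∨ Odd (m / i)))) := by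
  obtain ⟨B, D, A, M, hn, hD, hDp, hmA, hM, hMp, hB', hD', hA', hM', hA1⟩ := split_cD hi (2 * d + 1) m
  have hrel := lt_coords hn hD hmA hM (by omega)
  have hA0 : 0 < M ∨ 1 ≤ A := by
    rcases Nat.eq_zero_or_pos A with rfl | h
    · left; simp at hmA; omega
    · exact Or.inr h
  rw [nd_lin (-1) (-1) hn hD hmA hM, ← hD', ← hM', hA1]
  simp only [Nat.odd_iff, Nat.even_iff, one_eq_bS, neg_eq_bS, bS_neg, bS_one, neg_mul_sign, neg_neg]
  rcases Nat.mod_two_eq_zero_or_one i with hev | hod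
  · have hc := cD_of_even hev
    rw [hc] at hn hD hmA hM hB' hA' hA1
    rw [← hA', show (i ≤ m ↔ 1 ≤ A) from hA1]
    simp [hev]
    clear hn hmA hB' hD' hA' hM' hA1
    refine ⟨by intros; omega, fun h1 h => ?_⟩
    have hh := h B
    have hh' := h (B - 1)
    simp [imp_iff_not_or] at hh hh'
    omega
  · simp [hod]
    clear hn hmA hB' hD' hA' hM' hA1
    refine ⟨by intros; omega, fun h1 h => ?_⟩
    have hh := h B
    have hh' := h (B - 1)
    simp [imp_iff_not_or] at hh hh'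
    omega

theorem nd_5974 {d m i : ℕ} (hi : 0 < i) (hme : m % 2 = 0) (hm : 2 ≤ m) (hmn : m < d) :
    ((Odd i ∧ cD i ≤ m ∧ m % cD i ≤ (2 * d) % cD i) ∨
       (Even i ∧
        (((2 * d) % cD i = 0 ∧ (Odd ((2 * d) / i) ∨ (m % cD i = 0 ∧ Even (m / i)))) ∨
         (i ≤ m ∧ ((m % cD i < (2 * d) % cD i ∧ 0 < m % cD i) ∨
                   ((2 * d) % cD i = m % cD i ∧ 0 < m % cD i ∧ Even ((2 * d + m - 2 * ((2 * d) % cD i)) / i)) ∨
                   (0 < (2 * d) % cD i ∧ m % cD i = 0 ∧ Even (m / i)))))) →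
      CritND (2 * d) m i (1) (1)) ∧
    (cD i ≤ m → CritND (2 * d) m i (1) (1) →
      (Odd i ∧ cD i ≤ m ∧ m % cD i ≤ (2 * d) % cD i) ∨
       (Even i ∧
        (((2 * d) % cD i = 0 ∧ (Odd ((2 * d) / i) ∨ (m % cD i = 0 ∧ Even (m / i)))) ∨
         (i ≤ m ∧ ((m % cD i < (2 * d) % cD i ∧ 0 < m % cD i) ∨
                   ((2 * d) % cD i = m % cD i ∧ 0 < m % cD i ∧ Even ((2 * d + m - 2 * ((2 * d) % cD i)) / i)) ∨
                   (0 < (2 * d) % cD i ∧ m % cD i = 0 ∧ Even (m / i))))))) := by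
  obtain ⟨B, D, A, M, hn, hD, hDp, hmA, hM, hMp, hB', hD', hA', hM', hA1⟩ := split_cD hi (2 * d) m
  have hrel := lt_coords hn hD hmA hM (by omega)
  have hA0 : 0 < M ∨ 1 ≤ A := by
    rcases Nat.eq_zero_or_pos A with rfl | h
    · left; simp at hmA; omega
    · exact Or.inr h
  have hhalf := half_coords hn hD hmA hM (by omega)
  rw [nd_lin (1) (1) hn hD hmA hM, ← hD', ← hM', hA1]
  simp only [Nat.odd_iff, Nat.even_iff, one_eq_bS, neg_eq_bS, bS_neg, bS_one, one_mul_sign, neg_neg]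
  rcases Nat.mod_two_eq_zero_or_one i with hev | hod
  · have hc := cD_of_even hev
    have hE : M = D → (2 * d + m - 2 * D) / i = B + A := div_sum hev hi hn hmA
    simp only [imp_iff_not_or] at hE
    rw [hc] at hn hD hmA hM hB' hA' hA1
    rw [← hA', show (i ≤ m ↔ 1 ≤ A) from hA1]
    rw [← hB']
    generalize (2 * d + m - 2 * D) / i = E at hE
    simp [hev]
    clear hn hmA hB' hD' hA' hM' hA1
    refine ⟨by intros; omega, fun h1 h => ?_⟩
    have hh := h B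
    have hh' := h (B - 1)
    simp [imp_iff_not_or] at hh hh'
    omega
  · simp [hod]
    clear hn hmA hB' hD' hA' hM' hA1
    refine ⟨by intros; omega, fun h1 h => ?_⟩
    have hh := h B
    have hh' := h (B - 1)
    simp [imp_iff_not_or] at hh hh'
    omega

theorem nd_5988 {d m i : ℕ} (hi : 0 < i) (hme : m % 2 = 0) (hm : 2 ≤ m) (hmn : m < d) :
    ((Odd i ∧ cD i ≤ m ∧ 0 < m % cD i ∧ m % cD i < (2 * d) % cD i) ∨
       (Even i ∧
        (((2 * d) % cD i = 0 ∧ (Odd ((2 * d) / i) ∨ (m % cD i = 0 ∧ Odd (m / i)))) ∨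
         (i ≤ m ∧ ((0 < m % cD i ∧ m % cD i < (2 * d) % cD i) ∨
                   (0 < m % cD i ∧ m % cD i = (2 * d) % cD i ∧ Odd ((2 * d + m - 2 * ((2 * d) % cD i)) / i)) ∨
                   (m % cD i = 0 ∧ 0 < (2 * d) % cD i ∧ Odd (m / i)))))) →
      CritND (2 * d) m i (1) (-1)) ∧
    (cD i ≤ m → CritND (2 * d) m i (1) (-1) →
      (Odd i ∧ cD i ≤ m ∧ 0 < m % cD i ∧ m % cD i < (2 * d) % cD i) ∨
       (Even i ∧
        (((2 * d) % cD i = 0 ∧ (Odd ((2 * d) / i) ∨ (m % cD i = 0 ∧ Odd (m / i)))) ∨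
         (i ≤ m ∧ ((0 < m % cD i ∧ m % cD i < (2 * d) % cD i) ∨
                   (0 < m % cD i ∧ m % cD i = (2 * d) % cD i ∧ Odd ((2 * d + m - 2 * ((2 * d) % cD i)) / i)) ∨
                   (m % cD i = 0 ∧ 0 < (2 * d) % cD i ∧ Odd (m / i))))))) := by
  obtain ⟨B, D, A, M, hn, hD, hDp, hmA, hM, hMp, hB', hD', hA', hM', hA1⟩ := split_cD hi (2 * d) m
  have hrel := lt_coords hn hD hmA hM (by omega)
  have hA0 : 0 < M ∨ 1 ≤ A := by
    rcases Nat.eq_zero_or_pos A with rfl | h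
    · left; simp at hmA; omega
    · exact Or.inr h
  have hhalf := half_coords hn hD hmA hM (by omega)
  rw [nd_lin (1) (-1) hn hD hmA hM, ← hD', ← hM', hA1]
  simp only [Nat.odd_iff, Nat.even_iff, one_eq_bS, neg_eq_bS, bS_neg, bS_one, one_mul_sign, neg_neg]
  rcases Nat.mod_two_eq_zero_or_one i with hev | hod
  · have hc := cD_of_even hev
    have hE : M = D → (2 * d + m - 2 * D) / i = B + A := div_sum hev hi hn hmA
    simp only [imp_iff_not_or] at hE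
    rw [hc] at hn hD hmA hM hB' hA' hA1
    rw [← hA', show (i ≤ m ↔ 1 ≤ A) from hA1]
    rw [← hB']
    generalize (2 * d + m - 2 * D) / i = E at hE
    simp [hev]
    clear hn hmA hB' hD' hA' hM' hA1
    refine ⟨by intros; omega, fun h1 h => ?_⟩
    have hh := h B
    have hh' := h (B - 1)
    simp [imp_iff_not_or] at hh hh'
    omega
  · simp [hod]
    clear hn hmA hB' hD' hA' hM' hA1
    refine ⟨by intros; omega, fun h1 h => ?_⟩
    have hh := h B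
    have hh' := h (B - 1)
    simp [imp_iff_not_or] at hh hh'
    omega

theorem nd_5990 {d m i : ℕ} (hi : 0 < i) (hme : m % 2 = 0) (hm : 2 ≤ m) (hmn : m + 2 ≤ 2 * d) :
    ((Odd i ∧ ((2 * d) % cD i = 0 ∨ (cD i ≤ m ∧ 0 < m % cD i ∧ m % cD i ≤ (2 * d) % cD i))) ∨
       (Even i ∧
        (((2 * d) % cD i = 0 ∧ (Even ((2 * d) / i) ∨ (m % cD i = 0 ∧ Odd (m / i)))) ∨
         (0 < (2 * d) % cD i ∧ i ≤ m ∧ ((0 < m % cD i ∧ m % cD i < (2 * d) % cD i) ∨ (m % cD i = 0 ∧ Odd (m / i)) ∨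
                   (m % cD i = (2 * d) % cD i ∧ Even ((2 * d + m - 2 * ((2 * d) % cD i)) / i)))))) →
      CritND (2 * d) m i (-1) (-1)) ∧
    (cD i ≤ m → CritND (2 * d) m i (-1) (-1) →
      (Odd i ∧ ((2 * d) % cD i = 0 ∨ (cD i ≤ m ∧ 0 < m % cD i ∧ m % cD i ≤ (2 * d) % cD i))) ∨
       (Even i ∧
        (((2 * d) % cD i = 0 ∧ (Even ((2 * d) / i) ∨ (m % cD i = 0 ∧ Odd (m / i)))) ∨
         (0 < (2 * d) % cD i ∧ i ≤ m ∧ ((0 < m % cD i ∧ m % cD i < (2 * d) % cD i) ∨ (m % cD i = 0 ∧ Odd (m / i)) ∨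
                   (m % cD i = (2 * d) % cD i ∧ Even ((2 * d + m - 2 * ((2 * d) % cD i)) / i))))))) := by
  obtain ⟨B, D, A, M, hn, hD, hDp, hmA, hM, hMp, hB', hD', hA', hM', hA1⟩ := split_cD hi (2 * d) m
  have hrel := lt_coords hn hD hmA hM (by omega)
  have hA0 : 0 < M ∨ 1 ≤ A := by
    rcases Nat.eq_zero_or_pos A with rfl | h
    · left; simp at hmA; omega
    · exact Or.inr h
  rw [nd_lin (-1) (-1) hn hD hmA hM, ← hD', ← hM', hA1]
  simp only [Nat.odd_iff, Nat.even_iff, one_eq_bS, neg_eq_bS, bS_neg, bS_one, neg_mul_sign, neg_neg]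
  rcases Nat.mod_two_eq_zero_or_one i with hev | hod
  · have hc := cD_of_even hev
    have hE : M = D → (2 * d + m - 2 * D) / i = B + A := div_sum hev hi hn hmA
    simp only [imp_iff_not_or] at hE
    rw [hc] at hn hD hmA hM hB' hA' hA1
    rw [← hA', show (i ≤ m ↔ 1 ≤ A) from hA1]
    rw [← hB']
    generalize (2 * d + m - 2 * D) / i = E at hE
    simp [hev]
    clear hn hmA hB' hD' hA' hM' hA1
    refine ⟨by intros; omega, fun h1 h => ?_⟩
    have hh := h B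
    have hh' := h (B - 1)
    simp [imp_iff_not_or] at hh hh'
    omega
  · simp [hod]
    clear hn hmA hB' hD' hA' hM' hA1
    refine ⟨by intros; omega, fun h1 h => ?_⟩
    have hh := h B
    have hh' := h (B - 1)
    simp [imp_iff_not_or] at hh hh'
    omega

theorem nd_5989 {d m i : ℕ} (hi : 0 < i) (hm : m % 2 = 1) (hmn : m < d) :
    ((Odd i ∧ cD i ≤ m ∧ 0 < m % cD i ∧ m % cD i < (2 * d) % cD i) ∨
       (Even i ∧ (((2 * d) % cD i = 0 ∧ Odd ((2 * d) / i)) ∨ (i ≤ m ∧ 0 < m % cD i ∧ m % cD i < (2 * d) % cD i))) →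
      CritOdd (2 * d) m i (1)) ∧
    (cD i ≤ m → CritOdd (2 * d) m i (1) →
      (Odd i ∧ cD i ≤ m ∧ 0 < m % cD i ∧ m % cD i < (2 * d) % cD i) ∨
       (Even i ∧ (((2 * d) % cD i = 0 ∧ Odd ((2 * d) / i)) ∨ (i ≤ m ∧ 0 < m % cD i ∧ m % cD i < (2 * d) % cD i)))) := by
  obtain ⟨B, D, A, M, hn, hD, hDp, hmA, hM, hMp, hB', hD', hA', hM', hA1⟩ := split_cD hi (2 * d) m
  have hrel := lt_coords hn hD hmA hM (by omega)
  have hhalf := half_coords hn hD hmA hM (by omega)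
  rw [odd_lin (1) hn hD hmA hM (by omega), ← hD', ← hM', hA1]
  simp only [Nat.odd_iff, Nat.even_iff, one_eq_bS, neg_eq_bS, bS_neg, bS_one]
  rcases Nat.mod_two_eq_zero_or_one i with hev | hod
  · have hc := cD_of_even hev
    rw [hc] at hn hD hmA hM hB' hA' hA1
    rw [show (i ≤ m ↔ 1 ≤ A) from hA1]
    rw [← hB']
    simp [hev]
    clear hn hmA hB' hD' hA' hM' hA1
    refine ⟨by intros; omega, fun h1 h => ?_⟩
    have hh := h B
    have hh' := h (B - 1)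
    simp [imp_iff_not_or] at hh hh'
    omega
  · simp [hod]
    clear hn hmA hB' hD' hA' hM' hA1
    refine ⟨by intros; omega, fun h1 h => ?_⟩
    have hh := h B
    have hh' := h (B - 1)
    simp [imp_iff_not_or] at hh hh'
    omega

theorem nd_5991 {d m i : ℕ} (hi : 0 < i) (hm : m % 2 = 1) (hmn : m < d) :
    ((Odd i ∧ ((2 * d) % cD i = 0 ∨ (cD i ≤ m ∧ 0 < m % cD i ∧ m % cD i < (2 * d) % cD i))) ∨
       (Even i ∧ (((2 * d) % cD i = 0 ∧ Even ((2 * d) / i)) ∨ (0 < (2 * d) % cD i ∧ i ≤ m ∧ 0 < m % cD i ∧ m % cD i < (2 * d) % cD i))) →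
      CritOdd (2 * d) m i (-1)) ∧
    (cD i ≤ m → CritOdd (2 * d) m i (-1) →
      (Odd i ∧ ((2 * d) % cD i = 0 ∨ (cD i ≤ m ∧ 0 < m % cD i ∧ m % cD i < (2 * d) % cD i))) ∨
       (Even i ∧ (((2 * d) % cD i = 0 ∧ Even ((2 * d) / i)) ∨ (0 < (2 * d) % cD i ∧ i ≤ m ∧ 0 < m % cD i ∧ m % cD i < (2 * d) % cD i)))) := by
  obtain ⟨B, D, A, M, hn, hD, hDp, hmA, hM, hMp, hB', hD', hA', hM', hA1⟩ := split_cD hi (2 * d) m
  have hrel := lt_coords hn hD hmA hM (by omega)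
  have hhalf := half_coords hn hD hmA hM (by omega)
  rw [odd_lin (-1) hn hD hmA hM (by omega), ← hD', ← hM', hA1]
  simp only [Nat.odd_iff, Nat.even_iff, one_eq_bS, neg_eq_bS, bS_neg, bS_one]
  rcases Nat.mod_two_eq_zero_or_one i with hev | hod
  · have hc := cD_of_even hev
    rw [hc] at hn hD hmA hM hB' hA' hA1
    rw [show (i ≤ m ↔ 1 ≤ A) from hA1]
    rw [← hB']
    simp [hev]
    clear hn hmA hB' hD' hA' hM' hA1
    refine ⟨by intros; omega, fun h1 h => ?_⟩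
    have hh := h B
    have hh' := h (B - 1)
    simp [imp_iff_not_or] at hh hh'
    omega
  · simp [hod]
    clear hn hmA hB' hD' hA' hM' hA1
    refine ⟨by intros; omega, fun h1 h => ?_⟩
    have hh := h B
    have hh' := h (B - 1)
    simp [imp_iff_not_or] at hh hh'
    omega

end Cfsg.Agent.Lib.OrthPrime.Arith
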