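import Mathlib
import Cfsg.Agent.Lib.OrthPrime.Blocks

/-!
Totally singular invariant subspaces of the moved space.
-/

set_option autoImplicit false
set_option linter.unusedSectionVars false

namespace Cfsg.Agent.Lib.OrthPrime

open QuadraticMap
open scoped _root_.Classical

variable {F : Type*} [Field F] [Fintype F] {V : Type*} [AddCommGroup V] [Module F V] [FiniteDimensional F V]
variable {Q : QuadraticForm F V} {e : V ≃ₗ[F] V} {r : ℕ} [Fact r.Prime]
variable (hQe : ∀ v, Q (e v) = Q v) (her : e ^ r = 1) (hr0 : (r : F) ≠ 0) (hr2 : r ≠ 2)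
include hQe her hr0 hr2

omit hQe her hr0 hr2 in
theorem nd_sup {B C : Submodule F V} (hB : Nd Q B) (hC : Nd Q C) (hBC : C ≤ qperp Q B) :
    Nd Q (B ⊔ C) ∧ B ⊓ C = ⊥ := by
  refine ⟨fun z hz hrad => ?_, eq_bot_iff.2 (le_trans (inf_le_inf le_rfl hBC) (isCompl_qperp Q hB).inf_eq_bot.le)⟩
  obtain ⟨a, ha, b, hb, rfl⟩ := Submodule.mem_sup.1 hz
  have ha0 : a = 0 := hB a ha fun y hy => by
    have := hrad y (Submodule.mem_sup_left hy)
    rwa [polar_add_left, polar_comm ⇑Q b y, (mem_qperp Q).1 (hBC hb) y hy, add_zero] at this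
  have hb0 : b = 0 := hC b hb fun y hy => by
    have := hrad y (Submodule.mem_sup_right hy)
    rwa [polar_add_left, (mem_qperp Q).1 (hBC hy) a ha, zero_add] at this
  rw [ha0, hb0, add_zero]

omit hQe her hr0 hr2 in
theorem finrank_sup_of_disjoint {B C : Submodule F V} (h : B ⊓ C = ⊥) :
    Module.finrank F ↥(B ⊔ C) = Module.finrank F B + Module.finrank F C := by
  have := Submodule.finrank_sup_add_finrank_inf_eq B C
  rw [h, finrank_bot, add_zero] at this
  exact this

omit hQe her hr0 hr2 in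
theorem ts_sup {A B : Submodule F V} (hA : ∀ a ∈ A, Q a = 0) (hB : ∀ b ∈ B, Q b = 0)
    (hAB : ∀ a ∈ A, ∀ b ∈ B, polar ⇑Q a b = 0) : ∀ x ∈ A ⊔ B, Q x = 0 := by
  intro x hx
  obtain ⟨a, ha, b, hb, rfl⟩ := Submodule.mem_sup.1 hx
  rw [QuadraticMap.map_add (⇑Q), hA a ha, hB b hb, hAB a ha b hb, add_zero, add_zero]

/-- Two orthogonal blocks of one class contain a totally singular irreducible. -/
theorem exists_ts_pair (hev : Even (orderOf (Fintype.card F : ZMod r))) {p : Polynomial F} (hp : p ∈ classes F r)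
    {u v : V} (hu : u ∈ movS e) (hv : v ∈ movS e) (hu0 : u ≠ 0) (hv0 : v ≠ 0) (hpu : pE e p u = 0)
    (hpv : pE e p v = 0) (hnu : Nd Q (cyc e u)) (hnv : Nd Q (cyc e v)) (horth : cyc e v ≤ qperp Q (cyc e u)) :
    ∃ x ∈ cyc e u ⊔ cyc e v, x ≠ 0 ∧ pE e p x = 0 ∧ ∀ y ∈ cyc e x, Q y = 0 := by
  set i := orderOf (Fintype.card F : ZMod r) with hi
  have hipos : 0 < i := orderOf_pos' hr0
  set E := cyc e u ⊔ cyc e v with hEdef
  obtain ⟨hEn, hinf⟩ := nd_sup hnu hnv horth
  have hEi : Inv e E := (inv_cyc e u).sup (inv_cyc e v)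
  have hEm : E ≤ movS e := sup_le (cyc_le e inv_movS hu) (cyc_le e inv_movS hv)
  have hEd : Module.finrank F E = cdim F r * 2 := by
    rw [hEdef, finrank_sup_of_disjoint hinf, finrank_cyc_class hr0 hp hu0 hpu, finrank_cyc_class hr0 hp hv0 hpv,
      cdim, if_pos hev]
    ring
  have hpE : ∀ x ∈ E, pE e p x = 0 := fun x hx => by
    obtain ⟨a, ha, b, hb, rfl⟩ := Submodule.mem_sup.1 hx
    rw [map_add, ker_cyc e hpu ha, ker_cyc e hpv hb, add_zero]
  by_contra hno
  push Not at hno
  haveI : Finite V := Module.finite_of_finite F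
  haveI : Fintype V := Fintype.ofFinite V
  obtain ⟨h, hh⟩ := hev
  set q : ℤ := (Nat.card F : ℤ) with hq
  have hq1 : (1 : ℤ) < q := by rw [hq]; exact_mod_cast Finite.one_lt_card
  -- the numbers of zeros
  have hZE : q * Nat.card {w : E // Q (w : V) = 0} = q ^ (4 * h) + (q - 1) * q ^ (2 * h) := by
    have hk : Module.finrank F E = 2 * (2 * h) := by rw [hEd, cdim, if_pos ⟨h, hh⟩, ← hi]; omega
    have h1 := card_value_zero hk ((nd_iff Q E).2 hEn)
    rw [qsgn_blocks hQe her hr0 hr2 hEi hEm hEn hEd, bsgn, if_pos ⟨h, hh⟩] at h1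
    simp only [QuadraticMap.comp_apply, Submodule.coe_subtype] at h1
    rw [h1]
    ring
  have hZc : ∀ x ∈ E, x ≠ 0 → q * Nat.card {w : cyc e x // Q (w : V) = 0} = q ^ (2 * h) - (q - 1) * q ^ h := by
    intro x hx hx0
    have hxm := cyc_le e hEi hx
    have hd := finrank_cyc_class hr0 hp hx0 (hpE x hx)
    have hn : Nd Q (cyc e x) :=
      (cyc_nd_or_ts hQe her hr0 hp hx0 (hpE x hx) (hxm.trans hEm)).resolve_right fun hs => by
        obtain ⟨y, hy, hy0⟩ := hno x hx hx0 (hpE x hx)
        exact hy0 (hs y hy)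
    have hk : Module.finrank F (cyc e x) = 2 * h := by rw [hd, ← hi]; omega
    have h1 := card_value_zero hk ((nd_iff Q _).2 hn)
    rw [qsgn_blocks hQe her hr0 hr2 (inv_cyc e x) (hxm.trans hEm) hn (t := 1)
      (by rw [hd, cdim, if_pos ⟨h, hh⟩, mul_one]), bsgn, if_pos ⟨h, hh⟩] at h1
    simp only [QuadraticMap.comp_apply, Submodule.coe_subtype] at h1
    rw [h1]
    ring
  -- counting incident pairs
  let nz := fun (U : Submodule F V) => Finset.univ.filter fun x : V => x ∈ U ∧ x ≠ 0
  let zr := fun (U : Submodule F V) => Finset.univ.filter fun x : V => x ∈ U ∧ x ≠ 0 ∧ Q x = 0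
  have hnz : ∀ U : Submodule F V, ((nz U).card : ℤ) = q ^ Module.finrank F U - 1 := by
    intro U
    have h1 : (Finset.univ.filter fun x : V => x ∈ U).card = Nat.card F ^ Module.finrank F U := by
      rw [← Fintype.card_subtype, ← Nat.card_eq_fintype_card, ← Module.natCard_eq_pow_finrank]
    have h2 : nz U = (Finset.univ.filter fun x : V => x ∈ U).erase 0 := by ext; simp [nz]; tauto
    rw [h2, Finset.card_erase_of_mem (by simp), h1, Nat.cast_sub (Nat.one_le_pow _ _ Nat.card_pos)]
    push_cast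
    rfl
  have hzr : ∀ U : Submodule F V, ((zr U).card : ℤ) = Nat.card {w : U // Q (w : V) = 0} - 1 := by
    intro U
    have h1 : (Finset.univ.filter fun x : V => x ∈ U ∧ Q x = 0).card = Nat.card {w : U // Q (w : V) = 0} := by
      rw [← Fintype.card_subtype, ← Nat.card_eq_fintype_card]
      exact Nat.card_congr (Equiv.subtypeSubtypeEquivSubtypeInter (fun x : V => x ∈ U) (fun x => Q x = 0)).symm
    have h2 : zr U = (Finset.univ.filter fun x : V => x ∈ U ∧ Q x = 0).erase 0 := by ext; simp [zr]; tauto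
    rw [h2, Finset.card_erase_of_mem (by simp), h1,
      Nat.cast_sub (Nat.one_le_iff_ne_zero.2 (by
        haveI : Nonempty {w : U // Q (w : V) = 0} := ⟨⟨0, by simp⟩⟩
        exact Nat.card_pos.ne'))]
    rfl
  have hcount : ∑ x ∈ nz E, ((zr (cyc e x)).card : ℤ) = ∑ y ∈ zr E, ((nz (cyc e y)).card : ℤ) := by
    rw [← Nat.cast_sum, ← Nat.cast_sum, Nat.cast_inj]
    have h1 : ∀ x ∈ nz E, zr (cyc e x) = (zr E).filter fun y => y ∈ cyc e x := by
      intro x hx
      simp only [nz, Finset.mem_filter, Finset.mem_univ, true_and] at hx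
      ext y
      simp only [zr, Finset.mem_filter, Finset.mem_univ, true_and]
      exact ⟨fun hy => ⟨⟨cyc_le e hEi hx.1 hy.1, hy.2⟩, hy.1⟩, fun hy => ⟨hy.2, hy.1.2⟩⟩
    have h2 : ∀ y ∈ zr E, nz (cyc e y) = (nz E).filter fun x => y ∈ cyc e x := by
      intro y hy
      simp only [zr, Finset.mem_filter, Finset.mem_univ, true_and] at hy
      ext x
      simp only [nz, Finset.mem_filter, Finset.mem_univ, true_and]
      constructor
      · rintro ⟨hx, hx0⟩
        refine ⟨⟨cyc_le e hEi hy.1 hx, hx0⟩, ?_⟩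
        rw [cyc_eq_of_mem e (irreducible_of_mem hp) hy.2.1 (hpE y hy.1) (monic_of_mem hp) hx hx0]
        exact self_mem_cyc e y
      · rintro ⟨⟨hx, hx0⟩, hyx⟩
        refine ⟨?_, hx0⟩
        rw [cyc_eq_of_mem e (irreducible_of_mem hp) hx0 (hpE x hx) (monic_of_mem hp) hyx hy.2.1]
        exact self_mem_cyc e x
    rw [Finset.sum_congr rfl (fun x hx => congrArg Finset.card (h1 x hx)),
      Finset.sum_congr rfl (fun y hy => congrArg Finset.card (h2 y hy))]
    simp only [Finset.card_filter]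
    exact Finset.sum_comm
  have hL : q * ∑ x ∈ nz E, ((zr (cyc e x)).card : ℤ) = (q ^ (4 * h) - 1) * (q ^ (2 * h) - (q - 1) * q ^ h - q) := by
    rw [Finset.mul_sum, Finset.sum_congr rfl (fun x hx => by
      simp only [nz, Finset.mem_filter, Finset.mem_univ, true_and] at hx
      rw [hzr, mul_sub, mul_one, hZc x hx.1 hx.2]), Finset.sum_const, nsmul_eq_mul, hnz, hEd, cdim, if_pos ⟨h, hh⟩]
    rw [show i * 2 = 4 * h by omega]
  have hR : q * ∑ y ∈ zr E, ((nz (cyc e y)).card : ℤ) = (q ^ (4 * h) + (q - 1) * q ^ (2 * h) - q) * (q ^ (2 * h) - 1) := by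
    rw [Finset.sum_congr rfl (fun y hy => by
      simp only [zr, Finset.mem_filter, Finset.mem_univ, true_and] at hy
      rw [hnz, finrank_cyc_class hr0 hp hy.2.1 (hpE y hy.1), ← hi, show i = 2 * h by omega]),
      Finset.sum_const, nsmul_eq_mul, hzr]
    linear_combination (q ^ (2 * h) - 1) * hZE
  rw [hcount, hR] at hL
  have hqh : (0 : ℤ) < q ^ h := pow_pos (by omega) h
  have hfac : (q ^ (2 * h) - 1) * (q - 1) * (q ^ h * (q ^ h + 1) ^ 2) = 0 := by
    have e2 : q ^ (2 * h) = q ^ h * q ^ h := by rw [two_mul, pow_add]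
    have e4 : q ^ (4 * h) = q ^ h * q ^ h * (q ^ h * q ^ h) := by
      rw [show 4 * h = (h + h) + (h + h) by ring, pow_add, pow_add]
    rw [e2, e4] at hL
    rw [e2]
    linear_combination hL
  have hq2 : (1 : ℤ) < q ^ (2 * h) := one_lt_pow₀ hq1 (by omega)
  rcases mul_eq_zero.1 hfac with h' | h'
  · rcases mul_eq_zero.1 h' with h'' | h'' <;> omega
  · rcases mul_eq_zero.1 h' with h'' | h''
    · omega
    · have : q ^ h + 1 = 0 := pow_eq_zero_iff (two_ne_zero) |>.1 h''
      omega

/-- Totally singular invariant subspaces of all guaranteed dimensions. -/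
theorem exists_ts {W : Submodule F V} (hW : Inv e W) (hmov : W ≤ movS e) (hnd : Nd Q W) {S : ℕ}
    (hS : Module.finrank F W = cdim F r * S) {k : ℕ} (hk : k ≤ tsNum F r S) :
    ∃ U ≤ W, Inv e U ∧ (∀ x ∈ U, Q x = 0) ∧ Module.finrank F U = orderOf (Fintype.card F : ZMod r) * k := by
  induction k generalizing W S with
  | zero => exact ⟨⊥, bot_le, fun w hw => by simp [(Submodule.mem_bot F).1 hw],
      fun x hx => by simp [(Submodule.mem_bot F).1 hx], by simp⟩
  | succ k ih =>
    set i := orderOf (Fintype.card F : ZMod r) with hi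
    have hipos : 0 < i := orderOf_pos' hr0
    suffices hstep : ∃ E ≤ W, Inv e E ∧ Nd Q E ∧ ∃ (T S' : ℕ), Module.finrank F E = cdim F r * T ∧ S = T + S' ∧
        k ≤ tsNum F r S' ∧ ∃ U ≤ E, Inv e U ∧ (∀ x ∈ U, Q x = 0) ∧ Module.finrank F U = i by
      obtain ⟨E, hEW, hEi, hEn, T, S', hEd, hST, hk', U, hUE, hUi, hU0, hUd⟩ := hstep
      obtain ⟨hRn, hRd⟩ := nd_rest hnd hEn hEW
      obtain ⟨U', hU'R, hU'i, hU'0, hU'd⟩ := ih (inv_symm_qperp hQe her hr0 hr2 hW hEi) (inf_le_left.trans hmov) hRn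
        (S := S') (by rw [hEd, hS, hST, mul_add] at hRd; omega) hk'
      refine ⟨U ⊔ U', sup_le (hUE.trans hEW) (hU'R.trans inf_le_left), hUi.sup hU'i,
        ts_sup hU0 hU'0 (fun a ha b hb => (mem_qperp Q).1 (hU'R hb).2 a (hUE ha)), ?_⟩
      rw [finrank_sup_of_disjoint (eq_bot_iff.2 (le_trans (inf_le_inf hUE (hU'R.trans inf_le_right))
        (isCompl_qperp Q hEn).inf_eq_bot.le)), hUd, hU'd, mul_add, mul_one, add_comm]
    by_cases hev : Even i
    · -- two blocks in one class
      rw [tsNum, if_pos hev] at hk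
      set N := (r - 1) / i with hN
      have hNS : N + 1 ≤ S := by omega
      have hfam : ∀ n ≤ S, ∃ (f : Fin n → V) (cl : Fin n → Polynomial F),
          (∀ j, f j ∈ W ∧ f j ≠ 0 ∧ cl j ∈ classes F r ∧ pE e (cl j) (f j) = 0 ∧ Nd Q (cyc e (f j))) ∧
            (∀ j l, j ≠ l → cyc e (f j) ≤ qperp Q (cyc e (f l))) ∧
            ∃ B ≤ W, Inv e B ∧ Nd Q B ∧ Module.finrank F B = cdim F r * n ∧ ∀ j, cyc e (f j) ≤ B := by
        intro n hn
        induction n with
        | zero => exact ⟨Fin.elim0, Fin.elim0, fun j => j.elim0, fun j => j.elim0, ⊥, bot_le,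
            fun w hw => by simp [(Submodule.mem_bot F).1 hw], nd_bot Q, by simp, fun j => j.elim0⟩
        | succ n ihn =>
          obtain ⟨f, cl, hf, horth, B, hBW, hBi, hBn, hBd, hfB⟩ := ihn (by omega)
          obtain ⟨hRn, hRd⟩ := nd_rest hnd hBn hBW
          have hne : W ⊓ qperp Q B ≠ ⊥ := by
            intro h
            rw [h, finrank_bot, hS, hBd, add_zero] at hRd
            have := Nat.eq_of_mul_eq_mul_left (cdim_pos hr0) hRd
            omega
          obtain ⟨C, hCR, hCi, hCn, hCd⟩ := exists_block hQe her hr0 hr2 (inv_symm_qperp hQe her hr0 hr2 hW hBi)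
            (inf_le_left.trans hmov) hRn hne
          obtain ⟨p, hp, w, hw, hw0, hpw⟩ := exists_class_mem her hr0 hCi ((hCR.trans inf_le_left).trans hmov)
            (fun h => by rw [h, finrank_bot] at hCd; have := cdim_pos (F := F) hr0; omega)
          have hwC : cyc e w = C := Submodule.eq_of_le_of_finrank_eq (cyc_le e hCi hw)
            (by rw [finrank_cyc_class hr0 hp hw0 hpw, hCd, cdim, if_pos hev])
          have hperpB : ∀ j, cyc e (f j) ≤ qperp Q C ∧ C ≤ qperp Q (cyc e (f j)) := fun j =>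
            ⟨fun y hy => (mem_qperp Q).2 fun z hz => by rw [polar_comm]; exact (mem_qperp Q).1 (hCR hz).2 y (hfB j hy),
              fun y hy => (mem_qperp Q).2 fun z hz => (mem_qperp Q).1 (hCR hy).2 z (hfB j hz)⟩
          obtain ⟨hBCn, hBCi⟩ := nd_sup hBn hCn (hCR.trans inf_le_right)
          refine ⟨Fin.snoc f w, Fin.snoc cl p, ?_, ?_, B ⊔ C, sup_le hBW (hCR.trans inf_le_left), hBi.sup hCi, hBCn,
            ?_, ?_⟩
          · intro j
            refine Fin.lastCases ?_ (fun j => ?_) j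
            · simp only [Fin.snoc_last]
              exact ⟨(hCR hw).1, hw0, hp, hpw, hwC ▸ hCn⟩
            · simp only [Fin.snoc_castSucc]
              exact hf j
          · intro j l hjl
            revert hjl
            refine Fin.lastCases ?_ (fun j => ?_) j <;> refine Fin.lastCases ?_ (fun l => ?_) l <;> intro hjl <;>
              simp only [Fin.snoc_last, Fin.snoc_castSucc]
            · exact absurd rfl hjl
            · rw [hwC]; exact (hperpB l).2
            · rw [hwC]; exact (hperpB j).1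
            · exact horth j l fun h => hjl (congrArg Fin.castSucc h)
          · rw [finrank_sup_of_disjoint hBCi, hBd, hCd, Nat.mul_succ]
          · intro j
            refine Fin.lastCases ?_ (fun j => ?_) j <;> simp only [Fin.snoc_last, Fin.snoc_castSucc]
            · rw [hwC]; exact le_sup_right
            · exact (hfB j).trans le_sup_left
      obtain ⟨f, cl, hf, horth, -⟩ := hfam (N + 1) hNS
      obtain ⟨j, -, l, -, hjl, hcl⟩ := Finset.exists_ne_map_eq_of_card_lt_of_maps_to
        (s := (Finset.univ : Finset (Fin (N + 1)))) (t := classes F r)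
        (by rw [Finset.card_univ, Fintype.card_fin, card_classes hr0, ← hi, ← hN]; omega) (fun j _ => (hf j).2.2.1)
      obtain ⟨hju, hju0, hjc, hjp, hjn⟩ := hf j
      obtain ⟨hlu, hlu0, hlc, hlp, hln⟩ := hf l
      rw [← hcl] at hlp
      have ho := horth l j hjl.symm
      obtain ⟨x, hx, hx0, hxp, hxs⟩ := exists_ts_pair hQe her hr0 hr2 hev hjc (hmov hju) (hmov hlu) hju0 hlu0 hjp hlp
        hjn hln ho
      obtain ⟨hEn, hEinf⟩ := nd_sup hjn hln ho
      refine ⟨_, sup_le (cyc_le e hW hju) (cyc_le e hW hlu), (inv_cyc e _).sup (inv_cyc e _), hEn, 2, S - 2, ?_,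
        by omega, ?_, cyc e x, cyc_le e ((inv_cyc e _).sup (inv_cyc e _)) hx, inv_cyc e x, hxs,
        finrank_cyc_class hr0 hjc hx0 hxp⟩
      · rw [finrank_sup_of_disjoint hEinf, finrank_cyc_class hr0 hjc hju0 hjp, finrank_cyc_class hr0 hjc hlu0 hlp,
          cdim, if_pos hev]
        ring
      · rw [tsNum, if_pos hev, ← hi, ← hN]
        omega
    · rw [tsNum, if_neg hev] at hk
      have hne : W ≠ ⊥ := fun h => by
        rw [h, finrank_bot] at hS
        rcases mul_eq_zero.1 hS.symm with h | h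
        · exact absurd h (cdim_pos hr0).ne'
        · omega
      obtain ⟨B, hBW, hBi, hBn, hBd⟩ := exists_block hQe her hr0 hr2 hW hmov hnd hne
      obtain ⟨p, hp, w, hw, hw0, hpw⟩ := exists_class_mem her hr0 hBi (hBW.trans hmov)
        (fun h => by rw [h, finrank_bot] at hBd; have := cdim_pos (F := F) hr0; omega)
      have hwm := (cyc_le e hBi hw).trans (hBW.trans hmov)
      refine ⟨B, hBW, hBi, hBn, 1, S - 1, by rw [hBd, mul_one], by omega, by rw [tsNum, if_neg hev]; omega,
        cyc e w, cyc_le e hBi hw, inv_cyc e w,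
        (cyc_nd_or_ts hQe her hr0 hp hw0 hpw hwm).resolve_left fun hn => hev ?_, finrank_cyc_class hr0 hp hw0 hpw⟩
      have := even_finrank her hr0 hQe hr2 (inv_cyc e w) hwm hn
      rwa [finrank_cyc_class hr0 hp hw0 hpw] at this

end Cfsg.Agent.Lib.OrthPrime
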