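import Mathlib
import Cfsg.Agent.Lib.OrthPrime.Sing
import Cfsg.Agent.Lib.OrthPrime.Sub

/-!
Elements of order `r` with prescribed moved space and few totally singular invariant subspaces.
-/

set_option autoImplicit false
set_option linter.unusedSectionVars false

namespace Cfsg.Agent.Lib.OrthPrime

open QuadraticMap
open scoped _root_.Classical

universe u

variable {F : Type u} [Field F] [Fintype F]

/-- A fixed-point-free element with `S` blocks, killed by `P`, with all totally singular invariant subspaces of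
dimension at most `K`. -/
structure IsMod {W : Type u} [AddCommGroup W] [Module F W] (R : QuadraticForm F W) (e : W ≃ₗ[F] W) (r S : ℕ)
    (P : Polynomial F) (K : ℕ) : Prop where
  nd : (polarBilin R).Nondegenerate
  iso : ∀ v, R (e v) = R v
  pow : e ^ r = 1
  fpf : ∀ v, e v = v → v = 0
  dim : Module.finrank F W = cdim F r * S
  kills : ∀ v, pE e P v = 0
  bound : ∀ U : Submodule F W, Inv e U → (∀ x ∈ U, R x = 0) → Module.finrank F U ≤ K

/-- Existence of a model. -/
def HasMod (F : Type u) [Field F] [Fintype F] (r S : ℕ) (P : Polynomial F) (K : ℕ) : Prop :=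
  ∃ (W : Type u) (_ : AddCommGroup W) (_ : Module F W) (_ : FiniteDimensional F W) (R : QuadraticForm F W)
    (e : W ≃ₗ[F] W), IsMod R e r S P K

section Basic

variable {W : Type u} [AddCommGroup W] [Module F W] [FiniteDimensional F W] {R : QuadraticForm F W} {e : W ≃ₗ[F] W}
  {r : ℕ} [Fact r.Prime]

theorem movS_eq_top (her : e ^ r = 1) (hr0 : (r : F) ≠ 0) (hfpf : ∀ v, e v = v → v = 0) : movS e = ⊤ := by
  have h := (isCompl_fixS_movS her hr0).sup_eq_top
  rwa [show fixS e = ⊥ from eq_bot_iff.2 fun v hv => (Submodule.mem_bot F).2 (hfpf v (mem_fixS.1 hv)), bot_sup_eq] at h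

/-- The trivial bound, sharpened by divisibility. -/
theorem trivial_bound (hr0 : (r : F) ≠ 0) (hR : (polarBilin R).Nondegenerate) (her : e ^ r = 1)
    (hfpf : ∀ v, e v = v → v = 0) {S : ℕ} (hdim : Module.finrank F W = cdim F r * S) {U : Submodule F W}
    (hU : Inv e U) (hU0 : ∀ x ∈ U, R x = 0) :
    Module.finrank F U ≤ orderOf (Fintype.card F : ZMod r) *
      (if Even (orderOf (Fintype.card F : ZMod r)) then S / 2 else S) := by
  set i := orderOf (Fintype.card F : ZMod r)
  obtain ⟨k, hk⟩ := orderOf_dvd_finrank her hr0 hU (by rw [movS_eq_top her hr0 hfpf]; exact le_top)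
  have h := ts_le_wIdx hR hU0
  have h' : 2 * Module.finrank F U ≤ Module.finrank F W := by
    unfold wIdx at h; split_ifs at h <;> omega
  have hi : 0 < i := orderOf_pos' hr0
  rw [hk, hdim, cdim] at h'
  rw [hk]
  refine Nat.mul_le_mul_left _ ?_
  split_ifs at h' ⊢ with hev
  · rw [Nat.le_div_iff_mul_le two_pos]
    exact Nat.le_of_mul_le_mul_left (by linarith) hi
  · exact Nat.le_of_mul_le_mul_left (by linarith) hi

end Basic

variable {r : ℕ} [Fact r.Prime]

theorem pE_prodCongr {V W : Type u} [AddCommGroup V] [Module F V] [AddCommGroup W] [Module F W]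
    (e : V ≃ₗ[F] V) (f : W ≃ₗ[F] W) (a : Polynomial F) (x : V × W) :
    pE (e.prodCongr f) a x = (pE e a x.1, pE f a x.2) := by
  induction a using Polynomial.induction_on' generalizing x with
  | add a b ha hb => simp [pE_add, ha, hb]
  | monomial k c =>
    rw [← Polynomial.C_mul_X_pow_eq_monomial]
    simp only [pE_mul, pE_C, pE_X_pow]
    induction k generalizing x with
    | zero => rfl
    | succ k ih =>
      rw [pow_succ, LinearEquiv.mul_apply, ih, pow_succ, pow_succ, LinearEquiv.mul_apply, LinearEquiv.mul_apply]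
      rfl

theorem prodCongr_pow {V W : Type u} [AddCommGroup V] [Module F V] [AddCommGroup W] [Module F W]
    (e : V ≃ₗ[F] V) (f : W ≃ₗ[F] W) (k : ℕ) : (e.prodCongr f) ^ k = (e ^ k).prodCongr (f ^ k) := by
  induction k with
  | zero => rfl
  | succ k ih => rw [pow_succ, pow_succ, pow_succ, ih]; rfl

/-- Orthogonal sum. -/
theorem HasMod.prod (hr0 : (r : F) ≠ 0) {S S' : ℕ} {P P' : Polynomial F} {K K' : ℕ}
    (h : HasMod F r S P K) (h' : HasMod F r S' P' K') :
    (IsCoprime P P' → HasMod F r (S + S') (P * P') (K + K')) ∧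
      (P = P' → HasMod F r (S + S') P (orderOf (Fintype.card F : ZMod r) *
        (if Even (orderOf (Fintype.card F : ZMod r)) then (S + S') / 2 else S + S'))) := by
  obtain ⟨V, _, _, _, R, e, hm⟩ := h
  obtain ⟨W, _, _, _, T, f, hn⟩ := h'
  have hnd := FormConj.prod_nondegenerate hm.nd hn.nd
  have hiso : ∀ v, R.prod T (e.prodCongr f v) = R.prod T v := fun v => by
    simp [QuadraticMap.prod_apply, hm.iso, hn.iso]
  have hpow : (e.prodCongr f) ^ r = 1 := by rw [prodCongr_pow, hm.pow, hn.pow]; rfl
  have hfpf : ∀ v, e.prodCongr f v = v → v = 0 := fun v hv =>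
    Prod.ext (hm.fpf _ (congrArg Prod.fst hv)) (hn.fpf _ (congrArg Prod.snd hv))
  have hdim : Module.finrank F (V × W) = cdim F r * (S + S') := by rw [Module.finrank_prod, hm.dim, hn.dim, mul_add]
  constructor
  · intro hcop
    refine ⟨V × W, inferInstance, inferInstance, inferInstance, R.prod T, e.prodCongr f,
      ⟨hnd, hiso, hpow, hfpf, hdim, fun v => ?_, fun U hU hU0 => ?_⟩⟩
    · rw [pE_prodCongr, pE_mul, pE_mul, hn.kills, ← pE_mul, mul_comm, pE_mul, hm.kills, map_zero, map_zero]
      rfl
    obtain ⟨a, b, hab⟩ := hcop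
    have hsplit : ∀ x ∈ U, (x.1, (0 : W)) ∈ U ∧ ((0 : V), x.2) ∈ U := by
      intro x hx
      have h1 := pE_mem (e.prodCongr f) hU (b * P') hx
      rw [pE_prodCongr, pE_mul, pE_mul, hn.kills, map_zero] at h1
      have h3 : pE e b (pE e P' x.1) = x.1 := by
        conv_rhs => rw [← pE_one e x.1, ← hab, pE_add, pE_mul, hm.kills, map_zero, zero_add, pE_mul]
      rw [h3] at h1
      refine ⟨h1, ?_⟩
      have h2 := sub_mem hx h1
      have : x - (x.1, (0 : W)) = ((0 : V), x.2) := Prod.ext (sub_self _) (sub_zero _)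
      rwa [this] at h2
    let U₁ := U.comap (LinearMap.inl F V W)
    let U₂ := U.comap (LinearMap.inr F V W)
    have hle : U ≤ U₁.prod U₂ := fun x hx => hsplit x hx
    refine (Submodule.finrank_mono hle).trans ?_
    rw [show Module.finrank F (U₁.prod U₂) = Module.finrank F U₁ + Module.finrank F U₂ from by
      rw [← Module.finrank_prod]
      exact LinearEquiv.finrank_eq
        { toFun := fun x => (⟨x.1.1, x.2.1⟩, ⟨x.1.2, x.2.2⟩)
          invFun := fun x => ⟨((x.1 : V), (x.2 : W)), x.1.2, x.2.2⟩
          left_inv := fun x => rfl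
          right_inv := fun x => rfl
          map_add' := fun x y => rfl
          map_smul' := fun c x => rfl }]
    refine Nat.add_le_add (hm.bound U₁ (fun y hy => ?_) fun y hy => ?_) (hn.bound U₂ (fun y hy => ?_) fun y hy => ?_)
    · have := hU _ hy
      simpa [U₁] using this
    · simpa [QuadraticMap.prod_apply] using hU0 _ hy
    · have := hU _ hy
      simpa [U₂] using this
    · simpa [QuadraticMap.prod_apply] using hU0 _ hy
  · rintro rfl
    exact ⟨V × W, inferInstance, inferInstance, inferInstance, R.prod T, e.prodCongr f,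
      ⟨hnd, hiso, hpow, hfpf, hdim, fun v => by rw [pE_prodCongr, hm.kills, hn.kills]; rfl,
        fun U hU hU0 => trivial_bound hr0 hnd hpow hfpf hdim hU hU0⟩⟩

section Block

variable (hr0 : (r : F) ≠ 0) (hr2 : r ≠ 2) {p : Polynomial F} (hp : p ∈ classes F r)
include hr0 hr2 hp

/-- One block killed by `p` (`i` even) or by the cyclotomic polynomial. -/
theorem hasMod_block :
    HasMod F r 1 (if Even (orderOf (Fintype.card F : ZMod r)) then p else Polynomial.cyclotomic r F)
      (orderOf (Fintype.card F : ZMod r) * (if Even (orderOf (Fintype.card F : ZMod r)) then 0 else 1)) := by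
  haveI := Fact.mk (irreducible_of_mem hp)
  haveI := (monic_of_mem hp).finite_adjoinRoot
  set L := AdjoinRoot p
  set ζ : L := AdjoinRoot.root p
  have hζ : Polynomial.aeval ζ p = 0 := by rw [AdjoinRoot.aeval_eq, AdjoinRoot.mk_self]
  have hdvd : p ∣ Polynomial.cyclotomic r F :=
    UniqueFactorizationMonoid.dvd_of_mem_normalizedFactors (Multiset.mem_toFinset.1 hp)
  have hcyc : Polynomial.aeval ζ (Polynomial.cyclotomic r F) = 0 := by
    obtain ⟨t, ht⟩ := hdvd
    rw [ht, map_mul, hζ, zero_mul]
  have hζr : ζ ^ r = 1 := by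
    have h := congrArg (Polynomial.aeval ζ) (Polynomial.cyclotomic_prime_mul_X_sub_one F r)
    rw [map_mul, hcyc, zero_mul, map_sub, map_pow, Polynomial.aeval_X, map_one] at h
    exact sub_eq_zero.1 h.symm
  have hζ1 : ζ ≠ 1 := by
    intro h
    rw [h, Polynomial.cyclotomic_prime, map_sum] at hcyc
    simp only [map_pow, Polynomial.aeval_X, one_pow, Finset.sum_const, Finset.card_range, nsmul_eq_mul, mul_one] at hcyc
    rw [← map_natCast (algebraMap F L)] at hcyc
    exact hr0 ((algebraMap F L).injective (hcyc.trans (map_zero _).symm))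
  have hζ0 : ζ ≠ 0 := fun h => by
    rw [h, zero_pow (Fact.out : r.Prime).ne_zero] at hζr
    exact zero_ne_one hζr
  let m : L ≃ₗ[F] L :=
    LinearEquiv.ofLinear (LinearMap.mulLeft F ζ) (LinearMap.mulLeft F ζ⁻¹)
      (LinearMap.ext fun x => by simp [← mul_assoc, hζ0]) (LinearMap.ext fun x => by simp [← mul_assoc, hζ0])
  let W := L × Module.Dual F L
  let e : W ≃ₗ[F] W := m.prodCongr m.symm.dualMap
  let B : LinearMap.BilinMap F W F :=
    LinearMap.mk₂ F (fun x y : W => x.2 y.1) (fun a b c => rfl) (fun c a b => rfl) (fun a b c => a.2.map_add b.1 c.1)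
      (fun c a b => a.2.map_smul c b.1)
  let R : QuadraticForm F W := B.toQuadraticMap
  have hR : ∀ x : W, R x = x.2 x.1 := fun x => rfl
  have hpol : ∀ x y : W, polar ⇑R x y = x.2 y.1 + y.2 x.1 := fun x y => by
    simp only [polar, hR]
    show (x.2 + y.2) (x.1 + y.1) - x.2 x.1 - y.2 y.1 = _
    rw [LinearMap.add_apply, map_add, map_add]
    ring
  have hiso : ∀ v, R (e v) = R v := fun v => by
    rw [hR, hR]
    show v.2 (m.symm (m v.1)) = v.2 v.1
    rw [m.symm_apply_apply]
  have hmk : ∀ (k : ℕ) (a : L), (m ^ k) a = ζ ^ k * a := by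
    intro k
    induction k with
    | zero => intro a; simp
    | succ k ih => intro a; rw [pow_succ', LinearEquiv.mul_apply, ih]; show ζ * _ = _; rw [pow_succ', mul_assoc]
  have hek : ∀ (k : ℕ), (e ^ k) = (m ^ k).prodCongr ((m.symm.dualMap) ^ k) := fun k => prodCongr_pow _ _ k
  have hdk : ∀ (k : ℕ) (f : Module.Dual F L) (a : L), ((m.symm.dualMap) ^ k) f a = f ((m.symm ^ k) a) := by
    intro k
    induction k with
    | zero => intro f a; rfl
    | succ k ih =>
      intro f a
      rw [pow_succ', LinearEquiv.mul_apply, pow_succ, LinearEquiv.mul_apply]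
      exact ih f (m.symm a)
  have hmr : m ^ r = 1 := LinearEquiv.ext fun a => by rw [hmk, hζr, one_mul]; rfl
  have hpow : e ^ r = 1 := by
    rw [hek, hmr, show (m.symm.dualMap) ^ r = 1 from LinearEquiv.ext fun f => LinearMap.ext fun a => by
      rw [hdk, show m.symm = m⁻¹ from rfl, inv_pow, hmr, inv_one]; rfl]
    rfl
  have hfpf : ∀ v, e v = v → v = 0 := by
    intro v hv
    have h1 : ζ * v.1 = v.1 := congrArg Prod.fst hv
    refine Prod.ext ?_ (LinearMap.ext fun a => ?_)
    · exact by_contra fun h0 => hζ1 ((mul_eq_right₀ h0).1 h1)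
    · have hne : ζ⁻¹ - 1 ≠ 0 := fun h => hζ1 (inv_eq_one.1 (sub_eq_zero.1 h))
      have h2 := LinearMap.congr_fun (congrArg Prod.snd hv) ((ζ⁻¹ - 1)⁻¹ * a)
      change v.2 (ζ⁻¹ * ((ζ⁻¹ - 1)⁻¹ * a)) = _ at h2
      show v.2 a = 0
      conv_lhs => rw [show a = ζ⁻¹ * ((ζ⁻¹ - 1)⁻¹ * a) - (ζ⁻¹ - 1)⁻¹ * a by
        rw [show ∀ t s : L, t * s - s = (t - 1) * s from fun t s => by ring, ← mul_assoc, mul_inv_cancel₀ hne, one_mul]]
      rw [map_sub, h2, sub_self]
  have hnd : (polarBilin R).Nondegenerate := StdForms.nondegenerate_of_left _ fun u hu => by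
    refine Prod.ext ?_ (LinearMap.ext fun a => ?_)
    · refine (Module.forall_dual_apply_eq_zero_iff F _).1 fun f => ?_
      have := hu (0, f)
      rw [hpol] at this
      simpa using this
    · have := hu (a, 0)
      rw [hpol] at this
      simpa using this
  haveI : Finite L := Module.finite_of_finite F
  have hL : Module.finrank F L = orderOf (Fintype.card F : ZMod r) := by
    rw [(AdjoinRoot.powerBasis (irreducible_of_mem hp).ne_zero).finrank, AdjoinRoot.powerBasis_dim,
      natDegree_of_mem hr0 hp]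
  have hdim : Module.finrank F W = 2 * orderOf (Fintype.card F : ZMod r) := by
    rw [Module.finrank_prod, Subspace.dual_finrank_eq, hL, two_mul]
  have hmov := movS_eq_top hpow hr0 hfpf
  by_cases hev : Even (orderOf (Fintype.card F : ZMod r))
  swap
  · rw [if_neg hev, if_neg hev, mul_one]
    refine ⟨W, inferInstance, inferInstance, inferInstance, R, e,
      ⟨hnd, hiso, hpow, hfpf, by rw [hdim, cdim, if_neg hev, mul_one], fun v => ?_, fun U hU hU0 => ?_⟩⟩
    · exact pE_cyclotomic_mov hpow (hmov ▸ Submodule.mem_top)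
    · have h := trivial_bound hr0 hnd hpow hfpf (S := 1) (by rw [hdim, cdim, if_neg hev, mul_one]) hU hU0
      rwa [if_neg hev, mul_one] at h
  rw [if_pos hev, if_pos hev, mul_zero]
  have hfst : ∀ (a : Polynomial F) (x : W), (pE e a x).1 = Polynomial.aeval ζ a * x.1 := by
    intro a x
    rw [pE_prodCongr]
    show pE m a x.1 = _
    induction a using Polynomial.induction_on' generalizing x with
    | add a b ha hb => rw [pE_add, ha, hb, map_add, add_mul]
    | monomial k c =>
      rw [← Polynomial.C_mul_X_pow_eq_monomial, pE_mul, pE_C, pE_X_pow, hmk, map_mul, map_pow, Polynomial.aeval_X,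
        Polynomial.aeval_C, Algebra.smul_def, mul_assoc]
  have hkill : ∀ v, pE e p v = 0 := by
    intro v
    refine Prod.ext (by rw [hfst, hζ, zero_mul]; rfl) (LinearMap.ext fun a => ?_)
    rw [pE_prodCongr]
    show pE m.symm.dualMap p v.2 a = 0
    have hgen : ∀ (b : Polynomial F) (f : Module.Dual F L) (a : L), pE m.symm.dualMap b f a = f (pE m.symm b a) := by
      intro b f a
      induction b using Polynomial.induction_on' generalizing f a with
      | add b b' h h' => rw [pE_add, pE_add, map_add, ← h, ← h']; rfl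
      | monomial k c =>
        rw [← Polynomial.C_mul_X_pow_eq_monomial, pE_mul, pE_mul, pE_C, pE_C, pE_X_pow, pE_X_pow,
          LinearMap.smul_apply, hdk, map_smul]
    have hma : ∀ (b : Polynomial F) (y : L), pE m b y = Polynomial.aeval ζ b * y := fun b y => by
      have h := hfst b (y, 0)
      rwa [pE_prodCongr] at h
    rw [hgen, pE_symm m hmr (q_pow_half hev hr0) p a (by rw [hma, hζ, zero_mul]), map_zero]
  obtain ⟨Bk, -, hBi, hBn, hBd⟩ := exists_block hiso hpow hr0 hr2 (W := (⊤ : Submodule F W))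
    (fun w _ => trivial) (le_of_eq hmov.symm) (nd_top R hnd) (fun h => by
      have := congrArg (fun X : Submodule F W => Module.finrank F X) h
      simp only [finrank_top, finrank_bot] at this
      have := orderOf_pos' (F := F) hr0
      omega)
  let eB : Bk ≃ₗ[F] Bk := LinearEquiv.ofBijective (e.toLinearMap.restrict hBi)
    (by
      have hi : Function.Injective (e.toLinearMap.restrict hBi) := fun a b h =>
        Subtype.ext (e.injective (congrArg Subtype.val h))
      haveI : Finite Bk := Module.finite_of_finite F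
      exact ⟨hi, Finite.surjective_of_injective hi⟩)
  have heB : ∀ (a : Polynomial F) (v : Bk), ((pE eB a v : Bk) : W) = pE e a (v : W) := by
    intro a v
    induction a using Polynomial.induction_on' generalizing v with
    | add a b ha hb => rw [pE_add, pE_add, ← ha, ← hb]; rfl
    | monomial k c =>
      rw [← Polynomial.C_mul_X_pow_eq_monomial, pE_mul, pE_mul, pE_C, pE_C, Submodule.coe_smul, pE_X_pow, pE_X_pow]
      refine congrArg _ ?_
      induction k generalizing v with
      | zero => rfl
      | succ k ih => rw [pow_succ, LinearEquiv.mul_apply, ih, pow_succ, LinearEquiv.mul_apply]; rfl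
  have hBpow : eB ^ r = 1 := LinearEquiv.ext fun v => Subtype.ext (by
    have := heB (Polynomial.X ^ r) v
    rw [pE_X_pow, pE_X_pow, hpow] at this
    exact this)
  have hBfpf : ∀ v, eB v = v → v = 0 := fun v hv => Subtype.ext (hfpf _ (congrArg Subtype.val hv))
  refine ⟨Bk, inferInstance, inferInstance, inferInstance, rQ R Bk, eB,
    ⟨(nd_iff R Bk).2 hBn, fun v => hiso v, hBpow, hBfpf, by rw [hBd, mul_one],
      fun v => Subtype.ext (by rw [heB, hkill]; rfl), fun U hU hU0 => ?_⟩⟩
  have h := trivial_bound hr0 ((nd_iff R Bk).2 hBn) hBpow hBfpf (S := 1) (by rw [hBd, mul_one]) hU hU0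
  rwa [if_pos hev, show (1 : ℕ) / 2 = 0 from rfl, mul_zero] at h

end Block

theorem exists_model (hr0 : (r : F) ≠ 0) (hr2 : r ≠ 2) {S : ℕ} (hS : 1 ≤ S) :
    ∃ P, HasMod F r S P (orderOf (Fintype.card F : ZMod r) * tsNum F r S) := by
  set i := orderOf (Fintype.card F : ZMod r) with hi
  have hsame : ∀ p ∈ classes F r, ∀ T, 1 ≤ T →
      HasMod F r T (if Even i then p else Polynomial.cyclotomic r F) (i * (if Even i then T / 2 else T)) := by
    intro p hp T hT
    induction T, hT using Nat.le_induction with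
    | base =>
      have h := hasMod_block hr0 hr2 hp
      rw [← hi] at h
      split_ifs at h ⊢ <;> simpa using h
    | succ T hT ih => exact (HasMod.prod hr0 ih (hasMod_block hr0 hr2 hp)).2 rfl
  by_cases hev : Even i
  swap
  · obtain ⟨p, hp⟩ := classes_nonempty (F := F) (r := r) hr0
    have h := hsame p hp S hS
    simp only [if_neg hev] at h
    exact ⟨_, by rwa [tsNum, if_neg hev]⟩
  have hspecial : ∀ s : Finset (Polynomial F), s ⊆ classes F r → s.Nonempty → ∀ T, s.card ≤ T →
      HasMod F r T (∏ p ∈ s, p) (i * ((T + 1 - s.card) / 2)) := by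
    intro s
    induction s using Finset.induction_on with
    | empty => intro _ h; exact absurd h (by simp)
    | insert a s ha ih =>
      intro hsub _ T hT
      rw [Finset.card_insert_of_notMem ha] at hT ⊢
      obtain ⟨haC, hsC⟩ := Finset.insert_subset_iff.1 hsub
      rcases s.eq_empty_or_nonempty with rfl | hne
      · have h := hsame a haC T (by omega)
        rw [if_pos hev, if_pos hev] at h
        simpa using h
      · have hb := hasMod_block hr0 hr2 haC
        rw [← hi, if_pos hev, if_pos hev, mul_zero] at hb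
        have hcop : IsCoprime a (∏ p ∈ s, p) := IsCoprime.prod_right fun p hp =>
          isCoprime_of_mem haC (hsC hp) fun e => ha (e ▸ hp)
        have h := (HasMod.prod hr0 hb (ih hsC hne (T - 1) (by omega))).1 hcop
        rw [Finset.prod_insert ha]
        have e1 : 1 + (T - 1) = T := by omega
        have e2 : T - 1 + 1 - s.card = T + 1 - (s.card + 1) := by omega
        rw [e1, e2, zero_add] at h
        exact h
  obtain ⟨s, hs, hsc⟩ := Finset.exists_subset_card_eq (s := classes F r) (n := min S (classes F r).card) (min_le_right _ _)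
  have hpos := Finset.card_pos.2 (classes_nonempty (F := F) (r := r) hr0)
  have h := hspecial s hs (Finset.card_pos.1 (by omega)) S (by omega)
  refine ⟨∏ p ∈ s, p, ?_⟩
  have hN := card_classes (F := F) (r := r) hr0
  rw [← hi] at hN
  rw [tsNum, if_pos hev, ← hi, ← hN]
  rwa [show (S + 1 - (classes F r).card) / 2 = (S + 1 - s.card) / 2 by omega]

variable {V : Type u} [AddCommGroup V] [Module F V] [FiniteDimensional F V] {Q : QuadraticForm F V}

/-- An element with `S` blocks. -/
theorem exists_elem (hQ : (polarBilin Q).Nondegenerate) (h2 : Odd (Module.finrank F V) → (2 : F) ≠ 0)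
    (hr0 : (r : F) ≠ 0) (hr2 : r ≠ 2) {S : ℕ} (hS : 1 ≤ S)
    (hadm : cdim F r * S < Module.finrank F V ∨ (cdim F r * S = Module.finrank F V ∧ qsgn Q = bsgn F r S)) :
    ∃ e : V ≃ₗ[F] V, (∀ v, Q (e v) = Q v) ∧ e ^ r = 1 ∧ e ≠ 1 ∧ Module.finrank F (movS e) = cdim F r * S ∧
      ∀ U : Submodule F V, Inv e U → U ≤ movS e → (∀ x ∈ U, Q x = 0) →
        Module.finrank F U ≤ orderOf (Fintype.card F : ZMod r) * tsNum F r S := by
  obtain ⟨P, M, _, _, _, R, g, hm⟩ := exists_model (F := F) hr0 hr2 hS
  obtain ⟨l, hl⟩ := even_cdim (F := F) (r := r)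
  have hcS : cdim F r * S = 2 * (l * S) := by rw [hl]; ring
  have hl0 : 0 < l * S := by
    have := cdim_pos (F := F) hr0
    exact Nat.mul_pos (by omega) hS
  have hmovM := movS_eq_top hm.pow hr0 hm.fpf
  have hdM : Module.finrank F (⊤ : Submodule F M) = cdim F r * S := by rw [finrank_top, hm.dim]
  have hsR : qsgn R = bsgn F r S := by
    have h := qsgn_blocks hm.iso hm.pow hr0 hr2 (W := (⊤ : Submodule F M)) (fun w _ => trivial)
      (le_of_eq hmovM.symm) (nd_top R hm.nd) hdM
    rw [← h]
    exact qsgn_congr (R := rQ R ⊤) (T := R) Submodule.topEquiv fun v => rfl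
  obtain ⟨W, hWn, hWd, hWs⟩ := exists_nd_sub hQ h2 (l := l * S) (bsgn_cases (F := F) (r := r) S)
    (fun h => absurd h hl0.ne') (by rwa [← hcS])
  obtain ⟨φ, hφ⟩ := FormConj.exists_isometry_of_type hl0 (hm.dim.trans hcS) hWd hm.nd ((nd_iff Q W).2 hWn)
    (by rw [← qsgn_eq_one_iff, ← qsgn_eq_one_iff, hsR, hWs])
  let eW : W ≃ₗ[F] W := (φ.symm.trans g).trans φ
  let Φ := splitEquiv Q hWn
  let e : V ≃ₗ[F] V := (Φ.symm.trans (eW.prodCongr (LinearEquiv.refl F _))).trans Φ
  have hek : ∀ k : ℕ, ∀ a : M, ∀ b, (e ^ k) (Φ (φ a, b)) = Φ (φ ((g ^ k) a), b) := by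
    intro k
    induction k with
    | zero => intro a b; rfl
    | succ k ih =>
      intro a b
      rw [pow_succ, LinearEquiv.mul_apply, show e (Φ (φ a, b)) = Φ (φ (g a), b) by simp [e, eW], ih, pow_succ,
        LinearEquiv.mul_apply]
  have hrep : ∀ v, ∃ a b, Φ (φ a, b) = v := fun v =>
    ⟨φ.symm (Φ.symm v).1, (Φ.symm v).2, by simp⟩
  have he1 : ∀ a b, e (Φ (φ a, b)) = Φ (φ (g a), b) := fun a b => by simpa using hek 1 a b
  have hQe : ∀ v, Q (e v) = Q v := fun v => by
    obtain ⟨a, b, rfl⟩ := hrep v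
    have hnat : ∀ y : M, Q (φ y : V) = R y := fun y => hφ y
    rw [he1, splitEquiv_form, splitEquiv_form, QuadraticMap.prod_apply, QuadraticMap.prod_apply]
    show Q (φ (g a) : V) + _ = Q (φ a : V) + _
    rw [hnat, hnat, hm.iso]
  have her : e ^ r = 1 := LinearEquiv.ext fun v => by
    obtain ⟨a, b, rfl⟩ := hrep v
    rw [hek, hm.pow]
    rfl
  have hmov : movS e = W := by
    refine le_antisymm ?_ ?_
    · rintro _ ⟨v, rfl⟩
      obtain ⟨a, b, rfl⟩ := hrep v
      show e _ - Φ _ ∈ W
      rw [he1, splitEquiv_apply, splitEquiv_apply, add_sub_add_right_eq_sub]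
      exact sub_mem (φ (g a)).2 (φ a).2
    · intro w hw
      obtain ⟨a, ha⟩ : φ.symm ⟨w, hw⟩ ∈ movS g := hmovM ▸ Submodule.mem_top
      refine ⟨Φ (φ a, 0), ?_⟩
      show e _ - Φ _ = w
      rw [he1, ← map_sub Φ, Prod.mk_sub_mk, ← map_sub φ, sub_zero]
      change g a - a = _ at ha
      rw [ha, φ.apply_symm_apply, splitEquiv_apply]
      simp
  have hdimmov : Module.finrank F (movS e) = cdim F r * S := by rw [hmov, hWd, ← hcS]
  refine ⟨e, hQe, her, fun h1 => ?_, hdimmov, fun U hU hUm hU0 => ?_⟩
  · have hbot : movS e = ⊥ := eq_bot_iff.2 (by rintro _ ⟨v, rfl⟩; simp [h1])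
    rw [hbot, finrank_bot, hcS] at hdimmov
    omega
  · have hUW : U ≤ W := hmov ▸ hUm
    let f : M →ₗ[F] V := W.subtype ∘ₗ φ.toLinearMap
    have hfinj : Function.Injective f := W.injective_subtype.comp φ.injective
    have hrange : U ≤ LinearMap.range f := fun x hx => ⟨φ.symm ⟨x, hUW hx⟩, by simp [f]⟩
    have hcomap : (U.comap f).map f = U := Submodule.map_comap_eq_self hrange
    have hd : Module.finrank F (U.comap f) = Module.finrank F U := by
      exact (Submodule.equivMapOfInjective f hfinj (U.comap f)).finrank_eq.trans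
        (congrArg (fun X : Submodule F V => Module.finrank F X) hcomap)
    rw [← hd]
    refine hm.bound _ (fun y hy => ?_) fun y hy => ?_
    · show (φ (g y) : V) ∈ U
      have h := hU _ hy
      have h2 : e (φ y : V) = (φ (g y) : V) := by
        have h3 := he1 y 0
        simpa [Φ, splitEquiv_apply] using h3
      change e (φ y : V) ∈ U at h
      rwa [h2] at h
    · rw [← hφ y]
      exact hU0 _ hy

end Cfsg.Agent.Lib.OrthPrime
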