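import Mathlib
import Cfsg.Agent.Lib.OrthPrime.Model

/-!
Criteria for all elements of prime order `r ≠ p` of an orthogonal group to fix a subspace of a given kind.
-/

set_option autoImplicit false
set_option linter.unusedSectionVars false

namespace Cfsg.Agent.Lib.OrthPrime

open QuadraticMap
open scoped _root_.Classical

universe u

variable {F : Type u} [Field F] [Fintype F] {V : Type u} [AddCommGroup V] [Module F V] [FiniteDimensional F V]
variable (Q : QuadraticForm F V) (r : ℕ)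

/-- An isometry of order `r`. -/
def GoodE (e : V ≃ₗ[F] V) : Prop := (∀ v, Q (e v) = Q v) ∧ e ^ r = 1 ∧ e ≠ 1

/-- Every isometry of order `r` fixes a member of `P`. -/
def AllFix (P : Submodule F V → Prop) : Prop := ∀ e, GoodE Q r e → ∃ W, P W ∧ Inv e W

/-- Totally singular `m`-spaces. -/
def TSsub (m : ℕ) (W : Submodule F V) : Prop := Module.finrank F W = m ∧ ∀ w ∈ W, Q w = 0

/-- Non-degenerate `m`-spaces of sign `s`. -/
def NDsub (m : ℕ) (s : ℤ) (W : Submodule F V) : Prop :=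
  Module.finrank F W = m ∧ Nd Q W ∧ qsgn (rQ Q W) = s

/-- Numbers of blocks that occur. -/
def Adm (S : ℕ) : Prop :=
  1 ≤ S ∧ (cdim F r * S < Module.finrank F V ∨ (cdim F r * S = Module.finrank F V ∧ qsgn Q = bsgn F r S))

/-- The Witt index of the fixed space of an element with `S` blocks. -/
noncomputable def wC (S : ℕ) : ℕ :=
  if Odd (Module.finrank F V) ∨ qsgn Q = bsgn F r S then (Module.finrank F V - cdim F r * S) / 2
  else (Module.finrank F V - cdim F r * S) / 2 - 1

variable {Q r} [Fact r.Prime]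

theorem elem_data (hQ : (polarBilin Q).Nondegenerate) (hr0 : (r : F) ≠ 0) (hr2 : r ≠ 2) {e : V ≃ₗ[F] V}
    (he : GoodE Q r e) :
    ∃ S, Adm Q r S ∧ Module.finrank F (movS e) = cdim F r * S ∧
      Module.finrank F (fixS e) = Module.finrank F V - cdim F r * S ∧ wIdx (rQ Q (fixS e)) = wC Q r S ∧
      (Even (Module.finrank F V) → qsgn (rQ Q (fixS e)) = qsgn Q * bsgn F r S) := by
  obtain ⟨hQe, her, hne⟩ := he
  obtain ⟨hC, hD, hperp⟩ := qperp_fixS hQe her hr0 hQ
  obtain ⟨S, hS, -⟩ := exists_sub hQe her hr0 hr2 inv_movS le_rfl hD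
  have hdim := Submodule.finrank_add_eq_of_isCompl (isCompl_fixS_movS her hr0)
  have hsD := qsgn_blocks hQe her hr0 hr2 inv_movS le_rfl hD hS
  have hpos : 1 ≤ S := by
    rcases Nat.eq_zero_or_pos S with rfl | h
    · exfalso
      rw [mul_zero, Submodule.finrank_eq_zero] at hS
      exact hne (LinearEquiv.ext fun v => sub_eq_zero.1 ((Submodule.mem_bot F).1 (hS ▸ sub_mem_movS (e := e) v)))
    · exact h
  have hsign : Even (Module.finrank F V) → qsgn (rQ Q (fixS e)) = qsgn Q * bsgn F r S := by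
    intro hev
    obtain ⟨cc, hcc⟩ := even_cdim (F := F) (r := r)
    have hDS : Module.finrank F (movS e) = 2 * (cc * S) := by rw [hS, hcc]; ring
    obtain ⟨n, hn⟩ := hev
    have h := qsgn_split Q hQ hC (k := n - cc * S) (l := cc * S) (by omega) (by rw [hperp]; exact hDS)
    rw [hperp, hsD] at h
    rcases bsgn_cases (F := F) (r := r) S with hb | hb <;> rw [hb] at h ⊢ <;> linarith
  have hwidx : wIdx (rQ Q (fixS e)) = wC Q r S := by
    have hfd : Module.finrank F (fixS e) = Module.finrank F V - cdim F r * S := by omega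
    unfold wIdx wC
    rw [hfd]
    by_cases hod : Odd (Module.finrank F V)
    · rw [if_pos (Or.inl hod), if_pos (Or.inl (by
        obtain ⟨cc, hcc⟩ := even_cdim (F := F) (r := r)
        obtain ⟨n, hn⟩ := hod
        refine ⟨n - cc * S, ?_⟩
        have h2 : cdim F r * S = 2 * (cc * S) := by rw [hcc]; ring
        omega))]
    · have hev := Nat.not_odd_iff_even.1 hod
      have hiff : (Odd (Module.finrank F V - cdim F r * S) ∨ FormConj.IsHyp (rQ Q (fixS e))) ↔ qsgn Q = bsgn F r S := by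
        rw [← qsgn_eq_one_iff, hsign hev]
        constructor
        · rintro (h | h)
          · exfalso
            exact Nat.not_even_iff_odd.2 h (Nat.even_sub (by omega) |>.2 (iff_of_true hev (even_cdim.mul_right S)))
          · rcases qsgn_cases Q with a | a <;> rcases bsgn_cases (F := F) (r := r) S with b | b <;>
              rw [a, b] at h ⊢ <;> simp_all
        · intro h
          refine Or.inr ?_
          rcases qsgn_cases Q with a | a <;> rw [← h, a] <;> simp
      split_ifs with h1 h2 h3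
      · rfl
      · exact absurd (Or.inr (hiff.1 h1)) h2
      · exact absurd (hiff.2 (h3.resolve_left hod)) h1
      · rfl
  refine ⟨S, ⟨hpos, ?_⟩, hS, by omega, hwidx, hsign⟩
  rcases lt_or_eq_of_le (show cdim F r * S ≤ Module.finrank F V by omega) with h | h
  · exact Or.inl h
  · refine Or.inr ⟨h, ?_⟩
    rw [← hsD]
    have htop : movS e = ⊤ := Submodule.eq_top_of_finrank_eq (by omega)
    rw [htop]
    exact (qsgn_congr (R := rQ Q ⊤) (T := Q) Submodule.topEquiv fun v => rfl)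

theorem adm_elem (hQ : (polarBilin Q).Nondegenerate) (h2 : Odd (Module.finrank F V) → (2 : F) ≠ 0)
    (hr0 : (r : F) ≠ 0) (hr2 : r ≠ 2) {S : ℕ} (hS : Adm Q r S) :
    ∃ e, GoodE Q r e ∧ Module.finrank F (fixS e) = Module.finrank F V - cdim F r * S ∧
      Module.finrank F (movS e) = cdim F r * S ∧ wIdx (rQ Q (fixS e)) = wC Q r S ∧
      (Even (Module.finrank F V) → qsgn (rQ Q (fixS e)) = qsgn Q * bsgn F r S) ∧
      ∀ U : Submodule F V, Inv e U → U ≤ movS e → (∀ x ∈ U, Q x = 0) →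
        Module.finrank F U ≤ orderOf (Fintype.card F : ZMod r) * tsNum F r S := by
  obtain ⟨e, hQe, her, hne, hd, hU⟩ := exists_elem hQ h2 hr0 hr2 hS.1 hS.2
  obtain ⟨S', -, hS'd, hfd, hw, hs⟩ := elem_data hQ hr0 hr2 (e := e) ⟨hQe, her, hne⟩
  obtain rfl : S = S' := Nat.eq_of_mul_eq_mul_left (cdim_pos hr0) (hd.symm.trans hS'd)
  exact ⟨e, ⟨hQe, her, hne⟩, hfd, hd, hw, hs, hU⟩

omit [Fintype F] in
theorem finrank_map_eq' {X : Type u} [AddCommGroup X] [Module F X] (f : X →ₗ[F] V) (hf : Function.Injective f)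
    (U : Submodule F X) : Module.finrank F (U.map f) = Module.finrank F U :=
  (Submodule.equivMapOfInjective f hf U).finrank_eq.symm

/-- The criterion for totally singular spaces. -/
theorem allFix_ts_iff (hQ : (polarBilin Q).Nondegenerate) (h2 : Odd (Module.finrank F V) → (2 : F) ≠ 0)
    (hr0 : (r : F) ≠ 0) (hr2 : r ≠ 2) (m : ℕ) :
    AllFix Q r (TSsub Q m) ↔ ∀ S, Adm Q r S → ∃ k ≤ tsNum F r S,
      orderOf (Fintype.card F : ZMod r) * k ≤ m ∧ m - orderOf (Fintype.card F : ZMod r) * k ≤ wC Q r S := by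
  constructor
  · intro h S hS
    obtain ⟨e, he, hfd, hd, hw, -, hbound⟩ := adm_elem hQ h2 hr0 hr2 hS
    obtain ⟨W, ⟨hWd, hW0⟩, hWi⟩ := h e he
    obtain ⟨hQe, her, -⟩ := he
    obtain ⟨hC, -, -⟩ := qperp_fixS hQe her hr0 hQ
    obtain ⟨k, hk⟩ := orderOf_dvd_finrank her hr0 (hWi.inf inv_movS) (inf_le_right : W ⊓ movS e ≤ _)
    have h1 := hbound _ (hWi.inf inv_movS) inf_le_right fun x hx => hW0 x hx.1
    have h3 := finrank_inv_split her hr0 hWi
    have h4 : Module.finrank F ↥(W ⊓ fixS e) ≤ wC Q r S := by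
      rw [← hw]
      have h5 := ts_le_wIdx ((nd_iff Q _).2 hC) (U := (W ⊓ fixS e).comap (fixS e).subtype) (fun x hx => hW0 _ hx.1)
      rwa [(Submodule.comapSubtypeEquivOfLe (inf_le_right : W ⊓ fixS e ≤ fixS e)).finrank_eq] at h5
    rw [hWd, hk] at h3
    rw [hk] at h1
    exact ⟨k, Nat.le_of_mul_le_mul_left h1 (orderOf_pos' hr0), by omega, by omega⟩
  · intro h e he
    obtain ⟨S, hS, hd, hfd, hw, -⟩ := elem_data hQ hr0 hr2 he
    obtain ⟨k, hk, hkm, hkw⟩ := h S hS
    obtain ⟨hQe, her, -⟩ := he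
    obtain ⟨hC, hD, -⟩ := qperp_fixS hQe her hr0 hQ
    obtain ⟨U, hUm, hUi, hU0, hUd⟩ := exists_ts hQe her hr0 hr2 inv_movS le_rfl hD hd hk
    obtain ⟨U', hU'0, hU'd⟩ := exists_ts_sub ((nd_iff Q _).2 hC) (j := m - orderOf (Fintype.card F : ZMod r) * k)
      (fun hod => h2 (by
        obtain ⟨cc, hcc⟩ := even_cdim (F := F) (r := r)
        obtain ⟨n, hn⟩ := hod
        have hle : cdim F r * S ≤ Module.finrank F V := hd ▸ Submodule.finrank_le _
        have h5 : cdim F r * S = 2 * (cc * S) := by rw [hcc]; ring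
        exact ⟨n + cc * S, by omega⟩))
      (hw ▸ hkw)
    refine ⟨U ⊔ U'.map (fixS e).subtype, ⟨?_, ?_⟩, hUi.sup (inv_of_le_fixS (Submodule.map_subtype_le _ _))⟩
    · rw [finrank_sup_of_disjoint (eq_bot_iff.2 (le_trans (inf_le_inf hUm (Submodule.map_subtype_le _ _))
        (by rw [inf_comm]; exact (fixS_inf_movS her hr0).le))), hUd, finrank_map_eq' _ (fixS e).injective_subtype, hU'd]
      omega
    · refine ts_sup hU0 ?_ fun a ha b hb => ?_
      · rintro _ ⟨x, hx, rfl⟩
        exact hU'0 x hx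
      · rw [polar_comm]
        exact fixS_perp_movS hQe (Submodule.map_subtype_le _ _ hb) (hUm ha)

theorem rQ_comap (W : Submodule F V) {U : Submodule F V} (hU : U ≤ W) (hn : Nd Q U) :
    Nd (rQ Q W) (U.comap W.subtype) ∧ qsgn (rQ (rQ Q W) (U.comap W.subtype)) = qsgn (rQ Q U) := by
  constructor
  · intro x hx h
    refine Subtype.ext (hn x hx fun y hy => ?_)
    rw [← polar_rQ Q W x ⟨y, hU hy⟩]
    exact h ⟨y, hU hy⟩ hy
  · exact (qsgn_congr (R := rQ (rQ Q W) (U.comap W.subtype)) (T := rQ Q U) (Submodule.comapSubtypeEquivOfLe hU)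
      fun v => rfl).symm

theorem rQ_map (W : Submodule F V) {U : Submodule F W} (hn : Nd (rQ Q W) U) :
    Nd Q (U.map W.subtype) ∧ qsgn (rQ Q (U.map W.subtype)) = qsgn (rQ (rQ Q W) U) := by
  constructor
  · rintro _ ⟨x, hx, rfl⟩ h
    rw [hn x hx fun y hy => by rw [polar_rQ]; exact h _ ⟨y, hy, rfl⟩, map_zero]
  · exact qsgn_congr (R := rQ (rQ Q W) U) (T := rQ Q (U.map W.subtype))
      (Submodule.equivMapOfInjective W.subtype W.injective_subtype U) fun v => rfl

/-- The criterion for non-degenerate spaces of even dimension. -/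
theorem allFix_nd_iff (hQ : (polarBilin Q).Nondegenerate) (h2 : Odd (Module.finrank F V) → (2 : F) ≠ 0)
    (hr0 : (r : F) ≠ 0) (hr2 : r ≠ 2) {m : ℕ} (hm : Even m) {s : ℤ} (hs : s = 1 ∨ s = -1) :
    AllFix Q r (NDsub Q m s) ↔ ∀ S, Adm Q r S → ∃ t ≤ S, cdim F r * t ≤ m ∧
      ((cdim F r * t = m ∧ bsgn F r t = s) ∨ (cdim F r * t < m ∧
        (m - cdim F r * t < Module.finrank F V - cdim F r * S ∨
          (m - cdim F r * t = Module.finrank F V - cdim F r * S ∧ qsgn Q * bsgn F r S * bsgn F r t = s)))) := by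
  obtain ⟨cc, hcc⟩ := even_cdim (F := F) (r := r)
  have hct : ∀ t, cdim F r * t = 2 * (cc * t) := fun t => by rw [hcc]; ring
  obtain ⟨l, hl⟩ := hm
  constructor
  · intro h S hS
    obtain ⟨e, he, hfd, hd, -, hsC, -⟩ := adm_elem hQ h2 hr0 hr2 hS
    obtain ⟨W, ⟨hWd, hWn, hWs⟩, hWi⟩ := h e he
    obtain ⟨hQe, her, -⟩ := he
    obtain ⟨hC, hD, hperp⟩ := qperp_fixS hQe her hr0 hQ
    obtain ⟨hA, hB⟩ := nd_inf_movS hQe her hr0 hWi hWn
    obtain ⟨t, ht, -⟩ := exists_sub hQe her hr0 hr2 (hWi.inf inv_movS) inf_le_right hB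
    have hsB := qsgn_blocks hQe her hr0 hr2 (hWi.inf inv_movS) inf_le_right hB ht
    have hdim := finrank_inv_split her hr0 hWi
    have hBle : cdim F r * t ≤ cdim F r * S := by rw [← ht, ← hd]; exact Submodule.finrank_mono inf_le_right
    have hAle : Module.finrank F ↥(W ⊓ fixS e) ≤ Module.finrank F (fixS e) := Submodule.finrank_mono inf_le_right
    have hsW : qsgn (rQ Q W) = qsgn (rQ Q (W ⊓ fixS e)) * bsgn F r t := by
      rw [← hsB]
      obtain ⟨hA', hA's⟩ := rQ_comap (Q := Q) W (inf_le_left : W ⊓ fixS e ≤ W) hA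
      obtain ⟨hB', hB's⟩ := rQ_comap (Q := Q) W (inf_le_left : W ⊓ movS e ≤ W) hB
      rw [← hA's, ← hB's]
      have hfA := (Submodule.comapSubtypeEquivOfLe (inf_le_left : W ⊓ fixS e ≤ W)).finrank_eq
      have hfB := (Submodule.comapSubtypeEquivOfLe (inf_le_left : W ⊓ movS e ≤ W)).finrank_eq
      have hWn' := (nd_iff Q W).2 hWn
      have hq := finrank_qperp (rQ Q W) hA'
      have hpe : qperp (rQ Q W) ((W ⊓ fixS e).comap W.subtype) = (W ⊓ movS e).comap W.subtype := by
        refine (Submodule.eq_of_le_of_finrank_eq (fun x hx => (mem_qperp _).2 fun y hy => ?_) ?_).symm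
        · rw [polar_rQ]; exact fixS_perp_movS hQe hy.2 hx.2
        · omega
      have := qsgn_split (rQ Q W) hWn' hA' (k := l - cc * t) (l := cc * t)
        (by rw [hfA]; have := hct t; omega) (by rw [hpe, hfB, ht, hct])
      rw [this, hpe]
    refine ⟨t, Nat.le_of_mul_le_mul_left hBle (cdim_pos hr0), by omega, ?_⟩
    rcases Nat.eq_zero_or_pos (Module.finrank F ↥(W ⊓ fixS e)) with h0 | h0
    · refine Or.inl ⟨by omega, ?_⟩
      rw [← hWs, hsW]
      have : qsgn (rQ Q (W ⊓ fixS e)) = 1 :=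
        (qsgn_eq_one_iff _).2 ⟨⊥, by rw [finrank_bot, mul_zero, h0], fun u hu => by simp [(Submodule.mem_bot F).1 hu]⟩
      rw [this, one_mul]
    refine Or.inr ⟨by omega, ?_⟩
    rcases lt_or_eq_of_le hAle with hlt | heq
    · exact Or.inl (by omega)
    · refine Or.inr ⟨by omega, ?_⟩
      have hev : Even (Module.finrank F V) := ⟨(m - cdim F r * t) / 2 + cc * S, by
        have := hct t; have := hct S
        have : cdim F r * S ≤ Module.finrank F V := hd ▸ Submodule.finrank_le _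
        omega⟩
      rw [← hWs, hsW, Submodule.eq_of_le_of_finrank_eq inf_le_right heq, hsC hev]
  · intro h e he
    obtain ⟨S, hS, hd, hfd, -, hsC⟩ := elem_data hQ hr0 hr2 he
    obtain ⟨t, htS, htm, hcase⟩ := h S hS
    obtain ⟨hQe, her, -⟩ := he
    obtain ⟨hC, hD, hperp⟩ := qperp_fixS hQe her hr0 hQ
    obtain ⟨S', hS'd, hsub⟩ := exists_sub hQe her hr0 hr2 inv_movS le_rfl hD
    obtain rfl : S = S' := Nat.eq_of_mul_eq_mul_left (cdim_pos hr0) (hd.symm.trans hS'd)
    obtain ⟨B, hBm, hBi, hBn, hBd⟩ := hsub t htS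
    have hsB := qsgn_blocks hQe her hr0 hr2 hBi hBm hBn hBd
    have h2C : Odd (Module.finrank F (fixS e)) → (2 : F) ≠ 0 := fun hod => h2 (by
      obtain ⟨n, hn⟩ := hod
      have hle : cdim F r * S ≤ Module.finrank F V := hd ▸ Submodule.finrank_le _
      have := hct S
      exact ⟨n + cc * S, by omega⟩)
    have hsA : (bsgn F r t * s = 1 ∨ bsgn F r t * s = -1) := by
      rcases bsgn_cases (F := F) (r := r) t with a | a <;> rcases hs with b | b <;> rw [a, b] <;> simp
    obtain ⟨A, hAn, hAd, hAs⟩ := exists_nd_sub ((nd_iff Q _).2 hC) h2C (l := l - cc * t) hsA (fun h0 => by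
        rcases hcase with ⟨h1, h3⟩ | ⟨h1, -⟩
        · rw [h3]; rcases hs with b | b <;> rw [b] <;> rfl
        · have := hct t; omega)
      (by
        rcases hcase with ⟨h1, h3⟩ | ⟨h1, h4 | ⟨h4, h5⟩⟩
        · rcases Nat.eq_zero_or_pos (Module.finrank F (fixS e)) with h0 | h0
          · refine Or.inr ⟨by have := hct t; omega, ?_⟩
            rw [(qsgn_eq_one_iff _).2 ⟨⊥, by rw [finrank_bot, mul_zero, h0], fun u hu => by simp [(Submodule.mem_bot F).1 hu]⟩,
              h3]
            rcases hs with b | b <;> rw [b] <;> rfl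
          · exact Or.inl (by have := hct t; omega)
        · exact Or.inl (by have := hct t; omega)
        · refine Or.inr ⟨by have := hct t; omega, ?_⟩
          have hev : Even (Module.finrank F V) := ⟨(m - cdim F r * t) / 2 + cc * S, by
            have := hct t; have := hct S
            have : cdim F r * S ≤ Module.finrank F V := hd ▸ Submodule.finrank_le _
            omega⟩
          rw [hsC hev, ← h5]
          rcases bsgn_cases (F := F) (r := r) t with a | a <;> rw [a] <;> ring)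
    obtain ⟨hAn', hAs'⟩ := rQ_map (fixS e) hAn
    have hAle : A.map (fixS e).subtype ≤ fixS e := Submodule.map_subtype_le _ _
    have horth : A.map (fixS e).subtype ≤ qperp Q B := fun x hx => (mem_qperp Q).2 fun y hy => by
      rw [polar_comm]; exact fixS_perp_movS hQe (hAle hx) (hBm hy)
    obtain ⟨hWn, hinf⟩ := nd_sup hBn hAn' horth
    obtain ⟨W, hW⟩ : ∃ W, W = B ⊔ A.map (fixS e).subtype := ⟨_, rfl⟩
    rw [← hW] at hWn
    have hWd : Module.finrank F W = m := by
      rw [hW, finrank_sup_of_disjoint hinf, hBd, finrank_map_eq' _ (fixS e).injective_subtype, hAd]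
      have := hct t; omega
    refine ⟨W, ⟨hWd, hWn, ?_⟩, hW ▸ hBi.sup (inv_of_le_fixS hAle)⟩
    have hBW : B ≤ W := hW.symm ▸ le_sup_left
    have hAW : A.map (fixS e).subtype ≤ W := hW.symm ▸ le_sup_right
    obtain ⟨hB', hB's⟩ := rQ_comap (Q := Q) W hBW hBn
    obtain ⟨hA', hA's⟩ := rQ_comap (Q := Q) W hAW hAn'
    have hfA := (Submodule.comapSubtypeEquivOfLe hAW).finrank_eq
    have hfB := (Submodule.comapSubtypeEquivOfLe hBW).finrank_eq
    rw [finrank_map_eq' _ (fixS e).injective_subtype, hAd] at hfA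
    rw [hBd] at hfB
    have hq := finrank_qperp (rQ Q W) hB'
    have hpe : qperp (rQ Q W) (B.comap W.subtype) = (A.map (fixS e).subtype).comap W.subtype := by
      refine (Submodule.eq_of_le_of_finrank_eq (fun x hx => (mem_qperp _).2 fun y hy => ?_) ?_).symm
      · rw [polar_rQ, polar_comm]; exact fixS_perp_movS hQe (hAle hx) (hBm hy)
      · have := hct t; omega
    rw [qsgn_split (rQ Q W) ((nd_iff Q W).2 hWn) hB' (k := cc * t) (l := l - cc * t) (by rw [hfB, hct])
      (by rw [hpe, hfA]), hpe, hB's, hA's, hsB, hAs', hAs]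
    rcases bsgn_cases (F := F) (r := r) t with a | a <;> rw [a] <;> ring

/-- An odd-dimensional form embeds into every larger even-dimensional one. -/
theorem exists_embed_odd {A C : Type u} [AddCommGroup A] [Module F A] [FiniteDimensional F A] [AddCommGroup C]
    [Module F C] [FiniteDimensional F C] {R : QuadraticForm F A} {T : QuadraticForm F C}
    (hR : (polarBilin R).Nondegenerate) (hT : (polarBilin T).Nondegenerate) (h2 : (2 : F) ≠ 0) {a : ℕ}
    (hA : Module.finrank F A = 2 * a + 1) (hC : 2 * a + 2 ≤ Module.finrank F C) :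
    ∃ φ : A →ₗ[F] C, ∀ x, T (φ x) = R x := by
  obtain ⟨γ, f, hγ, hf, hQf⟩ := exists_odd_coords hR h2 hA
  have hs : ∀ x y, polarBilin T x y = polarBilin T y x := fun x y => by
    simp only [polarBilin_apply_apply]; exact polar_comm _ _ _
  obtain ⟨u, v, hF⟩ := PlusType.exists_hypFrame (B := polarBilin T) h2 hs hT (n := a) (by omega)
  obtain ⟨z, -, hzm, hz, hz'⟩ := PlusType.exists_orth_comp h2 hs hT hF
  have hd := PlusType.le_finrank_frameComp (B := polarBilin T) u v
  let i0 : Fin (Module.finrank F (PlusType.frameComp (polarBilin T) u v)) := ⟨0, by omega⟩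
  let i1 : Fin (Module.finrank F (PlusType.frameComp (polarBilin T) u v)) := ⟨1, by omega⟩
  obtain ⟨α, β, hab⟩ := PlusType.exists_sum_eq (F := F) h2 (hz' i0) (hz' i1) (2 * γ)
  set w := α • z i0 + β • z i1 with hw
  have hwm : w ∈ PlusType.frameComp (polarBilin T) u v :=
    add_mem (Submodule.smul_mem _ _ (hzm _)) (Submodule.smul_mem _ _ (hzm _))
  have hwv := PlusType.mem_frameComp.1 hwm
  have hww : polarBilin T w w = 2 * γ := by
    have h01 := hz i0 i1 (by simp [i0, i1, Fin.ext_iff])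
    have h10 := hz i1 i0 (by simp [i0, i1, Fin.ext_iff])
    simp only [hw, map_add, map_smul, LinearMap.add_apply, LinearMap.smul_apply, smul_eq_mul, h01, h10]
    linear_combination hab
  let g : (Fin a → F) × (Fin a → F) × F →ₗ[F] C :=
    { toFun := fun x => ∑ i, x.1 i • u i + ∑ i, x.2.1 i • v i + x.2.2 • w
      map_add' := fun x y => by simp [add_smul, Finset.sum_add_distrib]; abel
      map_smul' := fun c x => by simp [smul_add, Finset.smul_sum, smul_smul] }
  let Φ := f.linearEquivOfInjective hf (by rw [hA]; simp; ring)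
  refine ⟨g ∘ₗ Φ.symm.toLinearMap, fun x => ?_⟩
  obtain ⟨y, rfl⟩ := Φ.surjective x
  show T (g (Φ.symm (Φ y))) = _
  rw [Φ.symm_apply_apply, show Φ y = f y from LinearMap.linearEquivOfInjective_apply _ _ _, hQf]
  apply mul_left_cancel₀ h2
  have h := polar_self T (g y)
  rw [two_nsmul, ← two_mul] at h
  rw [← h, ← polarBilin_apply_apply]
  have hvu : ∀ i j, polarBilin T (v i) (u j) = if j = i then 1 else 0 := fun i j => by rw [hs, hF.ef]
  have huw : ∀ i, polarBilin T (u i) w = 0 := fun i => by rw [hs]; exact (hwv i).1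
  have hvw : ∀ i, polarBilin T (v i) w = 0 := fun i => by rw [hs]; exact (hwv i).2
  simp only [g, LinearMap.coe_mk, AddHom.coe_mk, map_add, map_sum, map_smul, LinearMap.add_apply,
    LinearMap.sum_apply, LinearMap.smul_apply, smul_eq_mul, hF.ee, hF.ff, hF.ef, hvu, huw, hvw,
    fun i => (hwv i).1, fun i => (hwv i).2, hww, mul_ite, mul_one, mul_zero, Finset.sum_ite_eq,
    Finset.sum_ite_eq', Finset.mem_univ, if_true, Finset.sum_const_zero, add_zero, zero_add]
  rw [Finset.sum_congr rfl fun i _ => mul_comm (y.2.1 i) (y.1 i)]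
  ring

/-- The criterion for one isometry class of non-degenerate spaces of odd dimension. -/
theorem allFix_odd_iff (hQ : (polarBilin Q).Nondegenerate) (h2 : (2 : F) ≠ 0) (hev : Even (Module.finrank F V))
    (hr0 : (r : F) ≠ 0) (hr2 : r ≠ 2) {W₀ : Submodule F V} (hW₀ : Nd Q W₀) {m : ℕ}
    (hW₀d : Module.finrank F W₀ = m) (hm : Odd m) :
    AllFix Q r (fun W => Module.finrank F W = m ∧ Nd Q W ∧ ∃ φ : W ≃ₗ[F] W₀, ∀ w, rQ Q W₀ (φ w) = rQ Q W w) ↔
      ∀ S, Adm Q r S → ∃ t ≤ S, cdim F r * t < m ∧ m - cdim F r * t ≤ Module.finrank F V - cdim F r * S := by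
  obtain ⟨cc, hcc⟩ := even_cdim (F := F) (r := r)
  have hct : ∀ t, cdim F r * t = 2 * (cc * t) := fun t => by rw [hcc]; ring
  obtain ⟨l, hl⟩ := hm
  constructor
  · intro h S hS
    obtain ⟨e, he, hfd, hd, -, -, -⟩ := adm_elem hQ (fun _ => h2) hr0 hr2 hS
    obtain ⟨W, ⟨hWd, hWn, -⟩, hWi⟩ := h e he
    obtain ⟨hQe, her, -⟩ := he
    obtain ⟨hA, hB⟩ := nd_inf_movS hQe her hr0 hWi hWn
    obtain ⟨t, ht, -⟩ := exists_sub hQe her hr0 hr2 (hWi.inf inv_movS) inf_le_right hB
    have hdim := finrank_inv_split her hr0 hWi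
    have hBle : cdim F r * t ≤ cdim F r * S := by rw [← ht, ← hd]; exact Submodule.finrank_mono inf_le_right
    have hAle : Module.finrank F ↥(W ⊓ fixS e) ≤ Module.finrank F (fixS e) := Submodule.finrank_mono inf_le_right
    exact ⟨t, Nat.le_of_mul_le_mul_left hBle (cdim_pos hr0), by have := hct t; omega, by omega⟩
  · intro h e he
    obtain ⟨S, hS, hd, hfd, -, -⟩ := elem_data hQ hr0 hr2 he
    obtain ⟨t, htS, htm, htC⟩ := h S hS
    obtain ⟨hQe, her, -⟩ := he
    obtain ⟨hC, hD, hperp⟩ := qperp_fixS hQe her hr0 hQ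
    obtain ⟨S', hS'd, hsub⟩ := exists_sub hQe her hr0 hr2 inv_movS le_rfl hD
    obtain rfl : S = S' := Nat.eq_of_mul_eq_mul_left (cdim_pos hr0) (hd.symm.trans hS'd)
    obtain ⟨B, hBm, hBi, hBn, hBd⟩ := hsub t htS
    have hsB := qsgn_blocks hQe her hr0 hr2 hBi hBm hBn hBd
    have hW₀' := (nd_iff Q W₀).2 hW₀
    have hctt := hct t
    obtain ⟨R₀, hR₀n, hR₀d, hR₀s⟩ := exists_nd_sub hW₀' (fun _ => h2) (l := cc * t) (bsgn_cases (F := F) (r := r) t)
      (fun h0 => by
        unfold bsgn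
        split_ifs with hi
        · rcases mul_eq_zero.1 h0 with hc | ht0
          · exfalso; have := cdim_pos (F := F) hr0; omega
          · rw [ht0, pow_zero]
        · rfl)
      (Or.inl (by rw [hW₀d]; omega))
    obtain ⟨φB, hφB⟩ : ∃ φ : R₀ →ₗ[F] V, (∀ x, φ x ∈ B) ∧ ∀ x, Q (φ x) = rQ (rQ Q W₀) R₀ x := by
      rcases Nat.eq_zero_or_pos (cc * t) with h0 | h0
      · haveI : Subsingleton R₀ := Module.finrank_zero_iff.1 (by rw [hR₀d, h0])
        exact ⟨0, fun x => by simp, fun x => by rw [Subsingleton.elim x 0, map_zero, map_zero, map_zero]⟩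
      · obtain ⟨φ, hφ⟩ := FormConj.exists_isometry_of_type h0 hR₀d (hBd.trans hctt) ((nd_iff _ R₀).2 hR₀n)
          ((nd_iff Q B).2 hBn) (by rw [← qsgn_eq_one_iff, ← qsgn_eq_one_iff, hR₀s, hsB])
        exact ⟨B.subtype ∘ₗ φ.toLinearMap, fun x => (φ x).2, fun x => hφ x⟩
    have hR₁n := nd_qperp (rQ Q W₀) hW₀' hR₀n
    have hR₁d := finrank_qperp (rQ Q W₀) hR₀n
    obtain ⟨φA, hφA⟩ := exists_embed_odd ((nd_iff _ _).2 hR₁n) ((nd_iff Q _).2 hC) h2 (a := l - cc * t)
      (by omega) (by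
        have := hct S
        obtain ⟨n, hn⟩ := hev
        omega)
    let Φ := splitEquiv (rQ Q W₀) hR₀n
    let ψ : W₀ →ₗ[F] V := (φB.coprod ((fixS e).subtype ∘ₗ φA)) ∘ₗ Φ.symm.toLinearMap
    have hψ : ∀ x, Q (ψ x) = rQ Q W₀ x := by
      intro x
      obtain ⟨y, rfl⟩ := Φ.surjective x
      show Q (φB.coprod ((fixS e).subtype ∘ₗ φA) (Φ.symm (Φ y))) = _
      rw [Φ.symm_apply_apply, splitEquiv_form, QuadraticMap.prod_apply, LinearMap.coprod_apply,
        QuadraticMap.map_add (⇑Q), hφB.2, LinearMap.comp_apply, Submodule.coe_subtype, polar_comm,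
        fixS_perp_movS hQe (b := φB y.1) (φA y.2).2 (hBm (hφB.1 _)), add_zero]
      exact congrArg _ (hφA y.2)
    have hinj := injective_of_preserves Q _ ψ hψ hW₀'
    refine ⟨LinearMap.range ψ, ⟨?_, nd_map Q _ ψ hψ hW₀', ?_⟩, ?_⟩
    · rw [LinearMap.finrank_range_of_inj hinj, hW₀d]
    · refine ⟨(LinearEquiv.ofInjective ψ hinj).symm, fun w => ?_⟩
      obtain ⟨x, rfl⟩ := (LinearEquiv.ofInjective ψ hinj).surjective w
      rw [LinearEquiv.symm_apply_apply]
      exact (hψ x).symm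
    · have hrange : LinearMap.range ψ = LinearMap.range φB ⊔ LinearMap.range ((fixS e).subtype ∘ₗ φA) := by
        show LinearMap.range ((φB.coprod _) ∘ₗ Φ.symm.toLinearMap) = _
        rw [LinearMap.range_comp_of_range_eq_top _ (LinearEquiv.range _), LinearMap.range_coprod]
      rw [hrange]
      refine Inv.sup ?_ (inv_of_le_fixS (by rintro _ ⟨y, rfl⟩; exact (φA y).2))
      have hle : LinearMap.range φB ≤ B := by rintro _ ⟨y, rfl⟩; exact hφB.1 y
      have hi : Function.Injective φB := injective_of_preserves Q _ φB hφB.2 ((nd_iff _ R₀).2 hR₀n)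
      rw [Submodule.eq_of_le_of_finrank_eq hle (by rw [LinearMap.finrank_range_of_inj hi, hR₀d, hBd, hctt])]
      exact hBi

/-- If `r` divides the length of a small orbit, some element of order `r` fixes no member. -/
theorem exists_derangement (hQ : (polarBilin Q).Nondegenerate) (hr0 : (r : F) ≠ 0) (P : Submodule F V → Prop)
    (hP : ∀ g : V ≃ₗ[F] V, (∀ v, Q (g v) = Q v) → ∀ W, P W → P (W.map g.toLinearMap))
    (hiso : ∀ W W', P W → P W' → ∃ φ : W ≃ₗ[F] W', ∀ w : W, Q (φ w : V) = Q (w : V))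
    (hsmall : ∀ e W, GoodE Q r e → P W → Inv e W → W ≤ fixS e)
    (hne : ∃ W, P W) (hdvd : r ∣ Nat.card {W : Submodule F V // P W}) : ¬ AllFix Q r P := by
  intro hall
  haveI : Finite V := Module.finite_of_finite F
  haveI : Finite (V ≃ₗ[F] V) := Finite.of_injective (fun g => (g : V → V)) DFunLike.coe_injective
  let S := {e : V ≃ₗ[F] V | (∀ v, Q (e v) = Q v) ∧ e ^ r = 1}
  obtain ⟨e, ⟨hQe, her⟩, hmax⟩ := Set.exists_max_image S (fun e => Module.finrank F (movS e)) (Set.toFinite _)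
    ⟨1, fun v => rfl, one_pow r⟩
  obtain ⟨hC, hD, hperp⟩ := qperp_fixS hQe her hr0 hQ
  set C := fixS e
  obtain ⟨W₁, hW₁, hW₁C⟩ : ∃ W, P W ∧ W ≤ C := by
    by_cases he1 : e = 1
    · obtain ⟨W, hW⟩ := hne
      exact ⟨W, hW, fun w _ => mem_fixS.2 (by rw [he1]; rfl)⟩
    · obtain ⟨W, hW, hWi⟩ := hall e ⟨hQe, her, he1⟩
      exact ⟨W, hW, hsmall e W ⟨hQe, her, he1⟩ hW hWi⟩
  let Φ := splitEquiv Q hC
  let ext : (C ≃ₗ[F] C) → (qperp Q C ≃ₗ[F] qperp Q C) → (V ≃ₗ[F] V) := fun a b =>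
    (Φ.symm.trans (a.prodCongr b)).trans Φ
  have hext : ∀ a b x, ext a b (Φ x) = Φ (a x.1, b x.2) := fun a b x => by simp [ext]
  have hextQ : ∀ a b, (∀ x, rQ Q C (a x) = rQ Q C x) → (∀ x, rQ Q (qperp Q C) (b x) = rQ Q _ x) →
      ∀ v, Q (ext a b v) = Q v := by
    intro a b ha hb v
    obtain ⟨x, rfl⟩ := Φ.surjective v
    rw [hext, splitEquiv_form, splitEquiv_form, QuadraticMap.prod_apply, QuadraticMap.prod_apply, ha, hb]
  have hext1 : ∀ a b (c : C), ext a b (c : V) = (a c : V) := fun a b c => by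
    have h1 : (c : V) = Φ (c, 0) := by rw [splitEquiv_apply]; simp
    rw [h1, hext, map_zero, splitEquiv_apply]
    simp
  -- the isometry group of `C` has no element of order `r`
  let H : Subgroup (C ≃ₗ[F] C) :=
    { carrier := {g | ∀ x, rQ Q C (g x) = rQ Q C x}
      mul_mem' := fun {a b} ha hb x => (ha (b x)).trans (hb x)
      one_mem' := fun x => rfl
      inv_mem' := fun {a} ha x => by
        conv_rhs => rw [← a.apply_symm_apply x, ha]
        rfl }
  have hH : ¬ r ∣ Nat.card H := by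
    intro hd
    haveI : Finite (C ≃ₗ[F] C) := Finite.of_injective (fun g => (g : C → C)) DFunLike.coe_injective
    obtain ⟨⟨g, hg⟩, hgo⟩ := exists_prime_orderOf_dvd_card' r hd
    have hgr : g ^ r = 1 := by
      have h := pow_orderOf_eq_one (⟨g, hg⟩ : H)
      rw [hgo] at h
      exact congrArg Subtype.val h
    have hg1 : g ≠ 1 := fun h => by
      subst h
      rw [show (⟨1, hg⟩ : H) = 1 from rfl, orderOf_one] at hgo
      exact (Fact.out : r.Prime).one_lt.ne hgo
    have hDi : ∀ x ∈ qperp Q C, e x ∈ qperp Q C := by rw [hperp]; exact inv_movS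
    let d : qperp Q C ≃ₗ[F] qperp Q C := LinearEquiv.ofBijective (e.toLinearMap.restrict hDi)
      (by
        have hi : Function.Injective (e.toLinearMap.restrict hDi) := fun a b h =>
          Subtype.ext (e.injective (congrArg Subtype.val h))
        exact ⟨hi, Finite.surjective_of_injective hi⟩)
    have hdk : ∀ (k : ℕ) x, ((d ^ k) x : V) = (e ^ k) (x : V) := by
      intro k
      induction k with
      | zero => intro x; rfl
      | succ k ih => intro x; rw [pow_succ, LinearEquiv.mul_apply, ih, pow_succ, LinearEquiv.mul_apply]; rfl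
    let e' := ext g d
    have hk : ∀ k x, (e' ^ k) (Φ x) = Φ ((g ^ k) x.1, (d ^ k) x.2) := by
      intro k
      induction k with
      | zero => intro x; rfl
      | succ k ih => intro x; rw [pow_succ, LinearEquiv.mul_apply, hext, ih]; rfl
    have he'r : e' ^ r = 1 := LinearEquiv.ext fun v => by
      obtain ⟨x, rfl⟩ := Φ.surjective v
      rw [hk, hgr, show (d ^ r) x.2 = x.2 from Subtype.ext (by rw [hdk, her]; rfl)]
      rfl
    have hle := hmax e' ⟨hextQ g d hg (fun x => hQe x), he'r⟩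
    obtain ⟨c, hc⟩ : ∃ c, g c ≠ c := by
      by_contra h; push Not at h; exact hg1 (LinearEquiv.ext h)
    have hsub : movS e ≤ movS e' := by
      rintro _ ⟨v, rfl⟩
      obtain ⟨⟨a, b⟩, rfl⟩ := Φ.surjective v
      refine ⟨Φ (0, b), ?_⟩
      show e' _ - _ = e _ - _
      rw [hext, map_zero, splitEquiv_apply, splitEquiv_apply, splitEquiv_apply]
      simp [d, mem_fixS.1 a.2]
      rfl
    have hnew : (g c : V) - c ∈ movS e' := ⟨(c : V), by
      show e' (c : V) - c = _
      rw [hext1]⟩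
    have heq := Submodule.eq_of_le_of_finrank_le hsub hle
    rw [← heq] at hnew
    have hzero : (g c : V) - c = 0 :=
      (Submodule.mem_bot F).1 ((fixS_inf_movS her hr0).le ⟨sub_mem (g c).2 c.2, hnew⟩)
    exact hc (Subtype.ext (sub_eq_zero.1 hzero))
  -- the members in `C` form one orbit of `H`
  have hinvP : ∀ W, P W → P (W.map e.toLinearMap) := hP e hQe
  let σ : Equiv.Perm {W : Submodule F V // P W} :=
    { toFun := fun W => ⟨W.1.map e.toLinearMap, hinvP _ W.2⟩
      invFun := fun W => ⟨W.1.map e.symm.toLinearMap, hP e.symm (fun v => by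
        conv_rhs => rw [← e.apply_symm_apply v, hQe]) _ W.2⟩
      left_inv := fun W => Subtype.ext (by
        show (W.1.map e.toLinearMap).map e.symm.toLinearMap = W.1
        rw [← Submodule.map_comp, e.symm_comp, Submodule.map_id])
      right_inv := fun W => Subtype.ext (by
        show (W.1.map e.symm.toLinearMap).map e.toLinearMap = W.1
        rw [← Submodule.map_comp, e.comp_symm, Submodule.map_id]) }
  have hσk : ∀ k W, ((σ ^ k) W).1 = W.1.map (e ^ k).toLinearMap := by
    intro k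
    induction k with
    | zero => intro W; exact (Submodule.map_id _).symm
    | succ k ih =>
      intro W
      rw [pow_succ, Equiv.Perm.mul_apply, ih, pow_succ]
      show (W.1.map e.toLinearMap).map _ = _
      rw [← Submodule.map_comp]
      rfl
  have hσ : σ ^ r = 1 := Equiv.ext fun W => Subtype.ext (by rw [hσk, her]; exact Submodule.map_id _)
  have hmod := card_fixed_modEq σ hσ
  let X := {W : Submodule F V // P W ∧ W ≤ C}
  have hX : Nat.card {W // σ W = W} = Nat.card X := by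
    refine Nat.card_congr
      { toFun := fun W => ⟨W.1.1, W.1.2, ?_⟩
        invFun := fun W => ⟨⟨W.1, W.2.1⟩, Subtype.ext ?_⟩
        left_inv := fun W => rfl
        right_inv := fun W => rfl }
    · have hmapeq : W.1.1.map e.toLinearMap = W.1.1 := congrArg Subtype.val W.2
      have hWi : Inv e W.1.1 := fun w hw => hmapeq.le ⟨w, hw, rfl⟩
      by_cases he1 : e = 1
      · exact fun w _ => mem_fixS.2 (by rw [he1]; rfl)
      · exact hsmall e _ ⟨hQe, her, he1⟩ W.1.2 hWi
    · show W.1.map e.toLinearMap = W.1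
      refine le_antisymm ?_ fun w hw => ⟨w, hw, mem_fixS.1 (W.2.2 hw)⟩
      rintro _ ⟨w, hw, rfl⟩
      show e w ∈ W.1
      rw [mem_fixS.1 (W.2.2 hw)]
      exact hw
  rw [hX] at hmod
  have hXdvd : r ∣ Nat.card X := Nat.modEq_zero_iff_dvd.1 (hmod.symm.trans (Nat.modEq_zero_iff_dvd.2 hdvd))
  let gV : H → (V ≃ₗ[F] V) := fun g => ext g.1 (LinearEquiv.refl F _)
  have hgVQ : ∀ g, ∀ v, Q (gV g v) = Q v := fun g => hextQ _ _ g.2 fun x => rfl
  have hgVC : ∀ (g : H) (c : C), gV g (c : V) = (g.1 c : V) := fun g c => hext1 _ _ c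
  letI : SMul H X := ⟨fun g W => ⟨W.1.map (gV g).toLinearMap, hP _ (hgVQ g) _ W.2.1, by
    rintro _ ⟨w, hw, rfl⟩
    show gV g w ∈ C
    rw [hgVC g ⟨w, W.2.2 hw⟩]
    exact (g.1 _).2⟩⟩
  letI : MulAction H X :=
    { one_smul := fun W => Subtype.ext (by
        show W.1.map (gV 1).toLinearMap = W.1
        have : gV 1 = 1 := LinearEquiv.ext fun v => by
          obtain ⟨x, rfl⟩ := Φ.surjective v
          exact hext _ _ x
        rw [this]
        exact Submodule.map_id _)
      mul_smul := fun g h W => Subtype.ext (by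
        show W.1.map (gV (g * h)).toLinearMap = (W.1.map (gV h).toLinearMap).map (gV g).toLinearMap
        rw [← Submodule.map_comp]
        refine congrArg (fun f : V →ₗ[F] V => W.1.map f) (LinearMap.ext fun v => ?_)
        obtain ⟨x, rfl⟩ := Φ.surjective v
        show gV (g * h) (Φ x) = gV g (gV h (Φ x))
        simp only [gV]
        rw [hext, hext, hext]
        rfl) }
  have htrans : ∀ A B : X, ∃ g : H, g • A = B := by
    intro A B
    obtain ⟨φ, hφ⟩ := hiso A.1 B.1 A.2.1 B.2.1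
    let eA := Submodule.comapSubtypeEquivOfLe A.2.2
    let f : A.1.comap C.subtype →ₗ[F] C :=
      (Submodule.inclusion B.2.2) ∘ₗ φ.toLinearMap ∘ₗ eA.toLinearMap
    obtain ⟨g, hg, hgA⟩ := Forms.witt_quad ((nd_iff Q C).2 hC) f
      ((Submodule.inclusion_injective B.2.2).comp (φ.injective.comp eA.injective))
      (fun a => hφ (eA a))
    refine ⟨⟨g, hg⟩, Subtype.ext ?_⟩
    show A.1.map (gV ⟨g, hg⟩).toLinearMap = B.1
    have hpt : ∀ (a : V) (ha : a ∈ A.1), gV ⟨g, hg⟩ a = (φ ⟨a, ha⟩ : V) := fun a ha => by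
      rw [hgVC ⟨g, hg⟩ ⟨a, A.2.2 ha⟩]
      exact congrArg Subtype.val (hgA ⟨⟨a, A.2.2 ha⟩, ha⟩)
    refine le_antisymm ?_ fun b hb => ?_
    · rintro _ ⟨a, ha, rfl⟩
      show gV _ a ∈ B.1
      rw [hpt a ha]
      exact (φ _).2
    · refine ⟨_, (φ.symm ⟨b, hb⟩).2, ?_⟩
      show gV _ _ = b
      rw [hpt _ (φ.symm ⟨b, hb⟩).2]
      simp
  haveI : MulAction.IsPretransitive H X := ⟨htrans⟩
  have hidx := MulAction.index_stabilizer_of_transitive H (⟨W₁, hW₁, hW₁C⟩ : X)
  exact hH (hXdvd.trans (hidx ▸ Subgroup.index_dvd_card _))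

/-- No element has order `r` in the small cases. -/
theorem not_allFix_ts_of_lt (hQ : (polarBilin Q).Nondegenerate) (h2 : Odd (Module.finrank F V) → (2 : F) ≠ 0)
    (hr0 : (r : F) ≠ 0) {m : ℕ} (hm : m < orderOf (Fintype.card F : ZMod r))
    (hmw : m ≤ wIdx Q) (hdvd : r ∣ Nat.card {W : Submodule F V // TSsub Q m W}) :
    ¬ AllFix Q r (TSsub Q m) := by
  obtain ⟨U, hU0, hUd⟩ := exists_ts_sub hQ h2 hmw
  refine exists_derangement hQ hr0 _ ?_ ?_ ?_ ⟨U, hUd, hU0⟩ hdvd
  · rintro g hg W ⟨hWd, hW0⟩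
    refine ⟨by rw [LinearEquiv.finrank_map_eq, hWd], ?_⟩
    rintro _ ⟨w, hw, rfl⟩
    exact (hg w).trans (hW0 w hw)
  · rintro W W' ⟨hd, h0⟩ ⟨hd', h0'⟩
    exact ⟨LinearEquiv.ofFinrankEq W W' (hd.trans hd'.symm), fun w => by
      rw [h0 (w : V) w.2, h0' _ (LinearEquiv.ofFinrankEq W W' (hd.trans hd'.symm) w).2]⟩
  · rintro e W ⟨-, her, -⟩ ⟨hd, -⟩ hWi
    have hk := orderOf_dvd_finrank her hr0 (hWi.inf inv_movS) (inf_le_right : W ⊓ movS e ≤ _)
    have h := finrank_inv_split her hr0 hWi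
    have h0 : Module.finrank F ↥(W ⊓ movS e) = 0 := Nat.eq_zero_of_dvd_of_lt hk (by omega)
    intro w hw
    have hw' := (inv_split her hr0 hWi).le hw
    rw [Submodule.finrank_eq_zero.1 h0, sup_bot_eq] at hw'
    exact hw'.2

/-- The small non-degenerate cases. -/
theorem not_allFix_nd_of_lt (hr0 : (r : F) ≠ 0) (hr2 : r ≠ 2) (hQ : (polarBilin Q).Nondegenerate)
    (P : Submodule F V → Prop) (hP : ∀ g : V ≃ₗ[F] V, (∀ v, Q (g v) = Q v) → ∀ W, P W → P (W.map g.toLinearMap))
    (hiso : ∀ W W', P W → P W' → ∃ φ : W ≃ₗ[F] W', ∀ w : W, Q (φ w : V) = Q (w : V))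
    (hnd : ∀ W, P W → Nd Q W) {m : ℕ} (hd : ∀ W, P W → Module.finrank F W = m) (hm : m < cdim F r)
    (hne : ∃ W, P W) (hdvd : r ∣ Nat.card {W : Submodule F V // P W}) : ¬ AllFix Q r P := by
  refine exists_derangement hQ hr0 P hP hiso ?_ hne hdvd
  rintro e W ⟨hQe, her, -⟩ hW hWi
  obtain ⟨-, hB⟩ := nd_inf_movS hQe her hr0 hWi (hnd W hW)
  obtain ⟨t, ht, -⟩ := exists_sub hQe her hr0 hr2 (hWi.inf inv_movS) inf_le_right hB
  have h := finrank_inv_split her hr0 hWi
  have h0 : Module.finrank F ↥(W ⊓ movS e) = 0 := by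
    rcases Nat.eq_zero_or_pos t with rfl | ht0
    · omega
    · have h1 : cdim F r * 1 ≤ cdim F r * t := Nat.mul_le_mul_left _ ht0
      have := hd W hW
      omega
  intro w hw
  have hw' := (inv_split her hr0 hWi).le hw
  rw [Submodule.finrank_eq_zero.1 h0, sup_bot_eq] at hw'
  exact hw'.2

end Cfsg.Agent.Lib.OrthPrime
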