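import Mathlib
import Cfsg.Prelude.Def_GeometricClasses
import Cfsg.Agent.Lib.OrthPrime.Fix
import Cfsg.Agent.Lib.OrthPrime.Arith
import Cfsg.Agent.Lib.Forms.Bridge
import Cfsg.Agent.Lib.Forms.Parity
import Cfsg.Agent.Lib.Orth.Omega

/-!
From matrices in `Ω(Q)` to isometries of order `r`, and the predicates of the statements.
-/

set_option autoImplicit false
set_option linter.unusedSectionVars false

namespace Cfsg.Agent.Lib.OrthPrime

open QuadraticMap
open scoped _root_.Classical Matrix MatrixGroups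

universe u

variable {F : Type u} [Field F] [Fintype F] {ι : Type} [Fintype ι] [DecidableEq ι]
variable {Q : QuadraticForm F (ι → F)}

theorem exists_anisotropic (hQ : (polarBilin Q).Nondegenerate) (hn : 0 < Fintype.card ι) : ∃ v, Q v ≠ 0 := by
  by_contra h
  push Not at h
  obtain ⟨i⟩ := Fintype.card_pos_iff.1 hn
  have h1 : (Pi.single i 1 : ι → F) = 0 := hQ.1 _ fun y => by simp [polar, h]
  simpa using congrFun h1 i

theorem index_Omega_dvd_four (hQ : (polarBilin Q).Nondegenerate) (hn : 5 ≤ Fintype.card ι) :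
    (Cfsg.Omega F ⇑Q).index ∣ 4 := by
  by_cases h2 : (2 : F) = 0
  · haveI : CharP F 2 := CharTwo.of_one_ne_zero_of_two_eq_zero one_ne_zero h2
    rw [Forms.index_Omega_char_two hQ (Or.inr (by omega)) (by omega)]
    decide
  · rw [Orth.index_omega h2 hQ (by omega)]

theorem mem_omega_of_pow_eq_one (hQ : (polarBilin Q).Nondegenerate) (hn : 5 ≤ Fintype.card ι) {r : ℕ}
    (hr : Odd r) {g : ↥(Cfsg.isometryGroup F ⇑Q)} (hg : g ^ r = 1) : g ∈ Cfsg.Omega F ⇑Q := by
  haveI : (Cfsg.Omega F ⇑Q).Normal := by unfold Cfsg.Omega; infer_instance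
  have h4 : g ^ 4 ∈ Cfsg.Omega F ⇑Q := by
    obtain ⟨k, hk⟩ := index_Omega_dvd_four hQ hn
    rw [hk, pow_mul]
    exact Subgroup.pow_mem _ (Subgroup.pow_index_mem _ g) k
  obtain ⟨a, rfl⟩ := hr
  rcases Nat.even_or_odd a with ⟨b, rfl⟩ | ⟨b, rfl⟩
  · have : g = (g ^ (2 * (b + b) + 1)) * (g ^ 4) ^ (-(b : ℤ)) := by
      rw [zpow_neg, zpow_natCast, ← pow_mul, show 2 * (b + b) + 1 = 4 * b + 1 by omega, pow_succ', mul_inv_cancel_right]
    rw [this, hg, one_mul]
    exact Subgroup.zpow_mem _ h4 _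
  · have : g = (g ^ (2 * (2 * b + 1) + 1))⁻¹ * (g ^ 4) ^ (b + 1) := by
      rw [← pow_mul, show 4 * (b + 1) = (2 * (2 * b + 1) + 1) + 1 by omega, pow_succ g (2 * (2 * b + 1) + 1),
        inv_mul_cancel_left]
    rw [this, hg, inv_one, one_mul]
    exact Subgroup.pow_mem _ h4 _

theorem map_le_iff_inv (x : GL ι F) (W : Submodule F (ι → F)) :
    W.map (Matrix.toLin' (x : Matrix ι ι F)) ≤ W ↔ Inv (Forms.glEquiv ι F x) W := by
  constructor
  · intro h w hw
    exact h ⟨w, hw, by simp⟩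
  · rintro h _ ⟨w, hw, rfl⟩
    simpa using h w hw

theorem eq_smul_one_iff (x : GL ι F) (z : F) :
    (x : Matrix ι ι F) = z • 1 ↔ ∀ v, Forms.glEquiv ι F x v = z • v := by
  constructor
  · intro h v
    rw [Forms.glEquiv_apply, h, Matrix.smul_mulVec, Matrix.one_mulVec]
  · intro h
    apply Matrix.toLin'.injective
    refine LinearMap.ext fun v => ?_
    simpa [Matrix.smul_mulVec] using h v

/-- An element of `Ω` from an isometry of odd order. -/
theorem exists_gl (hQ : (polarBilin Q).Nondegenerate) (hn : 5 ≤ Fintype.card ι) {r : ℕ} [Fact r.Prime] (hr2 : r ≠ 2)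
    {e : (ι → F) ≃ₗ[F] (ι → F)} (he : GoodE Q r e) :
    ∃ x : GL ι F, x ∈ Cfsg.Geo.omegaGL ⇑Q ∧ Forms.glEquiv ι F x = e ∧ orderOf x = r ∧
      (x : GL ι F) ^ r = 1 ∧ ∀ z : F, (x : Matrix ι ι F) ≠ z • 1 := by
  obtain ⟨hQe, her, hne⟩ := he
  have hodd := (Fact.out : r.Prime).odd_of_ne_two hr2
  let g := Forms.isoMk (Q := ⇑Q) e hQe
  have hge : Forms.glEquiv ι F (g : GL ι F) = e := (Forms.glEquiv ι F).apply_symm_apply e
  have hxr : (g : GL ι F) ^ r = 1 := (Forms.glEquiv ι F).injective (by rw [map_pow, hge, her, map_one])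
  have hgΩ : g ∈ Cfsg.Omega F ⇑Q := mem_omega_of_pow_eq_one hQ hn hodd (Subtype.ext (by simpa using hxr))
  refine ⟨(g : GL ι F), ⟨g, hgΩ, rfl⟩, hge, orderOf_eq_prime hxr (fun h => hne ?_), hxr, fun z hz => hne ?_⟩
  · rw [← hge, h, map_one]
  · rw [eq_smul_one_iff, hge] at hz
    obtain ⟨v, hv⟩ := exists_anisotropic hQ (by omega)
    have hz2 : z * z = 1 := by
      have := hQe v
      rw [hz, QuadraticMap.map_smul, smul_eq_mul] at this
      exact mul_eq_right₀ hv |>.1 this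
    have hv0 : v ≠ 0 := fun h => hv (by rw [h, map_zero])
    have hk : ∀ k : ℕ, (e ^ k) v = z ^ k • v := by
      intro k
      induction k with
      | zero => simp
      | succ k ih => rw [pow_succ', LinearEquiv.mul_apply, ih, map_smul, hz, smul_smul, pow_succ]
    have hzr : z ^ r = 1 := by
      have := hk r
      rw [her] at this
      exact smul_left_injective F hv0 (by simpa using this.symm)
    have hz1 : z = 1 := by
      obtain ⟨a, rfl⟩ := hodd
      rwa [pow_succ, pow_mul, _root_.sq, hz2, one_pow, one_mul] at hzr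
    exact LinearEquiv.ext fun w => by rw [hz, hz1, one_smul]; rfl

theorem isometry_of_mem {x : GL ι F} (hx : x ∈ Cfsg.Geo.omegaGL ⇑Q) (v : ι → F) : Q (Forms.glEquiv ι F x v) = Q v := by
  obtain ⟨g, -, rfl⟩ := hx
  exact Forms.isometryGroup_apply g v

/-- Elements of `Ω` of order `r`. -/
theorem gl_iff_orderOf (hQ : (polarBilin Q).Nondegenerate) (hn : 5 ≤ Fintype.card ι) {r : ℕ} [Fact r.Prime]
    (hr2 : r ≠ 2) (P : Submodule F (ι → F) → Prop) :
    (∀ x : GL ι F, x ∈ Cfsg.Geo.omegaGL ⇑Q → orderOf x = r →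
      ∃ W, P W ∧ W.map (Matrix.toLin' (x : Matrix ι ι F)) ≤ W) ↔ AllFix Q r P := by
  constructor
  · intro h e he
    obtain ⟨x, hx, hxe, hxo, -, -⟩ := exists_gl hQ hn hr2 he
    obtain ⟨W, hW, hWi⟩ := h x hx hxo
    exact ⟨W, hW, hxe ▸ (map_le_iff_inv x W).1 hWi⟩
  · intro h x hx hxo
    obtain ⟨W, hW, hWi⟩ := h (Forms.glEquiv ι F x) ⟨isometry_of_mem hx,
      by rw [← map_pow, ← hxo, pow_orderOf_eq_one, map_one],
      fun h1 => by
        rw [(Forms.glEquiv ι F).map_eq_one_iff.1 h1, orderOf_one] at hxo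
        exact (Fact.out : r.Prime).one_lt.ne hxo⟩
    exact ⟨W, hW, (map_le_iff_inv x W).2 hWi⟩

/-- Elements of `Ω` of order `r` modulo scalars. -/
theorem gl_iff (hQ : (polarBilin Q).Nondegenerate) (hn : 5 ≤ Fintype.card ι) {r : ℕ} [Fact r.Prime]
    (hr2 : r ≠ 2) (P : Submodule F (ι → F) → Prop) :
    (∀ x : GL ι F, x ∈ Cfsg.Geo.omegaGL ⇑Q →
      (∃ z : F, ((x ^ r : GL ι F) : Matrix ι ι F) = z • (1 : Matrix ι ι F)) →
      (∀ z : F, (x : Matrix ι ι F) ≠ z • (1 : Matrix ι ι F)) →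
      ∃ W, P W ∧ W.map (Matrix.toLin' (x : Matrix ι ι F)) ≤ W) ↔ AllFix Q r P := by
  have hodd := (Fact.out : r.Prime).odd_of_ne_two hr2
  constructor
  · intro h e he
    obtain ⟨x, hx, hxe, -, hxr, hxz⟩ := exists_gl hQ hn hr2 he
    obtain ⟨W, hW, hWi⟩ := h x hx ⟨1, by rw [hxr, one_smul]; rfl⟩ hxz
    exact ⟨W, hW, hxe ▸ (map_le_iff_inv x W).1 hWi⟩
  · rintro h x hx ⟨z, hz⟩ hxz
    have hiso := isometry_of_mem hx
    rw [eq_smul_one_iff, map_pow] at hz
    set f := Forms.glEquiv ι F x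
    have hpow : ∀ k : ℕ, ∀ v, Q ((f ^ k) v) = Q v := by
      intro k
      induction k with
      | zero => intro v; rfl
      | succ k ih => intro v; rw [pow_succ, LinearEquiv.mul_apply, ih, hiso]
    obtain ⟨v, hv⟩ := exists_anisotropic hQ (by omega)
    have hz2 : z * z = 1 := by
      have := hpow r v
      rw [hz, QuadraticMap.map_smul, smul_eq_mul] at this
      exact mul_eq_right₀ hv |>.1 this
    let e : (ι → F) ≃ₗ[F] (ι → F) := f.trans (LinearEquiv.smulOfUnit (Units.mkOfMulEqOne z z hz2))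
    have hev : ∀ v, e v = z • f v := fun v => rfl
    have hek : ∀ k : ℕ, ∀ v, (e ^ k) v = z ^ k • (f ^ k) v := by
      intro k
      induction k with
      | zero => intro v; simp
      | succ k ih =>
        intro v
        rw [pow_succ, LinearEquiv.mul_apply, hev, map_smul, ih, smul_smul, pow_succ' z, pow_succ f,
          LinearEquiv.mul_apply]
    obtain ⟨W, hW, hWi⟩ := h e ⟨fun v => by rw [hev, QuadraticMap.map_smul, hz2, one_smul, hiso],
      LinearEquiv.ext fun v => by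
        rw [hek, hz, smul_smul, ← pow_succ]
        obtain ⟨a, rfl⟩ := hodd
        rw [show 2 * a + 1 + 1 = 2 * (a + 1) by ring, pow_mul, _root_.sq, hz2, one_pow, one_smul]
        rfl,
      fun h1 => hxz z ((eq_smul_one_iff x z).2 fun v => by
        have := LinearEquiv.congr_fun h1 v
        rw [hev] at this
        show f v = _
        rw [← one_smul F (f v), ← hz2, mul_smul, this]
        rfl)⟩
    refine ⟨W, hW, (map_le_iff_inv x W).2 fun w hw => ?_⟩
    have := W.smul_mem z (hWi w hw)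
    rwa [hev, smul_smul, hz2, one_smul] at this

theorem nondegenerateOn_iff (W : Submodule F (ι → F)) :
    Cfsg.Geo.IsNondegenerateOn (QuadraticMap.polar ⇑Q) W ↔ Nd Q W := by
  constructor
  · intro h w hw hx
    by_contra h0
    obtain ⟨-, x, hxW, hne⟩ := h w hw h0
    exact hne (hx x hxW)
  · intro h w hw h0
    obtain ⟨x, hxW, hne⟩ : ∃ x ∈ W, polar ⇑Q w x ≠ 0 := by
      by_contra hc
      push Not at hc
      exact h0 (h w hw hc)
    exact ⟨⟨x, hxW, by rwa [polar_comm]⟩, x, hxW, hne⟩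

theorem plusTypeOn_iff (W : Submodule F (ι → F)) : Cfsg.Geo.IsPlusTypeOn ⇑Q W ↔ qsgn (rQ Q W) = 1 := by
  rw [qsgn_eq_one_iff, isHyp_rQ_iff]
  rfl

theorem not_plusTypeOn_iff (W : Submodule F (ι → F)) : ¬ Cfsg.Geo.IsPlusTypeOn ⇑Q W ↔ qsgn (rQ Q W) = -1 := by
  rw [plusTypeOn_iff]
  rcases qsgn_cases (rQ Q W) with h | h <;> rw [h] <;> decide

theorem isometricFor_iff (W W₀ : Submodule F (ι → F)) :
    Cfsg.Geo.AreIsometricFor ⇑Q W W₀ ↔ ∃ φ : W ≃ₗ[F] W₀, ∀ w, rQ Q W₀ (φ w) = rQ Q W w := Iff.rfl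

end Cfsg.Agent.Lib.OrthPrime
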