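import Mathlib
import Cfsg.Agent.Lib.OrthPrime.Wrap
import Cfsg.Agent.Lib.OrthPrime.ArithForms
import Cfsg.Agent.Lib.OrthPrime.ArithND

/-!
The criteria in numerical form, with the small cases excluded by the divisibility hypothesis.
-/

set_option autoImplicit false
set_option linter.unusedSectionVars false

namespace Cfsg.Agent.Lib.OrthPrime

open QuadraticMap
open scoped _root_.Classical

universe u

theorem cast_ne_zero_of_ne {F : Type u} [Field F] {p r : ℕ} [Fact p.Prime] [Fact r.Prime] [CharP F p] (h : r ≠ p) :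
    (r : F) ≠ 0 := fun h0 =>
  h ((Nat.prime_dvd_prime_iff_eq Fact.out Fact.out).1 ((CharP.cast_eq_zero_iff F p r).1 h0)).symm

variable {F : Type u} [Field F] [Fintype F] {V : Type u} [AddCommGroup V] [Module F V] [FiniteDimensional F V]
variable {Q : QuadraticForm F V} {r : ℕ} [Fact r.Prime]

theorem ts_criterion (hQ : (polarBilin Q).Nondegenerate) (h2 : Odd (Module.finrank F V) → (2 : F) ≠ 0)
    (hr0 : (r : F) ≠ 0) (hr2 : r ≠ 2) {n m i : ℕ} {ε : ℤ} (hn : Module.finrank F V = n) (hε : qsgn Q = ε)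
    (hi : orderOf (Fintype.card F : ZMod r) = i) (hmw : m ≤ wIdx Q)
    (hdvd : r ∣ Nat.card {W : Submodule F V // TSsub Q m W}) :
    AllFix Q r (TSsub Q m) ↔ i ≤ m ∧ Arith.CritTS n m i r ε := by
  have h := allFix_ts_iff hQ h2 hr0 hr2 m
  subst hn hε hi
  constructor
  · intro ha
    refine ⟨?_, h.1 ha⟩
    by_contra hlt
    exact not_allFix_ts_of_lt hQ h2 hr0 (by omega) hmw hdvd ha
  · exact fun hc => h.2 hc.2

theorem nd_criterion (hQ : (polarBilin Q).Nondegenerate) (h2 : Odd (Module.finrank F V) → (2 : F) ≠ 0)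
    (hr0 : (r : F) ≠ 0) (hr2 : r ≠ 2) {n m i : ℕ} {ε s : ℤ} (hn : Module.finrank F V = n) (hε : qsgn Q = ε)
    (hi : orderOf (Fintype.card F : ZMod r) = i) (hme : Even m) (hm : 2 ≤ m) (hmn : m < n) (hs : s = 1 ∨ s = -1)
    (hdvd : r ∣ Nat.card {W : Submodule F V // NDsub Q m s W}) :
    (AllFix Q r (NDsub Q m s) → Arith.cD i ≤ m ∧ Arith.CritND n m i ε s) ∧
      (Arith.CritND n m i ε s → AllFix Q r (NDsub Q m s)) := by
  have h := allFix_nd_iff hQ h2 hr0 hr2 (m := m) hme hs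
  subst hn hε hi
  refine ⟨fun ha => ⟨?_, h.1 ha⟩, h.2⟩
  by_contra hlt
  have hlt' : m < cdim F r := by show m < Arith.cD _; omega
  obtain ⟨l, hl⟩ := hme
  refine not_allFix_nd_of_lt hr0 hr2 hQ _ ?_ ?_ (fun W hW => hW.2.1) (fun W hW => hW.1) hlt' ?_ hdvd ha
  · rintro g hg W ⟨hWd, hWn, hWs⟩
    have hf : ∀ w : W, Q ((g.toLinearMap ∘ₗ W.subtype) w) = rQ Q W w := fun w => hg w
    refine ⟨by rw [LinearEquiv.finrank_map_eq, hWd], ?_, ?_⟩
    · have := nd_map Q (rQ Q W) _ hf ((nd_iff Q W).2 hWn)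
      rwa [LinearMap.range_comp, Submodule.range_subtype] at this
    · rw [← hWs]
      exact qsgn_congr (R := rQ Q W) (T := rQ Q (W.map g.toLinearMap))
        (Submodule.equivMapOfInjective g.toLinearMap g.injective W) fun w => hg w
  · rintro W W' ⟨hWd, hWn, hWs⟩ ⟨hWd', hWn', hWs'⟩
    obtain ⟨φ, hφ⟩ := FormConj.exists_isometry_of_type (m := l) (by omega) (by rw [hWd]; omega) (by rw [hWd']; omega)
      ((nd_iff Q W).2 hWn) ((nd_iff Q W').2 hWn') (by rw [← qsgn_eq_one_iff, ← qsgn_eq_one_iff, hWs, hWs'])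
    exact ⟨φ, fun w => hφ w⟩
  · obtain ⟨W, hWn, hWd, hWs⟩ := exists_nd_sub hQ h2 (l := l) hs (by omega) (Or.inl (by omega))
    exact ⟨W, by omega, hWn, hWs⟩

theorem odd_criterion (hQ : (polarBilin Q).Nondegenerate) (h2 : (2 : F) ≠ 0) (hev : Even (Module.finrank F V))
    (hr0 : (r : F) ≠ 0) (hr2 : r ≠ 2) {n m i : ℕ} {ε : ℤ} (hn : Module.finrank F V = n) (hε : qsgn Q = ε)
    (hi : orderOf (Fintype.card F : ZMod r) = i) {W₀ : Submodule F V} (hW₀ : Nd Q W₀)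
    (hW₀d : Module.finrank F W₀ = m) (hm : Odd m)
    (hdvd : r ∣ Nat.card {W : Submodule F V //
      Module.finrank F W = m ∧ Nd Q W ∧ ∃ φ : W ≃ₗ[F] W₀, ∀ w, rQ Q W₀ (φ w) = rQ Q W w}) :
    (AllFix Q r (fun W => Module.finrank F W = m ∧ Nd Q W ∧ ∃ φ : W ≃ₗ[F] W₀, ∀ w, rQ Q W₀ (φ w) = rQ Q W w) →
        Arith.cD i ≤ m ∧ Arith.CritOdd n m i ε) ∧
      (Arith.CritOdd n m i ε →
        AllFix Q r (fun W => Module.finrank F W = m ∧ Nd Q W ∧ ∃ φ : W ≃ₗ[F] W₀, ∀ w, rQ Q W₀ (φ w) = rQ Q W w)) := by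
  have h := allFix_odd_iff hQ h2 hev hr0 hr2 hW₀ hW₀d hm
  subst hn hε hi
  refine ⟨fun ha => ⟨?_, h.1 ha⟩, h.2⟩
  by_contra hlt
  have hlt' : m < cdim F r := by show m < Arith.cD _; omega
  refine not_allFix_nd_of_lt hr0 hr2 hQ _ ?_ ?_ (fun W hW => hW.2.1) (fun W hW => hW.1) hlt'
    ⟨W₀, hW₀d, hW₀, LinearEquiv.refl F _, fun w => rfl⟩ hdvd ha
  · rintro g hg W ⟨hWd, hWn, φ, hφ⟩
    have hf : ∀ w : W, Q ((g.toLinearMap ∘ₗ W.subtype) w) = rQ Q W w := fun w => hg w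
    refine ⟨by rw [LinearEquiv.finrank_map_eq, hWd], ?_, ?_⟩
    · have := nd_map Q (rQ Q W) _ hf ((nd_iff Q W).2 hWn)
      rwa [LinearMap.range_comp, Submodule.range_subtype] at this
    · refine ⟨(Submodule.equivMapOfInjective g.toLinearMap g.injective W).symm.trans φ, fun w => ?_⟩
      obtain ⟨w, rfl⟩ := (Submodule.equivMapOfInjective g.toLinearMap g.injective W).surjective w
      rw [LinearEquiv.trans_apply, LinearEquiv.symm_apply_apply, hφ]
      exact (hg w).symm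
  · rintro W W' ⟨-, -, φ, hφ⟩ ⟨-, -, φ', hφ'⟩
    refine ⟨φ.trans φ'.symm, fun w => ?_⟩
    have h1 := hφ' (φ.trans φ'.symm w)
    rw [LinearEquiv.trans_apply, LinearEquiv.apply_symm_apply, hφ] at h1
    exact h1.symm

variable {k : ℕ}

theorem finrank_fun_eq {ι : Type} [Fintype ι] : Module.finrank F (ι → F) = Fintype.card ι :=
  Module.finrank_fintype_fun_eq_card F

theorem qsgn_oddQ (d : ℕ) : qsgn (StdForms.oddQ F d) = -1 := by
  refine if_neg fun ⟨U, hU, _⟩ => ?_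
  simp [finrank_fun_eq] at hU
  omega

theorem qsgn_plusQ (d : ℕ) : qsgn (StdForms.plusQ F d) = 1 := if_pos (FormConj.isHyp_plusQ d)

theorem qsgn_minusQ {a b : F} (hab : ∀ x y : F, x ^ 2 + a * x * y + b * y ^ 2 = 0 → x = 0 ∧ y = 0) (d : ℕ) :
    qsgn (StdForms.minusQ F d a b) = -1 := if_neg (FormConj.not_isHyp_minusQ d hab)

end Cfsg.Agent.Lib.OrthPrime
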