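import Mathlib
import Cfsg.Agent.Lib.OrthPrime.Fix

/-!
An involutive isometry of an odd-dimensional space, `q` odd, fixes non-degenerate subspaces of every
even dimension and either sign.
-/

set_option autoImplicit false
set_option linter.unusedSectionVars false

namespace Cfsg.Agent.Lib.OrthPrime

open QuadraticMap
open scoped _root_.Classical

universe u

variable {F : Type u} [Field F] [Fintype F] {V : Type u} [AddCommGroup V] [Module F V] [FiniteDimensional F V]
variable {Q : QuadraticForm F V}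

/-- An orthogonal sum of two even-dimensional subspaces. -/
theorem nd_sup_sign {A B : Submodule F V} (hA : Nd Q A) (hB : Nd Q B) (hperp : B ≤ qperp Q A) {k l : ℕ}
    (hk : Module.finrank F A = 2 * k) (hl : Module.finrank F B = 2 * l) :
    Nd Q (A ⊔ B) ∧ Module.finrank F ↥(A ⊔ B) = 2 * (k + l) ∧
      qsgn (rQ Q (A ⊔ B)) = qsgn (rQ Q A) * qsgn (rQ Q B) := by
  obtain ⟨hn, hinf⟩ := nd_sup hA hB hperp
  have hd : Module.finrank F ↥(A ⊔ B) = 2 * (k + l) := by rw [finrank_sup_of_disjoint hinf, hk, hl]; ring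
  refine ⟨hn, hd, ?_⟩
  obtain ⟨hA', hA's⟩ := rQ_comap (Q := Q) (A ⊔ B) le_sup_left hA
  obtain ⟨hB', hB's⟩ := rQ_comap (Q := Q) (A ⊔ B) le_sup_right hB
  have hfA := (Submodule.comapSubtypeEquivOfLe (le_sup_left : A ≤ A ⊔ B)).finrank_eq
  have hfB := (Submodule.comapSubtypeEquivOfLe (le_sup_right : B ≤ A ⊔ B)).finrank_eq
  have hq := finrank_qperp (rQ Q (A ⊔ B)) hA'
  have hpe : qperp (rQ Q (A ⊔ B)) (A.comap (A ⊔ B).subtype) = B.comap (A ⊔ B).subtype := by
    refine (Submodule.eq_of_le_of_finrank_eq (fun x hx => (mem_qperp _).2 fun y hy => ?_) ?_).symm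
    · rw [polar_rQ]; exact (mem_qperp Q).1 (hperp hx) y hy
    · omega
  rw [qsgn_split (rQ Q (A ⊔ B)) ((nd_iff Q _).2 hn) hA' (k := k) (l := l) (by rw [hfA, hk])
    (by rw [hpe, hfB, hl]), hpe, hA's, hB's]

/-- A subspace of a subspace, of prescribed even dimension and sign. -/
theorem exists_nd_sub_le {C : Submodule F V} (hC : Nd Q C) (h2 : (2 : F) ≠ 0) {l : ℕ} {s : ℤ}
    (hs : s = 1 ∨ s = -1) (h0 : l = 0 → s = 1)
    (hl : 2 * l < Module.finrank F C ∨ (2 * l = Module.finrank F C ∧ qsgn (rQ Q C) = s)) :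
    ∃ A : Submodule F V, A ≤ C ∧ Nd Q A ∧ Module.finrank F A = 2 * l ∧ qsgn (rQ Q A) = s := by
  obtain ⟨A, hAn, hAd, hAs⟩ := exists_nd_sub ((nd_iff Q C).2 hC) (fun _ => h2) hs h0 hl
  obtain ⟨hA', hA's⟩ := rQ_map C hAn
  exact ⟨A.map C.subtype, Submodule.map_subtype_le _ _, hA', by rw [finrank_map_eq' _ C.injective_subtype, hAd],
    hA's.trans hAs⟩

/-- A plane takes every non-zero value. -/
theorem exists_value {C : Submodule F V} (hC : Nd Q C) (h2 : (2 : F) ≠ 0) (hd : 2 ≤ Module.finrank F C) {γ : F}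
    (hγ : γ ≠ 0) : ∃ v ∈ C, Q v = γ := by
  obtain ⟨A, hAC, hAn, hAd, -⟩ : ∃ A : Submodule F V, A ≤ C ∧ Nd Q A ∧ Module.finrank F A = 2 * 1 ∧ True := by
    rcases eq_or_lt_of_le hd with h | h
    · exact ⟨C, le_rfl, hC, by omega, trivial⟩
    · obtain ⟨A, h1, h3, h4, -⟩ := exists_nd_sub_le hC h2 (l := 1) (s := 1) (Or.inl rfl) (by simp) (Or.inl (by omega))
      exact ⟨A, h1, h3, h4, trivial⟩
  have hN := card_value_one (R := rQ Q A) hAd ((nd_iff Q A).2 hAn)
  have heq := card_value_eq (R := rQ Q A) hAd ((nd_iff Q A).2 hAn) hγ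
  have hpos : 0 < Nat.card {v : A // rQ Q A v = γ} := by
    rw [heq]
    rcases Nat.eq_zero_or_pos (Nat.card {v : A // rQ Q A v = 1}) with h | h
    · exfalso
      rw [h] at hN
      have hq : (1 : ℤ) < Nat.card F := by exact_mod_cast Finite.one_lt_card
      rcases qsgn_cases (rQ Q A) with hs | hs <;> rw [hs] at hN <;> push_cast at hN <;> nlinarith
    · exact h
  obtain ⟨⟨v, hv⟩⟩ := (Nat.card_pos_iff.1 hpos).1
  exact ⟨v, hAC v.2, hv⟩

/-- The combinatorial core. -/
theorem exists_inv_nd_of_split (hQ : (polarBilin Q).Nondegenerate) (h2 : (2 : F) ≠ 0) {e : V ≃ₗ[F] V}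
    (hQe : ∀ v, Q (e v) = Q v) {O : Submodule F V} (hO : Nd Q O) (hinvO : ∀ U ≤ O, Inv e U)
    (hinvE : ∀ U ≤ qperp Q O, Inv e U) {a d l : ℕ} (hOd : Module.finrank F O = 2 * a + 1)
    (hn : Module.finrank F V = 2 * d + 1) (hl : 1 ≤ l) (hld : l ≤ d) {s : ℤ} (hs : s = 1 ∨ s = -1) :
    ∃ W, NDsub Q (2 * l) s W ∧ Inv e W := by
  have hEd := finrank_qperp Q hO
  have hE := nd_qperp Q hQ hO
  rcases le_or_gt l a with hla | hla
  · obtain ⟨A, hAO, hAn, hAd, hAs⟩ := exists_nd_sub_le hO h2 hs (l := l) (by omega) (Or.inl (by omega))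
    exact ⟨A, ⟨hAd, hAn, hAs⟩, hinvO A hAO⟩
  rcases lt_or_eq_of_le hld with hld' | rfl
  · obtain ⟨A, hAO, hAn, hAd, hAs⟩ :=
      exists_nd_sub_le hO h2 (Or.inl rfl) (l := a) (s := 1) (fun _ => rfl) (Or.inl (by omega))
    obtain ⟨B, hBE, hBn, hBd, hBs⟩ := exists_nd_sub_le hE h2 hs (l := l - a) (by omega) (Or.inl (by omega))
    obtain ⟨hn', hd', hs'⟩ := nd_sup_sign hAn hBn
      (fun b hb => (mem_qperp Q).2 fun x hx => (mem_qperp Q).1 (hBE hb) x (hAO hx)) hAd hBd
    exact ⟨A ⊔ B, ⟨by rw [hd']; omega, hn', by rw [hs', hAs, hBs, one_mul]⟩, (hinvO A hAO).sup (hinvE B hBE)⟩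
  rcases Nat.eq_zero_or_pos a with rfl | ha
  · obtain ⟨W₁, hW₁n, hW₁d, hW₁s⟩ := exists_nd_sub hQ (fun _ => h2) (l := l) hs (by omega) (Or.inl (by omega))
    have hLn := nd_qperp Q hQ hW₁n
    have hLd := finrank_qperp Q hW₁n
    have hLW : qperp Q (qperp Q W₁) = W₁ :=
      (Submodule.eq_of_le_of_finrank_eq (le_qperp_qperp Q W₁) (by
        have := finrank_qperp Q hLn
        omega)).symm
    obtain ⟨w, hw0⟩ := (finrank_eq_one_iff' (V := qperp Q W₁) (K := F)).1 (by omega)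
    have hγ : Q (w : V) ≠ 0 := fun h => hw0.1 (Subtype.ext (hLn w w.2 fun x hx => by
      obtain ⟨c, hc⟩ := hw0.2 ⟨x, hx⟩
      rw [show x = c • (w : V) from (congrArg Subtype.val hc).symm, polar_smul_right, polar_self, h, smul_zero,
        smul_zero]))
    obtain ⟨v, hvE, hv⟩ := exists_value hE h2 (by omega) hγ
    have hv0 : v ≠ 0 := fun h => hγ (by rw [← hv, h, map_zero])
    have hex : ∀ x : qperp Q W₁, ∃ c : F, c • w = x := hw0.2
    let coef : qperp Q W₁ →ₗ[F] F :=
      (LinearEquiv.ofBijective (LinearMap.toSpanSingleton F (qperp Q W₁) w)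
        ⟨smul_left_injective F hw0.1, hex⟩).symm.toLinearMap
    have hcoef : ∀ x, coef x • w = x := fun x =>
      (LinearEquiv.ofBijective (LinearMap.toSpanSingleton F (qperp Q W₁) w)
        ⟨smul_left_injective F hw0.1, hex⟩).apply_symm_apply x
    let f : qperp Q W₁ →ₗ[F] V := LinearMap.toSpanSingleton F V v ∘ₗ coef
    obtain ⟨g, hg, hgf⟩ := Forms.witt_quad hQ f
      (fun x y hxy => by
        have h1 : coef x • v = coef y • v := hxy
        rw [← hcoef x, ← hcoef y, smul_left_injective F hv0 h1]) (fun x => by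
        conv_rhs => rw [← hcoef x]
        show Q (coef x • v) = _
        rw [Submodule.coe_smul, QuadraticMap.map_smul, QuadraticMap.map_smul, hv])
    have hgw : g (w : V) = v := by
      rw [hgf w]
      have h1 := hcoef w
      show coef w • v = v
      rw [smul_left_injective F hw0.1 (h1.trans (one_smul F w).symm), one_smul]
    refine ⟨W₁.map g.toLinearMap, ⟨by rw [LinearEquiv.finrank_map_eq, hW₁d], ?_, ?_⟩, ?_⟩
    · have := nd_map Q (rQ Q W₁) (g.toLinearMap ∘ₗ W₁.subtype) (fun x => hg x) ((nd_iff Q W₁).2 hW₁n)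
      rwa [LinearMap.range_comp, Submodule.range_subtype] at this
    · rw [← hW₁s]
      exact qsgn_congr (R := rQ Q W₁) (T := rQ Q (W₁.map g.toLinearMap))
        (Submodule.equivMapOfInjective g.toLinearMap g.injective W₁) fun x => hg x
    · rintro _ ⟨x, hx, rfl⟩
      refine ⟨g.symm (e (g x)), ?_, g.apply_symm_apply _⟩
      rw [← hLW, SetLike.mem_coe, mem_qperp]
      intro y hy
      obtain ⟨c, hc⟩ := hex ⟨y, hy⟩
      rw [show y = c • (w : V) from (congrArg Subtype.val hc).symm, polar_smul_left]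
      have h1 : polar ⇑Q v (g x) = 0 := by
        rw [← hgw, polar_e hg, polar_comm]
        exact (mem_qperp Q).1 w.2 x hx
      have h3 : polar ⇑Q (w : V) (g.symm (e (g x))) = polar ⇑Q v (e (g x)) := by
        rw [← polar_e hg, hgw, g.apply_symm_apply]
      obtain ⟨k, hk⟩ : ∃ k : F, k • v = e v := Submodule.mem_span_singleton.1
        (hinvE _ ((Submodule.span_singleton_le_iff_mem v _).2 hvE) v (Submodule.mem_span_singleton_self v))
      have hk0 : k ≠ 0 := fun h => hv0 (e.injective (by rw [← hk, h, zero_smul, map_zero]))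
      have h4 : k • polar ⇑Q v (e (g x)) = 0 := by rw [← polar_smul_left, hk, polar_e hQe, h1]
      rw [h3, (smul_eq_zero.1 h4).resolve_left hk0, smul_zero]
  · have hsE := qsgn_cases (rQ Q (qperp Q O))
    obtain ⟨A, hAO, hAn, hAd, hAs⟩ := exists_nd_sub_le hO h2 (l := a) (s := s * qsgn (rQ Q (qperp Q O)))
      (by rcases hs with h | h <;> rcases hsE with h' | h' <;> rw [h, h'] <;> simp) (by omega) (Or.inl (by omega))
    obtain ⟨hn', hd', hs'⟩ := nd_sup_sign hAn hE
      (fun b hb => (mem_qperp Q).2 fun x hx => (mem_qperp Q).1 hb x (hAO hx)) hAd (l := l - a) (by omega)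
    refine ⟨A ⊔ qperp Q O, ⟨by rw [hd']; omega, hn', ?_⟩, (hinvO A hAO).sup (hinvE _ le_rfl)⟩
    rw [hs', hAs, mul_assoc]
    rcases hsE with h' | h' <;> rw [h'] <;> ring

/-- An involutive isometry of an odd-dimensional space fixes non-degenerate spaces of both signs. -/
theorem involution_fixes_nd (hQ : (polarBilin Q).Nondegenerate) (h2 : (2 : F) ≠ 0) {e : V ≃ₗ[F] V}
    (hQe : ∀ v, Q (e v) = Q v) (he : e ^ 2 = 1) {d l : ℕ} (hn : Module.finrank F V = 2 * d + 1) (hl : 1 ≤ l)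
    (hld : l ≤ d) {s : ℤ} (hs : s = 1 ∨ s = -1) : ∃ W, NDsub Q (2 * l) s W ∧ Inv e W := by
  have hr0 : ((2 : ℕ) : F) ≠ 0 := by simpa using h2
  obtain ⟨hC, hD, hperp⟩ := qperp_fixS hQe he hr0 hQ
  have hsum := Submodule.finrank_add_eq_of_isCompl (isCompl_fixS_movS he hr0)
  have hneg : ∀ U ≤ movS e, Inv e U := fun U hU w hw => by
    have h : e w = -w := by
      obtain ⟨v, rfl⟩ := hU hw
      have h1 : e (e v) = v := by simpa [pow_two] using LinearEquiv.congr_fun he v
      show e (e v - v) = -(e v - v)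
      rw [map_sub, h1, neg_sub]
    rw [h]
    exact neg_mem hw
  rcases Nat.even_or_odd (Module.finrank F (fixS e)) with ⟨b, hb⟩ | ⟨a, ha⟩
  · have hCD : qperp Q (movS e) = fixS e := by
      rw [← hperp]
      exact (Submodule.eq_of_le_of_finrank_eq (le_qperp_qperp Q _) (by
        have := finrank_qperp Q (nd_qperp Q hQ hC)
        rw [hperp] at this ⊢
        omega)).symm
    exact exists_inv_nd_of_split hQ h2 hQe hD hneg (fun U hU => inv_of_le_fixS (hCD ▸ hU)) (a := d - b)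
      (by omega) hn hl hld hs
  · exact exists_inv_nd_of_split hQ h2 hQe hC (fun U hU => inv_of_le_fixS hU) (fun U hU => hneg U (hperp ▸ hU))
      ha hn hl hld hs

end Cfsg.Agent.Lib.OrthPrime
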