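import Mathlib
import Cfsg.Agent.Lib.OrthPrime.InvolOdd

/-!
What an involutive isometry fixes in even dimension, `q` odd, and totally singular spaces in any dimension.
-/

set_option autoImplicit false
set_option linter.unusedSectionVars false

namespace Cfsg.Agent.Lib.OrthPrime

open QuadraticMap
open scoped _root_.Classical

universe u

variable {F : Type u} [Field F] [Fintype F] {V : Type u} [AddCommGroup V] [Module F V] [FiniteDimensional F V]
variable {Q : QuadraticForm F V} {e : V ≃ₗ[F] V}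

theorem inv_of_le_movS (he : e ^ 2 = 1) {U : Submodule F V} (hU : U ≤ movS e) : Inv e U := fun w hw => by
  have h : e w = -w := by
    obtain ⟨v, rfl⟩ := hU hw
    have h1 : e (e v) = v := by simpa [pow_two] using LinearEquiv.congr_fun he v
    show e (e v - v) = -(e v - v)
    rw [map_sub, h1, neg_sub]
  rw [h]
  exact neg_mem hw

/-- Non-degenerate subspaces of even dimension. -/
theorem involution_fixes_nd_even (hQ : (polarBilin Q).Nondegenerate) (h2 : (2 : F) ≠ 0) (hQe : ∀ v, Q (e v) = Q v)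
    (he : e ^ 2 = 1) {d b l : ℕ} (hn : Module.finrank F V = 2 * d) (hb : Module.finrank F (movS e) = 2 * b)
    (hd : 3 ≤ d) (hl : 1 ≤ l) (hld : l < d) {s : ℤ} (hs : s = 1 ∨ s = -1) :
    ∃ W, NDsub Q (2 * l) s W ∧ Inv e W := by
  have hr0 : ((2 : ℕ) : F) ≠ 0 := by simpa using h2
  obtain ⟨hC, hD, hperp⟩ := qperp_fixS hQe he hr0 hQ
  have hsum := Submodule.finrank_add_eq_of_isCompl (isCompl_fixS_movS he hr0)
  have horth : ∀ {A B : Submodule F V}, A ≤ fixS e → B ≤ movS e → B ≤ qperp Q A := fun hA hB x hx =>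
    (mem_qperp Q).2 fun y hy => fixS_perp_movS hQe (hA hy) (hB hx)
  obtain ⟨a, ha⟩ : ∃ a, Module.finrank F (fixS e) = 2 * a := ⟨d - b, by omega⟩
  by_cases hla : l < a
  · obtain ⟨A, hAC, hAn, hAd, hAs⟩ := exists_nd_sub_le hC h2 hs (l := l) (by omega) (Or.inl (by omega))
    exact ⟨A, ⟨hAd, hAn, hAs⟩, inv_of_le_fixS hAC⟩
  by_cases hlb : l < b
  · obtain ⟨A, hAC, hAn, hAd, hAs⟩ := exists_nd_sub_le hD h2 hs (l := l) (by omega) (Or.inl (by omega))
    exact ⟨A, ⟨hAd, hAn, hAs⟩, inv_of_le_movS he hAC⟩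
  rcases Nat.lt_or_ge a l with hal | hal
  · have hsC := qsgn_cases (rQ Q (fixS e))
    obtain ⟨B, hBD, hBn, hBd, hBs⟩ := exists_nd_sub_le hD h2 (l := l - a) (s := qsgn (rQ Q (fixS e)) * s)
      (by rcases hsC with h | h <;> rcases hs with h' | h' <;> rw [h, h'] <;> simp) (by omega) (Or.inl (by omega))
    obtain ⟨hn', hd', hs'⟩ := nd_sup_sign hC hBn (horth le_rfl hBD) ha hBd
    refine ⟨fixS e ⊔ B, ⟨by rw [hd']; omega, hn', ?_⟩, inv_fixS.sup (inv_of_le_movS he hBD)⟩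
    rw [hs', hBs, ← mul_assoc]
    rcases hsC with h | h <;> rw [h] <;> ring
  obtain rfl : l = a := by omega
  rcases Nat.lt_or_ge b 2 with hb2 | hb2
  · obtain rfl : b = 1 := by omega
    have hsD := qsgn_cases (rQ Q (movS e))
    obtain ⟨A, hAC, hAn, hAd, hAs⟩ := exists_nd_sub_le hC h2 (l := l - 1) (s := s * qsgn (rQ Q (movS e)))
      (by rcases hsD with h | h <;> rcases hs with h' | h' <;> rw [h, h'] <;> simp) (by omega) (Or.inl (by omega))
    obtain ⟨hn', hd', hs'⟩ := nd_sup_sign hAn hD (horth hAC le_rfl) hAd hb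
    refine ⟨A ⊔ movS e, ⟨by rw [hd']; omega, hn', ?_⟩, (inv_of_le_fixS hAC).sup inv_movS⟩
    rw [hs', hAs, mul_assoc]
    rcases hsD with h | h <;> rw [h] <;> ring
  · obtain ⟨A, hAC, hAn, hAd, hAs⟩ := exists_nd_sub_le hC h2 (l := l - 1) (Or.inl rfl) (fun _ => rfl)
      (Or.inl (by omega))
    obtain ⟨B, hBD, hBn, hBd, hBs⟩ := exists_nd_sub_le hD h2 (l := 1) hs (by omega) (Or.inl (by omega))
    obtain ⟨hn', hd', hs'⟩ := nd_sup_sign hAn hBn (horth hAC hBD) hAd hBd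
    exact ⟨A ⊔ B, ⟨by rw [hd']; omega, hn', by rw [hs', hAs, hBs, one_mul]⟩,
      (inv_of_le_fixS hAC).sup (inv_of_le_movS he hBD)⟩

/-- A non-degenerate subspace of odd dimension of a given isometry class. -/
theorem involution_fixes_odd (hQ : (polarBilin Q).Nondegenerate) (h2 : (2 : F) ≠ 0) (hQe : ∀ v, Q (e v) = Q v)
    (he : e ^ 2 = 1) {d b m : ℕ} (hn : Module.finrank F V = 2 * d) (hb : Module.finrank F (movS e) = 2 * b)
    (hm : Odd m) (hmd : m < d) {W₀ : Submodule F V} (hW₀ : Nd Q W₀) (hW₀d : Module.finrank F W₀ = m) :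
    ∃ W : Submodule F V, (Module.finrank F W = m ∧ Nd Q W ∧ ∃ φ : W ≃ₗ[F] W₀, ∀ w, rQ Q W₀ (φ w) = rQ Q W w) ∧ Inv e W := by
  have hr0 : ((2 : ℕ) : F) ≠ 0 := by simpa using h2
  obtain ⟨hC, hD, -⟩ := qperp_fixS hQe he hr0 hQ
  have hsum := Submodule.finrank_add_eq_of_isCompl (isCompl_fixS_movS he hr0)
  obtain ⟨a, ha⟩ := hm
  have main : ∀ C : Submodule F V, Nd Q C → 2 * a + 2 ≤ Module.finrank F C → (∀ U ≤ C, Inv e U) →
      ∃ W : Submodule F V, (Module.finrank F W = m ∧ Nd Q W ∧ ∃ φ : W ≃ₗ[F] W₀, ∀ w, rQ Q W₀ (φ w) = rQ Q W w) ∧ Inv e W := by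
    intro C hC' hCd hinv
    obtain ⟨φ, hφ⟩ := exists_embed_odd ((nd_iff Q W₀).2 hW₀) ((nd_iff Q C).2 hC') h2 (a := a) (by omega) hCd
    let ψ : W₀ →ₗ[F] V := C.subtype ∘ₗ φ
    have hψ : ∀ x, Q (ψ x) = rQ Q W₀ x := hφ
    have hinj := injective_of_preserves Q _ ψ hψ ((nd_iff Q W₀).2 hW₀)
    refine ⟨LinearMap.range ψ, ⟨by rw [LinearMap.finrank_range_of_inj hinj, hW₀d],
      nd_map Q _ ψ hψ ((nd_iff Q W₀).2 hW₀), (LinearEquiv.ofInjective ψ hinj).symm, fun w => ?_⟩, hinv _ ?_⟩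
    · obtain ⟨x, rfl⟩ := (LinearEquiv.ofInjective ψ hinj).surjective w
      rw [LinearEquiv.symm_apply_apply]
      exact (hψ x).symm
    · rintro _ ⟨x, rfl⟩
      exact (φ x).2
  by_cases hbig : d ≤ Module.finrank F (fixS e)
  · exact main _ hC (by omega) fun U hU => inv_of_le_fixS hU
  · exact main _ hD (by omega) fun U hU => inv_of_le_movS he hU

/-- Totally singular subspaces. -/
theorem involution_fixes_ts (hQ : (polarBilin Q).Nondegenerate) (h2 : (2 : F) ≠ 0) (hQe : ∀ v, Q (e v) = Q v)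
    (he : e ^ 2 = 1) {m : ℕ} (hm : m ≤ wIdx (rQ Q (fixS e)) + wIdx (rQ Q (movS e))) :
    ∃ W, TSsub Q m W ∧ Inv e W := by
  have hr0 : ((2 : ℕ) : F) ≠ 0 := by simpa using h2
  obtain ⟨hC, hD, -⟩ := qperp_fixS hQe he hr0 hQ
  obtain ⟨A, hA, hAd⟩ := exists_ts_sub ((nd_iff Q _).2 hC) (fun _ => h2) (j := min m (wIdx (rQ Q (fixS e))))
    (min_le_right _ _)
  obtain ⟨B, hB, hBd⟩ := exists_ts_sub ((nd_iff Q _).2 hD) (fun _ => h2) (j := m - min m (wIdx (rQ Q (fixS e))))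
    (by omega)
  have hA' : A.map (fixS e).subtype ≤ fixS e := Submodule.map_subtype_le _ _
  have hB' : B.map (movS e).subtype ≤ movS e := Submodule.map_subtype_le _ _
  refine ⟨A.map (fixS e).subtype ⊔ B.map (movS e).subtype, ⟨?_, ts_sup ?_ ?_ fun a ha b hb =>
    fixS_perp_movS hQe (hA' ha) (hB' hb)⟩, (inv_of_le_fixS hA').sup (inv_of_le_movS he hB')⟩
  · rw [finrank_sup_of_disjoint (eq_bot_iff.2 (le_trans (inf_le_inf hA' hB') (fixS_inf_movS he hr0).le)),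
      finrank_map_eq' _ (fixS e).injective_subtype, finrank_map_eq' _ (movS e).injective_subtype, hAd, hBd]
    omega
  · rintro _ ⟨x, hx, rfl⟩; exact hA x hx
  · rintro _ ⟨x, hx, rfl⟩; exact hB x hx

/-- The bound on invariant totally singular subspaces. -/
theorem involution_ts_bound (hQ : (polarBilin Q).Nondegenerate) (h2 : (2 : F) ≠ 0) (hQe : ∀ v, Q (e v) = Q v)
    (he : e ^ 2 = 1) {m : ℕ} {W : Submodule F V} (hW : TSsub Q m W) (hWi : Inv e W) :
    m ≤ wIdx (rQ Q (fixS e)) + wIdx (rQ Q (movS e)) := by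
  have hr0 : ((2 : ℕ) : F) ≠ 0 := by simpa using h2
  obtain ⟨hC, hD, -⟩ := qperp_fixS hQe he hr0 hQ
  rw [← hW.1, finrank_inv_split he hr0 hWi]
  have h1 := ts_le_wIdx ((nd_iff Q _).2 hC) (U := (W ⊓ fixS e).comap (fixS e).subtype) fun x hx => hW.2 _ hx.1
  have h3 := ts_le_wIdx ((nd_iff Q _).2 hD) (U := (W ⊓ movS e).comap (movS e).subtype) fun x hx => hW.2 _ hx.1
  rw [(Submodule.comapSubtypeEquivOfLe inf_le_right).finrank_eq] at h1 h3
  omega

end Cfsg.Agent.Lib.OrthPrime
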