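import Mathlib
import Cfsg.Agent.Lib.OrthPrime.InvolOdd
import Cfsg.Agent.Lib.OrthPrime.Wrap
import Cfsg.Agent.Lib.Orth.Centre
import Cfsg.Agent.Lib.Similarity.SpinorProduct

/-!
Involutions of `Ω`, `q` odd: the sign of the negated space.
-/

set_option autoImplicit false
set_option linter.unusedSectionVars false

namespace Cfsg.Agent.Lib.OrthPrime

open QuadraticMap
open scoped _root_.Classical

universe u

section Family

variable {F : Type u} [Field F] [Fintype F] {V : Type u} [AddCommGroup V] [Module F V] [FiniteDimensional F V]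
variable {Q : QuadraticForm F V}

theorem polar_sum_orth {k : ℕ} {v : Fin k → V} (hv : ∀ i j, i ≠ j → polar ⇑Q (v i) (v j) = 0) (c : Fin k → F)
    (j : Fin k) : polar ⇑Q (∑ i, c i • v i) (v j) = c j * (2 * Q (v j)) := by
  rw [← polarBilin_apply_apply, map_sum, LinearMap.sum_apply, Finset.sum_eq_single j]
  · rw [map_smul, LinearMap.smul_apply, polarBilin_apply_apply, polar_self, two_nsmul, ← two_mul, smul_eq_mul]
  · intro i _ hij
    rw [map_smul, LinearMap.smul_apply, polarBilin_apply_apply, hv i j hij, smul_zero]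
  · simp

theorem span_orth (h2 : (2 : F) ≠ 0) {k : ℕ} {v : Fin k → V} (hv : ∀ i j, i ≠ j → polar ⇑Q (v i) (v j) = 0)
    (hv' : ∀ i, Q (v i) ≠ 0) :
    Nd Q (Submodule.span F (Set.range v)) ∧ Module.finrank F (Submodule.span F (Set.range v)) = k := by
  constructor
  · intro x hx h
    obtain ⟨c, rfl⟩ := (Submodule.mem_span_range_iff_exists_fun F).1 hx
    refine Finset.sum_eq_zero fun j _ => ?_
    have := h (v j) (Submodule.subset_span ⟨j, rfl⟩)
    rw [polar_sum_orth hv] at this
    rw [(mul_eq_zero.1 this).resolve_right (mul_ne_zero h2 (hv' j)), zero_smul]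
  · have hli : LinearIndependent F v := by
      rw [Fintype.linearIndependent_iff]
      intro c hc j
      have h0 : polar ⇑Q (∑ i, c i • v i) (v j) = 0 := by rw [hc, polar_zero_left]
      rw [polar_sum_orth hv] at h0
      exact (mul_eq_zero.1 h0).resolve_right (mul_ne_zero h2 (hv' j))
    rw [finrank_span_eq_card hli, Fintype.card_fin]

theorem isSquare_mul_iff (h2 : (2 : F) ≠ 0) {x y : F} (hx : x ≠ 0) (hy : y ≠ 0) :
    IsSquare (x * y) ↔ (IsSquare x ↔ IsSquare y) := by
  simp only [← Similarity.sqSign_eq_one_iff, Similarity.sqSign_mul h2 hx hy]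
  rcases Int.units_eq_one_or (Similarity.sqSign x) with h | h <;>
    rcases Int.units_eq_one_or (Similarity.sqSign y) with h' | h' <;> rw [h, h'] <;> simp

/-- The sign of an orthogonal sum of lines. -/
theorem qsgn_orth (h2 : (2 : F) ≠ 0) : ∀ {b : ℕ} {v : Fin (2 * b) → V},
    (∀ i j, i ≠ j → polar ⇑Q (v i) (v j) = 0) → (∀ i, Q (v i) ≠ 0) →
    (qsgn (rQ Q (Submodule.span F (Set.range v))) = 1 ↔ IsSquare ((-1) ^ b * ∏ i, Q (v i)))
  | 0, v, _, _ => by
    refine iff_of_true ?_ ?_
    · rw [qsgn_eq_one_iff]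
      refine ⟨⊥, ?_, fun u hu => by simp [(Submodule.mem_bot F).1 hu]⟩
      rw [finrank_bot, show Submodule.span F (Set.range v) = ⊥ by simp [Set.range_eq_empty], finrank_bot]
    · simp
  | b + 1, v, hv, hv' => by
    let a : Fin 2 → V := fun i => v ⟨i, by omega⟩
    let w : Fin (2 * b) → V := fun i => v ⟨i + 2, by omega⟩
    have ha : ∀ i j, i ≠ j → polar ⇑Q (a i) (a j) = 0 := fun i j h => hv _ _ fun e => h (Fin.ext (by
      have := congrArg Fin.val e; simp at this; omega))
    have hw : ∀ i j, i ≠ j → polar ⇑Q (w i) (w j) = 0 := fun i j h => hv _ _ fun e => h (Fin.ext (by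
      have := congrArg Fin.val e; simp at this; omega))
    obtain ⟨hAn, hAd⟩ := span_orth h2 ha fun i => hv' _
    obtain ⟨hBn, hBd⟩ := span_orth h2 hw fun i => hv' _
    have hperp : Submodule.span F (Set.range w) ≤ qperp Q (Submodule.span F (Set.range a)) := by
      rw [Submodule.span_le]
      rintro _ ⟨j, rfl⟩
      refine (mem_qperp Q).2 fun x hx => ?_
      obtain ⟨c, rfl⟩ := (Submodule.mem_span_range_iff_exists_fun F).1 hx
      rw [← polarBilin_apply_apply, map_sum, LinearMap.sum_apply]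
      refine Finset.sum_eq_zero fun i _ => ?_
      rw [map_smul, LinearMap.smul_apply, polarBilin_apply_apply,
        hv ⟨i, by omega⟩ ⟨j + 2, by omega⟩ fun e => by
          have := congrArg Fin.val e; simp at this; omega, smul_zero]
    obtain ⟨-, -, hs⟩ := nd_sup_sign hAn hBn hperp (k := 1) (l := b) (by rw [hAd]) (by rw [hBd])
    have hrange : Set.range v = Set.range a ∪ Set.range w := by
      refine le_antisymm ?_ (Set.union_subset ?_ ?_)
      · rintro _ ⟨i, rfl⟩
        by_cases hi : (i : ℕ) < 2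
        · exact Or.inl ⟨⟨i, hi⟩, rfl⟩
        · exact Or.inr ⟨⟨i - 2, by omega⟩, congrArg v (Fin.ext (by simp; omega))⟩
      · rintro _ ⟨i, rfl⟩; exact ⟨_, rfl⟩
      · rintro _ ⟨i, rfl⟩; exact ⟨_, rfl⟩
    have hprod : ∏ i, Q (v i) = (Q (a 0) * Q (a 1)) * ∏ i, Q (w i) := by
      rw [← Fintype.prod_equiv (finCongr (show 2 * b + 1 + 1 = 2 * (b + 1) by ring))
        (fun i => Q (v (finCongr (show 2 * b + 1 + 1 = 2 * (b + 1) by ring) i))) _ fun i => rfl,
        Fin.prod_univ_succ, Fin.prod_univ_succ, ← mul_assoc]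
      rfl
    have hplane : qsgn (rQ Q (Submodule.span F (Set.range a))) = 1 ↔ IsSquare (-(Q (a 0) * Q (a 1))) := by
      rw [qsgn_eq_one_iff, isHyp_rQ_iff]
      constructor
      · rintro ⟨U, hU, hU0, hUd⟩
        rw [hAd] at hUd
        obtain ⟨x, hxU, hx0⟩ := Submodule.exists_mem_ne_zero_of_ne_bot (p := U) (fun h => by
          rw [h, finrank_bot] at hUd; omega)
        obtain ⟨c, hc⟩ := (Submodule.mem_span_range_iff_exists_fun F).1 (hU hxU)
        have h0 := hU0 x hxU
        rw [← hc, Fin.sum_univ_two, QuadraticMap.map_add (⇑Q), QuadraticMap.map_smul, QuadraticMap.map_smul,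
          polar_smul_left, polar_smul_right, ha 0 1 (by decide), smul_zero, smul_zero, add_zero, smul_eq_mul,
          smul_eq_mul] at h0
        have hc1 : c 1 ≠ 0 := fun h => by
          rw [h, mul_zero, zero_mul, add_zero] at h0
          have hc0 : c 0 = 0 := by simpa [hv'] using (mul_eq_zero.1 h0).resolve_right (hv' _)
          exact hx0 (by rw [← hc, Fin.sum_univ_two, h, hc0, zero_smul, zero_smul, add_zero])
        refine ⟨Q (a 0) * c 0 / c 1, ?_⟩
        field_simp
        linear_combination -(Q (a 0)) * h0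
      · rintro ⟨s, hs⟩
        have hx : s • a 0 + Q (a 0) • a 1 ∈ Submodule.span F (Set.range a) :=
          add_mem (Submodule.smul_mem _ _ (Submodule.subset_span ⟨0, rfl⟩))
            (Submodule.smul_mem _ _ (Submodule.subset_span ⟨1, rfl⟩))
        have hx0 : s • a 0 + Q (a 0) • a 1 ≠ 0 := fun h => by
          have h1 := congrArg (fun y => polar ⇑Q y (a 1)) h
          simp only [polar_add_left, polar_smul_left, ha 0 1 (by decide), smul_zero, zero_add, polar_zero_left,
            polar_self, two_nsmul, smul_eq_mul, ← two_mul, mul_zero] at h1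
          exact mul_ne_zero (hv' _) (mul_ne_zero h2 (hv' _)) h1
        refine ⟨F ∙ (s • a 0 + Q (a 0) • a 1), (Submodule.span_singleton_le_iff_mem _ _).2 hx, fun y hy => ?_, ?_⟩
        · obtain ⟨t, rfl⟩ := Submodule.mem_span_singleton.1 hy
          rw [QuadraticMap.map_smul, QuadraticMap.map_add (⇑Q), QuadraticMap.map_smul, QuadraticMap.map_smul,
            polar_smul_left, polar_smul_right, ha 0 1 (by decide), smul_zero, smul_zero, add_zero]
          simp only [smul_eq_mul]
          linear_combination -(t * t * Q (a 0)) * hs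
        · rw [finrank_span_singleton hx0, hAd]
    have ih := qsgn_orth h2 hw fun i => hv' _
    rw [hrange, Submodule.span_union, hs, hprod,
      show ((-1 : F) ^ (b + 1)) * (Q (a 0) * Q (a 1) * ∏ i, Q (w i)) =
        -(Q (a 0) * Q (a 1)) * ((-1) ^ b * ∏ i, Q (w i)) by ring,
      isSquare_mul_iff h2 (neg_ne_zero.2 (mul_ne_zero (hv' _) (hv' _)))
        (mul_ne_zero (pow_ne_zero _ (neg_ne_zero.2 one_ne_zero)) (Finset.prod_ne_zero_iff.2 fun i _ => hv' _)),
      ← hplane, ← ih]
    rcases qsgn_cases (rQ Q (Submodule.span F (Set.range a))) with h | h <;>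
      rcases qsgn_cases (rQ Q (Submodule.span F (Set.range w))) with h' | h' <;> rw [h, h'] <;> simp

theorem exists_orth_span (h2 : (2 : F) ≠ 0) {S : Submodule F V} (hS : Nd Q S) {k : ℕ}
    (hk : Module.finrank F S = k) : ∃ v : Fin k → V,
      (∀ i j, i ≠ j → polar ⇑Q (v i) (v j) = 0) ∧ (∀ i, Q (v i) ≠ 0) ∧ Submodule.span F (Set.range v) = S := by
  haveI : Invertible (2 : F) := invertibleOfNonzero h2
  have hsymm : LinearMap.IsSymm (polarBilin (rQ Q S)) := ⟨fun x y => by
    simp only [polarBilin_apply_apply]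
    exact polar_comm _ _ _⟩
  obtain ⟨b, hb⟩ := LinearMap.BilinForm.exists_orthogonal_basis hsymm
  let b' := b.reindex (finCongr hk)
  have hne : ∀ i, Q (b i : V) ≠ 0 := fun i h => by
    refine b.ne_zero i (((nd_iff Q S).2 hS).1 _ fun y => ?_)
    rw [← b.sum_repr y, map_sum]
    refine Finset.sum_eq_zero fun j _ => ?_
    rw [map_smul]
    rcases eq_or_ne i j with rfl | hij
    · rw [polarBilin_apply_apply, polar_rQ, polar_self, h, smul_zero, smul_zero]
    · rw [show polarBilin (rQ Q S) (b i) (b j) = 0 from hb hij, smul_zero]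
  refine ⟨fun i => (b' i : V), fun i j hij => ?_, fun i => ?_, ?_⟩
  · have h : polarBilin (rQ Q S) (b ((finCongr hk).symm i)) (b ((finCongr hk).symm j)) = 0 :=
      hb fun e => hij ((finCongr hk).symm.injective e)
    rw [polarBilin_apply_apply, polar_rQ] at h
    simpa [b'] using h
  · simpa [b'] using hne _
  · rw [show (fun i => (b' i : V)) = S.subtype ∘ b' from rfl, Set.range_comp, ← Submodule.map_span, b'.span_eq,
      Submodule.map_subtype_top]

end Family

variable {F : Type u} [Field F] [Fintype F] {ι : Type} [Fintype ι] [DecidableEq ι]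
variable {Q : QuadraticForm F (ι → F)}

/-- An involutive isometry lies in `Ω` iff its negated space is even of square discriminant. -/
theorem mem_omega_involution_iff (h2 : (2 : F) ≠ 0) (hQ : (polarBilin Q).Nondegenerate) (hn : 2 ≤ Fintype.card ι)
    (g : ↥(Cfsg.isometryGroup F ⇑Q)) (he : Forms.glEquiv ι F (g : Matrix.GeneralLinearGroup ι F) ^ 2 = 1) :
    g ∈ Cfsg.Omega F ⇑Q ↔ ∃ b, Module.finrank F (movS (Forms.glEquiv ι F (g : Matrix.GeneralLinearGroup ι F))) = 2 * b ∧
      (qsgn (rQ Q (movS (Forms.glEquiv ι F (g : Matrix.GeneralLinearGroup ι F)))) = 1 ↔ IsSquare ((-1 : F) ^ b)) := by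
  set e := Forms.glEquiv ι F (g : Matrix.GeneralLinearGroup ι F) with hedef
  have hQe : ∀ v, Q (e v) = Q v := fun v => Forms.isometryGroup_apply g v
  have hr0 : ((2 : ℕ) : F) ≠ 0 := by simpa using h2
  obtain ⟨-, hD, -⟩ := qperp_fixS hQe he hr0 hQ
  obtain ⟨k, hk⟩ : ∃ k, Module.finrank F (movS e) = k := ⟨_, rfl⟩
  obtain ⟨v, hv, hv', hspan⟩ := exists_orth_span h2 hD hk
  obtain ⟨g', hg'v, hg'fix, -, hg'χ⟩ := Orth.exists_negate h2 hQ hv hv'
  have hneg : ∀ w ∈ movS e, e w = -w := by
    rintro _ ⟨x, rfl⟩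
    have h1 : e (e x) = x := by simpa [pow_two] using LinearEquiv.congr_fun he x
    show e (e x - x) = -(e x - x)
    rw [map_sub, h1, neg_sub]
  have hgg : g = g' := by
    refine Orth.isometry_ext fun x => ?_
    obtain ⟨a, ha, b, hb, rfl⟩ := Submodule.mem_sup.1
      ((isCompl_fixS_movS he hr0).sup_eq_top ▸ Submodule.mem_top : x ∈ fixS e ⊔ movS e)
    rw [Orth.app_add, Orth.app_add, show Orth.app g a = a from mem_fixS.1 ha,
      hg'fix a fun i => by
        rw [polar_comm]; exact fixS_perp_movS hQe ha (hspan ▸ Submodule.subset_span ⟨i, rfl⟩),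
      show Orth.app g b = -b from hneg b hb]
    rw [← hspan] at hb
    obtain ⟨c, rfl⟩ := (Submodule.mem_span_range_iff_exists_fun F).1 hb
    congr 1
    simp only [Orth.app, Matrix.mulVec_sum, Matrix.mulVec_smul, ← Finset.sum_neg_distrib]
    refine Finset.sum_congr rfl fun i _ => ?_
    rw [← smul_neg, ← hg'v i]
    rfl
  have hdet : Orth.detSign Q h2 hQ g = (-1) ^ k := by
    rw [hgg, hg'χ, Finset.prod_congr rfl fun i _ => Orth.detSign_refl h2 hQ (hv' i), Finset.prod_const,
      Finset.card_univ, Fintype.card_fin]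
  have hspin : Orth.spinor Q g = (-1) ^ k * Similarity.sqSign (∏ i, Q (v i)) := by
    rw [hgg, hg'χ, Finset.prod_congr rfl fun i _ => Similarity.spinor_refl_eq h2 (hv' i),
      show (∏ i : Fin k, -Similarity.sqSign (Q (v i))) = ∏ i : Fin k, (-1) * Similarity.sqSign (Q (v i)) by simp,
      Finset.prod_mul_distrib, Finset.prod_const, Finset.card_univ, Fintype.card_fin]
    congr 1
    have h := Similarity.sqSign_list_prod h2 (List.ofFn fun i => Q (v i)) fun x hx => by
      obtain ⟨i, rfl⟩ := List.mem_ofFn.1 hx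
      exact hv' i
    rw [List.map_ofFn, List.prod_ofFn, List.prod_ofFn] at h
    exact h.symm
  rw [Orth.mem_omega_iff h2 hQ hn, hdet, hspin, neg_one_pow_eq_one_iff_even (R := ℤˣ) (by decide)]
  constructor
  · rintro ⟨⟨b, rfl⟩, hs⟩
    refine ⟨b, by omega, ?_⟩
    rw [Even.neg_one_pow ⟨b, rfl⟩, one_mul, Similarity.sqSign_eq_one_iff] at hs
    obtain ⟨b', hb'⟩ : ∃ b', b + b = 2 * b' := ⟨b, by ring⟩
    obtain rfl : b = b' := by omega
    have h := qsgn_orth h2 (v := fun i : Fin (2 * b) => v (Fin.cast hb'.symm i))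
      (fun i j hij => hv _ _ fun e => hij (Fin.cast_injective _ e)) fun i => hv' _
    rw [show (fun i : Fin (2 * b) => v (Fin.cast hb'.symm i)) = v ∘ Fin.cast hb'.symm from rfl,
      Set.range_comp, show Set.range (Fin.cast hb'.symm) = Set.univ from
        Set.range_eq_univ.2 (finCongr hb'.symm).surjective, Set.image_univ, hspan] at h
    rw [h, show (∏ i, Q (v (Fin.cast hb'.symm i))) = ∏ i, Q (v i) from
        Fintype.prod_equiv (finCongr hb'.symm) _ _ fun i => rfl,
      isSquare_mul_iff h2 (pow_ne_zero _ (neg_ne_zero.2 one_ne_zero)) (Finset.prod_ne_zero_iff.2 fun i _ => hv' _)]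
    tauto
  · rintro ⟨b, hb, hiff⟩
    obtain rfl : k = 2 * b := hk.symm.trans hb
    refine ⟨even_two_mul b, ?_⟩
    rw [(even_two_mul b).neg_one_pow, one_mul, Similarity.sqSign_eq_one_iff]
    have h := qsgn_orth h2 hv hv'
    rw [hspan, isSquare_mul_iff h2 (pow_ne_zero _ (neg_ne_zero.2 one_ne_zero))
      (Finset.prod_ne_zero_iff.2 fun i _ => hv' _), hiff] at h
    tauto

/-- The involution negating a given subspace. -/
theorem exists_involution (h2 : (2 : F) ≠ 0) (hQ : (polarBilin Q).Nondegenerate) (hn : 2 ≤ Fintype.card ι)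
    {S : Submodule F (ι → F)} (hS : Nd Q S) {b : ℕ} (hb : Module.finrank F S = 2 * b) (hb0 : 0 < b)
    (hcond : qsgn (rQ Q S) = 1 ↔ IsSquare ((-1 : F) ^ b)) :
    ∃ x : Matrix.GeneralLinearGroup ι F, x ∈ Cfsg.Geo.omegaGL ⇑Q ∧ orderOf x = 2 ∧
      movS (Forms.glEquiv ι F x) = S ∧ fixS (Forms.glEquiv ι F x) = qperp Q S := by
  obtain ⟨v, hv, hv', hspan⟩ := exists_orth_span h2 hS hb
  obtain ⟨g, hgv, hgfix, hgg, -⟩ := Orth.exists_negate h2 hQ hv hv'
  set e := Forms.glEquiv ι F (g : Matrix.GeneralLinearGroup ι F) with hedef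
  have he : e ^ 2 = 1 := by
    rw [hedef, ← map_pow, pow_two, ← Subgroup.coe_mul, hgg, Subgroup.coe_one, map_one]
  have hneg : ∀ w ∈ S, e w = -w := by
    intro w hw
    rw [← hspan] at hw
    obtain ⟨c, rfl⟩ := (Submodule.mem_span_range_iff_exists_fun F).1 hw
    rw [map_sum, ← Finset.sum_neg_distrib]
    exact Finset.sum_congr rfl fun i _ => by rw [map_smul, show e (v i) = -v i from hgv i, smul_neg]
  have hfix : ∀ w ∈ qperp Q S, e w = w := fun w hw =>
    hgfix w fun i => (mem_qperp Q).1 hw (v i) (hspan ▸ Submodule.subset_span ⟨i, rfl⟩)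
  have hr0 : ((2 : ℕ) : F) ≠ 0 := by simpa using h2
  have hmov : movS e = S := by
    refine le_antisymm ?_ fun w hw => ?_
    · rintro _ ⟨x, rfl⟩
      obtain ⟨a, ha, c, hc, rfl⟩ :=
        Submodule.mem_sup.1 ((isCompl_qperp Q hS).sup_eq_top ▸ Submodule.mem_top : x ∈ S ⊔ qperp Q S)
      show e (a + c) - (a + c) ∈ S
      rw [map_add, hneg a ha, hfix c hc, add_sub_add_right_eq_sub]
      exact sub_mem (neg_mem ha) ha
    · refine ⟨(-(2 : F)⁻¹) • w, ?_⟩
      show e _ - _ = w
      rw [map_smul, hneg w hw, LinearMap.id_apply, ← smul_sub, show -w - w = (-(2 : F)) • w by module, smul_smul, neg_mul_neg,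
        inv_mul_cancel₀ h2, one_smul]
  have hQe : ∀ v, Q (e v) = Q v := fun v => Forms.isometryGroup_apply g v
  have hfixeq : fixS e = qperp Q S := by
    refine (Submodule.eq_of_le_of_finrank_eq (fun w hw => mem_fixS.2 (hfix w hw)) ?_).symm
    have h1 := Submodule.finrank_add_eq_of_isCompl (isCompl_fixS_movS he hr0)
    have h3 := finrank_qperp Q hS
    rw [hmov] at h1
    omega
  refine ⟨g, ⟨g, (mem_omega_involution_iff h2 hQ hn g he).2 ⟨b, by rw [← hedef, hmov, hb],
    by rw [← hedef, hmov]; exact hcond⟩, rfl⟩, ?_, hmov, hfixeq⟩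
  refine orderOf_eq_prime (by rw [pow_two, ← Subgroup.coe_mul, hgg, Subgroup.coe_one]) fun h => ?_
  have hbot : movS e = ⊥ := eq_bot_iff.2 (by rintro _ ⟨x, rfl⟩; simp [hedef, h])
  rw [← hmov, hbot, finrank_bot] at hb
  omega

end Cfsg.Agent.Lib.OrthPrime
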