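import Mathlib
import Cfsg.Agent.Lib.OrthPrime.InvolOdd

/-!
Non-degenerate subspaces invariant under an isometry `1 + N` with `N² = 0`: planes `⟨v, N v⟩`, hyperbolic
blocks of dimension four, and the signs that occur in characteristic two.
-/

set_option autoImplicit false
set_option linter.unusedSectionVars false

namespace Cfsg.Agent.Lib.OrthPrime.Two

open QuadraticMap

universe u

variable {F : Type u} [Field F] [Fintype F] {V : Type u} [AddCommGroup V] [Module F V] [FiniteDimensional F V]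
variable {Q : QuadraticForm F V} {N : V →ₗ[F] V}

/-- Invariance under `N`. -/
def NInv (N : V →ₗ[F] V) (W : Submodule F V) : Prop := ∀ x ∈ W, N x ∈ W

theorem NInv.map_le {W : Submodule F V} (h : NInv N W) : W.map N ≤ W := by
  rintro _ ⟨x, hx, rfl⟩; exact h x hx

theorem NInv.sup {A B : Submodule F V} (hA : NInv N A) (hB : NInv N B) : NInv N (A ⊔ B) := fun x hx => by
  obtain ⟨a, ha, b, hb, rfl⟩ := Submodule.mem_sup.1 hx
  rw [map_add]
  exact add_mem (Submodule.mem_sup_left (hA a ha)) (Submodule.mem_sup_right (hB b hb))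

section Basic

variable (hQN : ∀ v, Q (v + N v) = Q v) (hNN : ∀ v, N (N v) = 0)

include hQN in
theorem q_N (v : V) : Q (N v) + polar ⇑Q v (N v) = 0 := by
  have h := hQN v
  rw [QuadraticMap.map_add (⇑Q), add_assoc] at h
  exact add_eq_left.1 h

include hQN in
theorem polar_isom (u v : V) :
    polar ⇑Q (N u) v + polar ⇑Q u (N v) + polar ⇑Q (N u) (N v) = 0 := by
  have h : polar ⇑Q (u + N u) (v + N v) = polar ⇑Q u v := by
    unfold polar
    rw [show u + N u + (v + N v) = u + v + N (u + v) by rw [map_add]; abel, hQN, hQN, hQN]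
  simp only [polar_add_left, polar_add_right] at h
  linear_combination h

include hQN hNN in
theorem polar_NN (u v : V) : polar ⇑Q (N u) (N v) = 0 := by
  simpa [hNN] using polar_isom hQN u (N v)

include hQN hNN in
theorem polar_N (u v : V) : polar ⇑Q (N u) v = -polar ⇑Q u (N v) := by
  have h := polar_isom hQN u v
  rw [polar_NN hQN hNN, add_zero] at h
  linear_combination h

include hQN hNN in
theorem ninv_qperp {P : Submodule F V} (hP : NInv N P) : NInv N (qperp Q P) := fun x hx =>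
  (mem_qperp Q).2 fun p hp => by
    have h := polar_N hQN hNN p x
    rw [(mem_qperp Q).1 hx _ (hP p hp)] at h
    linear_combination h

end Basic

/-- Splitting off a non-degenerate subspace inside another. -/
theorem split_in {U P : Submodule F V} (hU : Nd Q U) (hP : Nd Q P) (hle : P ≤ U) :
    Nd Q (U ⊓ qperp Q P) ∧ P ⊔ (U ⊓ qperp Q P) = U ∧ P ⊓ (U ⊓ qperp Q P) = ⊥ ∧
      Module.finrank F P + Module.finrank F ↥(U ⊓ qperp Q P) = Module.finrank F U := by
  have hc := isCompl_qperp Q hP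
  have hsup : P ⊔ (U ⊓ qperp Q P) = U := by
    refine le_antisymm (sup_le hle inf_le_left) fun x hx => ?_
    obtain ⟨a, ha, b, hb, rfl⟩ :=
      Submodule.mem_sup.1 (hc.sup_eq_top ▸ Submodule.mem_top : x ∈ P ⊔ qperp Q P)
    have hbU : b ∈ U := by simpa using sub_mem hx (hle ha)
    exact add_mem (Submodule.mem_sup_left ha) (Submodule.mem_sup_right ⟨hbU, hb⟩)
  have hinf : P ⊓ (U ⊓ qperp Q P) = ⊥ := by
    rw [eq_bot_iff, ← hc.inf_eq_bot]
    exact inf_le_inf le_rfl inf_le_right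
  refine ⟨fun x hx h => hU x hx.1 fun y hy => ?_, hsup, hinf, ?_⟩
  · rw [← hsup] at hy
    obtain ⟨a, ha, b, hb, rfl⟩ := Submodule.mem_sup.1 hy
    rw [polar_add_right, h b hb, add_zero, polar_comm]
    exact (mem_qperp Q).1 hx.2 a ha
  · conv_rhs => rw [← hsup]
    exact (OrthPrime.finrank_sup_of_disjoint hinf).symm

theorem rank_sup {A B : Submodule F V} (hA : NInv N A) (hB : NInv N B) (h : A ⊓ B = ⊥) :
    Module.finrank F ((A ⊔ B).map N : Submodule F V) =
      Module.finrank F (A.map N : Submodule F V) + Module.finrank F (B.map N : Submodule F V) := by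
  rw [Submodule.map_sup]
  exact OrthPrime.finrank_sup_of_disjoint (eq_bot_iff.2 (h ▸ inf_le_inf hA.map_le hB.map_le))

theorem exists_sub_even {C : Submodule F V} (hC : Nd Q C) {D : ℕ} (hCd : Module.finrank F C = 2 * D) {l : ℕ}
    {s : ℤ} (hs : s = 1 ∨ s = -1) (h0 : l = 0 → s = 1)
    (hl : l < D ∨ (l = D ∧ qsgn (rQ Q C) = s)) :
    ∃ A : Submodule F V, A ≤ C ∧ Nd Q A ∧ Module.finrank F A = 2 * l ∧ qsgn (rQ Q A) = s := by
  obtain ⟨A, hAn, hAd, hAs⟩ := exists_nd_sub ((nd_iff Q C).2 hC)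
    (fun h => absurd h (by rw [hCd]; exact Nat.not_odd_iff_even.2 (even_two_mul D))) hs h0
    (hl.imp (fun h => by omega) fun h => ⟨by omega, h.2⟩)
  obtain ⟨hA', hA's⟩ := rQ_map C hAn
  exact ⟨A.map C.subtype, Submodule.map_subtype_le _ _, hA', by rw [finrank_map_eq' _ C.injective_subtype, hAd],
    hA's.trans hAs⟩

theorem qsgn_bot : qsgn (rQ Q (⊥ : Submodule F V)) = 1 := by
  rw [qsgn_eq_one_iff, isHyp_rQ_iff]
  exact ⟨⊥, le_rfl, fun u hu => by rw [(Submodule.mem_bot F).1 hu, QuadraticMap.map_zero],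
    by rw [finrank_bot]⟩

variable (hQN : ∀ v, Q (v + N v) = Q v) (hNN : ∀ v, N (N v) = 0)

include hQN hNN in
/-- A hyperbolic block. -/
theorem alt_block {U : Submodule F V} (hU : Nd Q U) (hUi : NInv N U) (halt : ∀ x ∈ U, Q (N x) = 0) {v : V}
    (hv : v ∈ U) (hv0 : N v ≠ 0) :
    ∃ B ≤ U, Nd Q B ∧ NInv N B ∧ Module.finrank F B = 2 * 2 ∧ qsgn (rQ Q B) = 1 ∧
      Module.finrank F (B.map N : Submodule F V) = 2 := by
  obtain ⟨u, hu, hne⟩ : ∃ u ∈ U, polar ⇑Q (N v) u ≠ 0 := by
    by_contra h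
    push Not at h
    exact hv0 (hU _ (hUi v hv) h)
  have hdiag : ∀ x ∈ U, polar ⇑Q x (N x) = 0 := fun x hx => by simpa [halt x hx] using q_N hQN x
  have hne' : polar ⇑Q v (N u) ≠ 0 := fun h => hne (by rw [polar_N hQN hNN, h, neg_zero])
  have hne1 : polar ⇑Q u (N v) ≠ 0 := fun h => hne (by rw [polar_comm, h])
  have hne2 : polar ⇑Q (N u) v ≠ 0 := fun h => hne' (by rw [polar_comm, h])
  let f : Fin 4 → V := ![v, N v, u, N u]
  have hcoef : ∀ c : Fin 4 → F, (∀ i, polar ⇑Q (∑ j, c j • f j) (f i) = 0) → c = 0 := by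
    intro c h
    have h0 := h 0
    have h1 := h 1
    have h2 := h 2
    have h3 := h 3
    simp only [Fin.sum_univ_four, f, Matrix.cons_val_zero, Matrix.cons_val_one, Matrix.cons_val,
      polar_add_left, polar_smul_left, smul_eq_mul, polar_NN hQN hNN, hdiag v hv, hdiag u hu,
      polar_comm ⇑Q (N v) v, polar_comm ⇑Q (N u) u, mul_zero, add_zero, zero_add] at h0 h1 h2 h3
    have e2 : c 2 = 0 := (mul_eq_zero.1 h1).resolve_right hne1
    have e0 : c 0 = 0 := (mul_eq_zero.1 h3).resolve_right hne'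
    rw [e0, e2, zero_mul, zero_mul, zero_add, zero_add] at h0
    rw [e0, e2, zero_mul, zero_mul, zero_add, add_zero] at h2
    have e3 : c 3 = 0 := (mul_eq_zero.1 h0).resolve_right hne2
    have e1 : c 1 = 0 := (mul_eq_zero.1 h2).resolve_right hne
    funext i; fin_cases i <;> assumption
  have hli : LinearIndependent F f := Fintype.linearIndependent_iff.2 fun c hc => congrFun
    (hcoef c fun i => by rw [hc, polar_zero_left])
  have hBi : NInv N (Submodule.span F (Set.range f)) := by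
    intro x hx
    obtain ⟨c, rfl⟩ := (Submodule.mem_span_range_iff_exists_fun F).1 hx
    refine (Submodule.mem_span_range_iff_exists_fun F).2 ⟨![0, c 0, 0, c 2], ?_⟩
    simp [Fin.sum_univ_four, f, map_add, hNN]
  have hT : LinearIndependent F ![N v, N u] := by
    rw [Fintype.linearIndependent_iff]
    intro c hc
    rw [Fin.sum_univ_two] at hc
    simp only [Matrix.cons_val_zero, Matrix.cons_val_one, Matrix.cons_val_fin_one] at hc
    have h0 := congrArg (fun y => polar ⇑Q y u) hc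
    have h1 := congrArg (fun y => polar ⇑Q y v) hc
    simp only [polar_add_left, polar_smul_left, smul_eq_mul, polar_zero_left, polar_comm ⇑Q (N v) v,
      polar_comm ⇑Q (N u) u, hdiag v hv, hdiag u hu, mul_zero, add_zero, zero_add] at h0 h1
    intro i; fin_cases i
    · exact (mul_eq_zero.1 h0).resolve_right hne
    · exact (mul_eq_zero.1 h1).resolve_right hne2
  have hTd : Module.finrank F (Submodule.span F (Set.range ![N v, N u])) = 2 := by
    rw [finrank_span_eq_card hT, Fintype.card_fin]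
  refine ⟨Submodule.span F (Set.range f), ?_, ?_, hBi, ?_, ?_, ?_⟩
  · rw [Submodule.span_le]
    rintro _ ⟨i, rfl⟩
    fin_cases i
    exacts [hv, hUi v hv, hu, hUi u hu]
  · intro x hx h
    obtain ⟨c, rfl⟩ := (Submodule.mem_span_range_iff_exists_fun F).1 hx
    rw [hcoef c fun i => h _ (Submodule.subset_span ⟨i, rfl⟩)]
    simp
  · rw [finrank_span_eq_card hli, Fintype.card_fin]
  · rw [qsgn_eq_one_iff, isHyp_rQ_iff]
    refine ⟨_, ?_, ?_, by rw [hTd, finrank_span_eq_card hli, Fintype.card_fin]⟩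
    · rw [Submodule.span_le]
      rintro _ ⟨i, rfl⟩
      fin_cases i
      exacts [Submodule.subset_span ⟨1, rfl⟩, Submodule.subset_span ⟨3, rfl⟩]
    · intro y hy
      obtain ⟨c, rfl⟩ := (Submodule.mem_span_range_iff_exists_fun F).1 hy
      simp [Fin.sum_univ_two, QuadraticMap.map_add (⇑Q), QuadraticMap.map_smul, polar_smul_left,
        polar_smul_right, halt v hv, halt u hu, polar_NN hQN hNN]
  · rw [Submodule.map_span, ← hTd]
    refine congrArg (fun S : Submodule F V => Module.finrank F S) (le_antisymm ?_ ?_) <;> rw [Submodule.span_le]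
    · rintro _ ⟨_, ⟨i, rfl⟩, rfl⟩
      fin_cases i
      exacts [Submodule.subset_span ⟨0, rfl⟩, by simp [f, hNN], Submodule.subset_span ⟨1, rfl⟩, by simp [f, hNN]]
    · rintro _ ⟨i, rfl⟩
      fin_cases i
      exacts [Submodule.subset_span ⟨v, ⟨0, rfl⟩, rfl⟩, Submodule.subset_span ⟨u, ⟨2, rfl⟩, rfl⟩]

include hQN hNN in
/-- Chains of hyperbolic blocks. -/
theorem alt_blocks : ∀ (n : ℕ) {U : Submodule F V}, Module.finrank F U = n → Nd Q U → NInv N U →
    (∀ x ∈ U, Q (N x) = 0) →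
    Even (Module.finrank F (U.map N : Submodule F V)) ∧
      ∀ i, Even i → i ≤ Module.finrank F (U.map N : Submodule F V) →
        ∃ W ≤ U, Nd Q W ∧ NInv N W ∧ Module.finrank F W = 2 * i ∧ qsgn (rQ Q W) = 1 ∧
          Module.finrank F (W.map N : Submodule F V) = i := by
  intro n
  induction n using Nat.strong_induction_on with
  | _ n ih =>
    intro U hUn hU hUi halt
    have hzero : ∃ W ≤ U, Nd Q W ∧ NInv N W ∧ Module.finrank F W = 2 * 0 ∧ qsgn (rQ Q W) = 1 ∧
        Module.finrank F (W.map N : Submodule F V) = 0 :=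
      ⟨⊥, bot_le, nd_bot Q, fun x hx => by simp [(Submodule.mem_bot F).1 hx],
        by rw [finrank_bot], qsgn_bot, by rw [Submodule.map_bot, finrank_bot]⟩
    by_cases hN : ∀ x ∈ U, N x = 0
    · have h0 : U.map N = ⊥ := eq_bot_iff.2 fun _ ⟨x, hx, h⟩ => by simp [← h, hN x hx]
      rw [h0, finrank_bot]
      refine ⟨Even.zero, fun i _ hi => ?_⟩
      obtain rfl : i = 0 := by omega
      exact hzero
    push Not at hN
    obtain ⟨v, hv, hv0⟩ := hN
    obtain ⟨B, hBU, hBn, hBi, hBd, hBs, hBr⟩ := alt_block hQN hNN hU hUi halt hv hv0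
    obtain ⟨hRn, hsup, hinf, hRd⟩ := split_in hU hBn hBU
    set R := U ⊓ qperp Q B with hR
    have hRi : NInv N R := fun x hx => ⟨hUi x hx.1, ninv_qperp hQN hNN hBi x hx.2⟩
    obtain ⟨hev, hblocks⟩ := ih (Module.finrank F R) (by omega) rfl hRn hRi fun x hx => halt x hx.1
    have hr : Module.finrank F (U.map N : Submodule F V) = 2 + Module.finrank F (R.map N : Submodule F V) := by
      conv_lhs => rw [← hsup]
      rw [rank_sup hBi hRi hinf, hBr]
    refine ⟨by rw [hr]; exact even_two.add hev, fun i hi hile => ?_⟩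
    rcases Nat.eq_zero_or_pos i with rfl | hipos
    · exact hzero
    rw [Nat.even_iff] at hi
    obtain ⟨W, hWR, hWn, hWi, hWd, hWs, hWr⟩ := hblocks (i - 2) (Nat.even_iff.2 (by omega)) (by omega)
    obtain ⟨hn', hd', hs'⟩ := nd_sup_sign hBn hWn (hWR.trans inf_le_right) hBd hWd
    refine ⟨B ⊔ W, sup_le hBU (hWR.trans inf_le_left), hn', hBi.sup hWi, by rw [hd']; omega,
      by rw [hs', hBs, hWs, one_mul], ?_⟩
    rw [rank_sup hBi hWi (eq_bot_iff.2 (hinf ▸ inf_le_inf le_rfl hWR)), hBr, hWr]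
    omega

include hQN hNN in
/-- Invariant subspaces when all moved vectors are singular. -/
theorem alt_exists {U : Submodule F V} {D r : ℕ} (hU : Nd Q U) (hUi : NInv N U) (hd : Module.finrank F U = 2 * D)
    (halt : ∀ x ∈ U, Q (N x) = 0) (hr : Module.finrank F (U.map N : Submodule F V) = r) {i l : ℕ} (hi : Even i)
    (hir : i ≤ r) (hl : l + r ≤ D) {s : ℤ} (hs : s = 1 ∨ s = -1) (h0 : l = 0 → s = 1)
    (hfull : l ≠ 0 → l + r = D → s = qsgn (rQ Q U)) :
    ∃ W ≤ U, Nd Q W ∧ NInv N W ∧ Module.finrank F W = 2 * (i + l) ∧ qsgn (rQ Q W) = s := by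
  obtain ⟨hev, hblocks⟩ := alt_blocks hQN hNN _ rfl hU hUi halt
  obtain ⟨W, hWU, hWn, hWi, hWd, hWs, -⟩ := hblocks i hi (hr ▸ hir)
  rcases Nat.eq_zero_or_pos l with rfl | hlpos
  · exact ⟨W, hWU, hWn, hWi, by rw [hWd]; omega, by rw [hWs, h0 rfl]⟩
  obtain ⟨B, hBU, hBn, hBi, hBd, hBs, hBr⟩ := hblocks r (hr ▸ hev) hr.ge
  obtain ⟨W', hWB, hWn', hWi', hWd', hWs', -⟩ := (alt_blocks hQN hNN _ rfl hBn hBi fun x hx => halt x (hBU hx)).2
    i hi (hBr ▸ hir)
  obtain ⟨hCn, hsup, hinf, hCd⟩ := split_in hU hBn hBU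
  set C := U ⊓ qperp Q B with hC
  have hCi : NInv N C := fun x hx => ⟨hUi x hx.1, ninv_qperp hQN hNN hBi x hx.2⟩
  have hC0 : ∀ x ∈ C, N x = 0 := fun x hx => by
    have h := rank_sup hBi hCi hinf
    rw [hsup, hr, hBr] at h
    have h' : C.map N = ⊥ := Submodule.finrank_eq_zero.1 (by omega)
    exact (Submodule.mem_bot F).1 (h' ▸ Submodule.mem_map_of_mem hx)
  have hCd' : Module.finrank F C = 2 * (D - r) := by omega
  obtain ⟨A, hAC, hAn, hAd, hAs⟩ := exists_sub_even hCn hCd' hs (fun h => absurd h (by omega)) (l := l) (by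
    rcases Nat.lt_or_ge l (D - r) with h | h
    · exact Or.inl h
    refine Or.inr ⟨by omega, ?_⟩
    obtain ⟨-, -, hss⟩ := nd_sup_sign hBn hCn inf_le_right hBd hCd'
    rw [hsup, hBs, one_mul] at hss
    rw [← hss, ← hfull (by omega) (by omega)])
  obtain ⟨hn', hd', hs'⟩ := nd_sup_sign hWn' hAn
    (fun x hx => (mem_qperp Q).2 fun y hy => (mem_qperp Q).1 (hAC hx).2 y (hWB hy)) hWd' hAd
  exact ⟨W' ⊔ A, sup_le (hWB.trans hBU) (hAC.trans inf_le_left), hn',
    hWi'.sup fun x hx => by rw [hC0 x (hAC hx)]; exact zero_mem _, by rw [hd'], by rw [hs', hWs', hAs, one_mul]⟩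

include hQN hNN in
/-- An invariant plane. -/
theorem exists_plane {v : V} (hv : Q (N v) ≠ 0) :
    Nd Q (Submodule.span F (Set.range ![v, N v])) ∧
      Module.finrank F (Submodule.span F (Set.range ![v, N v])) = 2 * 1 ∧
      NInv N (Submodule.span F (Set.range ![v, N v])) ∧
      Module.finrank F ((Submodule.span F (Set.range ![v, N v])).map N : Submodule F V) = 1 := by
  have hne : polar ⇑Q v (N v) ≠ 0 := fun h => hv (by simpa [h] using q_N hQN v)
  have hne' : polar ⇑Q (N v) v ≠ 0 := fun h => hne (by rw [polar_comm, h])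
  have hcoef : ∀ c : Fin 2 → F, (∀ i, polar ⇑Q (∑ j, c j • ![v, N v] j) (![v, N v] i) = 0) → c = 0 := by
    intro c h
    have h0 := h 0
    have h1 := h 1
    simp only [Fin.sum_univ_two, Matrix.cons_val_zero, Matrix.cons_val_one, Matrix.cons_val_fin_one,
      polar_add_left, polar_smul_left, smul_eq_mul, polar_NN hQN hNN, mul_zero, add_zero] at h0 h1
    have e0 := (mul_eq_zero.1 h1).resolve_right hne
    rw [e0, zero_mul, zero_add] at h0
    have e1 := (mul_eq_zero.1 h0).resolve_right hne'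
    funext i; fin_cases i <;> assumption
  refine ⟨fun x hx h => ?_, ?_, fun x hx => ?_, ?_⟩
  · obtain ⟨c, rfl⟩ := (Submodule.mem_span_range_iff_exists_fun F).1 hx
    rw [hcoef c fun i => h _ (Submodule.subset_span ⟨i, rfl⟩)]
    simp
  · rw [finrank_span_eq_card (Fintype.linearIndependent_iff.2 fun c hc => congrFun
      (hcoef c fun i => by rw [hc, polar_zero_left])), Fintype.card_fin]
  · obtain ⟨c, rfl⟩ := (Submodule.mem_span_range_iff_exists_fun F).1 hx
    exact (Submodule.mem_span_range_iff_exists_fun F).2 ⟨![0, c 0], by simp [Fin.sum_univ_two, hNN]⟩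
  · have h : (Submodule.span F (Set.range ![v, N v])).map N = F ∙ N v := by
      rw [Submodule.map_span]
      refine le_antisymm ?_ ?_ <;> rw [Submodule.span_le]
      · rintro _ ⟨_, ⟨i, rfl⟩, rfl⟩
        fin_cases i
        exacts [Submodule.mem_span_singleton_self _, by simp [hNN]]
      · rintro _ rfl
        exact Submodule.subset_span ⟨v, ⟨0, rfl⟩, rfl⟩
    rw [h, finrank_span_singleton fun e => hv (by rw [e, QuadraticMap.map_zero])]

include hQN hNN in
theorem plane_le {U : Submodule F V} (hUi : NInv N U) {v : V} (hv : v ∈ U) :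
    Submodule.span F (Set.range ![v, N v]) ≤ U := by
  rw [Submodule.span_le]
  rintro _ ⟨i, rfl⟩
  fin_cases i
  exacts [hv, hUi v hv]

include hQN hNN in
/-- Invariant subspaces of dimension divisible by four. -/
theorem even_dims : ∀ (D : ℕ) {U : Submodule F V}, Nd Q U → NInv N U → Module.finrank F U = 2 * D →
    ∀ j, Even j → j ≤ D → ∃ W ≤ U, Nd Q W ∧ NInv N W ∧ Module.finrank F W = 2 * j := by
  intro D
  induction D using Nat.strong_induction_on with
  | _ D ih =>
    intro U hU hUi hUd j hj hjD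
    rcases eq_or_lt_of_le hjD with rfl | hlt
    · exact ⟨U, le_rfl, hU, hUi, hUd⟩
    by_cases halt : ∀ x ∈ U, Q (N x) = 0
    · obtain ⟨hev, hblocks⟩ := alt_blocks hQN hNN _ rfl hU hUi halt
      obtain ⟨r, hr⟩ : ∃ r, Module.finrank F (U.map N : Submodule F V) = r := ⟨_, rfl⟩
      rw [hr] at hev hblocks
      obtain ⟨B, hBU, -, -, hBd, -, -⟩ := hblocks r hev le_rfl
      have hrD := Submodule.finrank_mono hBU
      rw [hBd, hUd] at hrD
      obtain ⟨W, hW, hWn, hWi, hWd, -⟩ := alt_exists hQN hNN hU hUi hUd halt hr (i := min j r) (l := j - min j r)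
        (by rcases le_total j r with h | h <;> simp [h, hj, hev]) (min_le_right _ _) (by omega)
        (s := if j - min j r = 0 then 1 else qsgn (rQ Q U)) (by split_ifs <;> [exact Or.inl rfl; exact qsgn_cases _])
        (fun h => if_pos h) (fun h _ => if_neg h)
      exact ⟨W, hW, hWn, hWi, by rw [hWd]; omega⟩
    push Not at halt
    obtain ⟨v, hv, hv0⟩ := halt
    obtain ⟨hPn, hPd, hPi, -⟩ := exists_plane hQN hNN hv0
    obtain ⟨hRn, -, -, hRd⟩ := split_in hU hPn (plane_le hQN hNN hUi hv)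
    obtain ⟨W, hW, hWn, hWi, hWd⟩ := ih (D - 1) (by omega) hRn
      (fun x hx => ⟨hUi x hx.1, ninv_qperp hQN hNN hPi x hx.2⟩) (by omega) j hj (by omega)
    exact ⟨W, hW.trans inf_le_left, hWn, hWi, hWd⟩

include hQN hNN in
/-- All even dimensions, when some moved vector is non-singular. -/
theorem all_dims {D : ℕ} {U : Submodule F V} (hU : Nd Q U) (hUi : NInv N U) (hUd : Module.finrank F U = 2 * D)
    (h : (∃ v ∈ U, Q (N v) ≠ 0) ∨ ∀ x ∈ U, N x = 0) {j : ℕ} (hjD : j ≤ D) :
    ∃ W ≤ U, Nd Q W ∧ NInv N W ∧ Module.finrank F W = 2 * j := by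
  rcases Nat.even_or_odd j with hj | hj
  · exact even_dims hQN hNN D hU hUi hUd j hj hjD
  rcases h with ⟨v, hv, hv0⟩ | h
  · obtain ⟨hPn, hPd, hPi, -⟩ := exists_plane hQN hNN hv0
    obtain ⟨hRn, -, -, hRd⟩ := split_in hU hPn (plane_le hQN hNN hUi hv)
    rw [Nat.odd_iff] at hj
    obtain ⟨W, hW, hWn, hWi, hWd⟩ := even_dims hQN hNN (D - 1) hRn
      (fun x hx => ⟨hUi x hx.1, ninv_qperp hQN hNN hPi x hx.2⟩) (by omega) (j - 1) (Nat.even_iff.2 (by omega))
      (by omega)
    obtain ⟨hn', hd', -⟩ := nd_sup_sign hPn hWn (hW.trans inf_le_right) hPd hWd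
    exact ⟨_, sup_le (plane_le hQN hNN hUi hv) (hW.trans inf_le_left), hn', hPi.sup hWi, by rw [hd']; omega⟩
  · rcases eq_or_lt_of_le hjD with rfl | hlt
    · exact ⟨U, le_rfl, hU, hUi, hUd⟩
    obtain ⟨A, hA, hAn, hAd, -⟩ := exists_sub_even hU hUd (Or.inl rfl) (fun _ => rfl) (Or.inl hlt)
    exact ⟨A, hA, hAn, fun x hx => by rw [h x (hA hx)]; exact zero_mem _, hAd⟩

variable [CharP F 2]

theorem exists_not_artin : ∃ c : F, ∀ y : F, y ^ 2 + y ≠ c := by
  by_contra h
  push Not at h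
  have hinj : Function.Injective (fun y : F => y ^ 2 + y) :=
    Finite.injective_iff_surjective.2 h
  exact one_ne_zero (hinj (show (1 : F) ^ 2 + 1 = (0 : F) ^ 2 + 0 by
    rw [one_pow, CharTwo.add_self_eq_zero]; simp))

include hQN hNN in
/-- Both signs, when the complement contains a fixed non-singular vector. -/
theorem flex {W : Submodule F V} {k : ℕ} (hW : Nd Q W) (hWi : NInv N W) (hWd : Module.finrank F W = 2 * k) {v : V}
    (hv : v ∈ W) (hv0 : Q (N v) ≠ 0) {w : V} (hw : w ∈ qperp Q W) (hwN : N w = 0) (hw0 : Q w ≠ 0) {s : ℤ}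
    (hs : s = 1 ∨ s = -1) :
    ∃ W' : Submodule F V, Nd Q W' ∧ NInv N W' ∧ Module.finrank F W' = 2 * k ∧ qsgn (rQ Q W') = s := by
  obtain ⟨hPn, hPd, hPi, -⟩ := exists_plane hQN hNN hv0
  obtain ⟨hRn, -, -, hRd⟩ := split_in hW hPn (plane_le hQN hNN hWi hv)
  set R := W ⊓ qperp Q (Submodule.span F (Set.range ![v, N v]))
  have hRi : NInv N R := fun x hx => ⟨hWi x hx.1, ninv_qperp hQN hNN hPi x hx.2⟩
  have hvw : polar ⇑Q v w = 0 := (mem_qperp Q).1 hw v hv
  obtain ⟨c, hc⟩ : ∃ c : F, ∀ (t : F), Q v + t * t * Q w = c →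
      qsgn (rQ Q (Submodule.span F (Set.range ![v + t • w, N (v + t • w)]))) = s * qsgn (rQ Q R) := by
    have key : ∀ (t c : F), Q v + t * t * Q w = c → Q (N (v + t • w)) = Q (N v) ∧ Q (v + t • w) = c := by
      intro t c h
      refine ⟨by rw [map_add, map_smul, hwN, smul_zero, add_zero], ?_⟩
      rw [QuadraticMap.map_add (⇑Q), QuadraticMap.map_smul, polar_smul_right, hvw, smul_zero, add_zero,
        smul_eq_mul, h]
    have hsign : s * qsgn (rQ Q R) = 1 ∨ s * qsgn (rQ Q R) = -1 := by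
      rcases hs with h | h <;> rcases qsgn_cases (rQ Q R) with h' | h' <;> rw [h, h'] <;> simp
    rcases hsign with h | h
    · refine ⟨0, fun t ht => ?_⟩
      obtain ⟨h1, h3⟩ := key t 0 ht
      rw [h, qsgn_eq_one_iff, isHyp_rQ_iff]
      obtain ⟨-, hd', -, -⟩ := exists_plane hQN hNN (v := v + t • w) (by rw [h1]; exact hv0)
      have hne : v + t • w ≠ 0 := fun e => by
        rw [e, map_zero, QuadraticMap.map_zero] at h1; exact hv0 h1.symm
      refine ⟨F ∙ (v + t • w), (Submodule.span_singleton_le_iff_mem _ _).2 (Submodule.subset_span ⟨0, rfl⟩),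
        fun y hy => ?_, by rw [finrank_span_singleton hne, hd']⟩
      obtain ⟨a, rfl⟩ := Submodule.mem_span_singleton.1 hy
      rw [QuadraticMap.map_smul, h3, smul_zero]
    · obtain ⟨c, hc⟩ := exists_not_artin (F := F)
      refine ⟨c * Q (N v), fun t ht => ?_⟩
      obtain ⟨h1, h3⟩ := key t _ ht
      rw [h]
      rcases qsgn_cases (rQ Q (Submodule.span F (Set.range ![v + t • w, N (v + t • w)]))) with hh | hh
      swap
      · exact hh
      exfalso
      rw [qsgn_eq_one_iff, isHyp_rQ_iff] at hh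
      obtain ⟨U, hU, hU0, hUd⟩ := hh
      obtain ⟨-, hd', -, -⟩ := exists_plane hQN hNN (v := v + t • w) (by rw [h1]; exact hv0)
      obtain ⟨y, hyU, hy0⟩ := Submodule.exists_mem_ne_zero_of_ne_bot (p := U) (fun e => by
        rw [e, finrank_bot, hd'] at hUd; omega)
      obtain ⟨a, rfl⟩ := (Submodule.mem_span_range_iff_exists_fun F).1 (hU hyU)
      have h0 := hU0 _ hyU
      have hpol : polar ⇑Q (v + t • w) (N (v + t • w)) = Q (N v) := by
        have := q_N hQN (v + t • w)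
        rw [h1] at this
        have h2 : (2 : F) = 0 := CharTwo.two_eq_zero
        linear_combination this - Q (N v) * h2
      simp only [Fin.sum_univ_two, Matrix.cons_val_zero, Matrix.cons_val_one, Matrix.cons_val_fin_one] at h0 hy0
      rw [QuadraticMap.map_add (⇑Q), QuadraticMap.map_smul, QuadraticMap.map_smul, polar_smul_left,
        polar_smul_right, hpol, h1, h3] at h0
      simp only [smul_eq_mul] at h0
      by_cases ha : a 0 = 0
      · have ha1 : a 1 = 0 := by
          rw [ha] at h0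
          simpa [hv0] using h0
        exact hy0 (by rw [ha, ha1, zero_smul, zero_smul, add_zero])
      · apply hc (a 1 / a 0)
        have h2 : (2 : F) = 0 := CharTwo.two_eq_zero
        have h4 : a 0 ^ 2 * c + a 1 ^ 2 + a 0 * a 1 = 0 := by
          apply mul_right_cancel₀ hv0
          linear_combination h0
        field_simp
        linear_combination h4 - a 0 ^ 2 * c * h2
  obtain ⟨t, ht⟩ : ∃ t : F, t * t = (c - Q v) / Q w := by
    obtain ⟨t, ht⟩ := FiniteField.isSquare_of_char_two (ringChar.eq F 2) ((c - Q v) / Q w)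
    exact ⟨t, ht.symm⟩
  have hN' : N (v + t • w) = N v := by rw [map_add, map_smul, hwN, smul_zero, add_zero]
  obtain ⟨hP'n, hP'd, hP'i, -⟩ := exists_plane hQN hNN (v := v + t • w) (by rw [hN']; exact hv0)
  have hperp : R ≤ qperp Q (Submodule.span F (Set.range ![v + t • w, N (v + t • w)])) := fun x hx => by
    refine (mem_qperp Q).2 fun y hy => ?_
    obtain ⟨a, rfl⟩ := (Submodule.mem_span_range_iff_exists_fun F).1 hy
    have h1 := (mem_qperp Q).1 hx.2 v (Submodule.subset_span ⟨0, rfl⟩)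
    have h3 := (mem_qperp Q).1 hx.2 (N v) (Submodule.subset_span ⟨1, rfl⟩)
    have h5 : polar ⇑Q w x = 0 := by rw [polar_comm]; exact (mem_qperp Q).1 hw x hx.1
    simp [Fin.sum_univ_two, polar_add_left, polar_smul_left, h1, h3, h5, hwN]
  obtain ⟨hn', hd', hs'⟩ := nd_sup_sign hP'n hRn hperp hP'd (l := k - 1) (by omega)
  refine ⟨_, hn', hP'i.sup hRi, by rw [hd']; omega, ?_⟩
  rw [hs', hc t (by rw [ht]; field_simp; ring)]
  rcases qsgn_cases (rQ Q R) with h | h <;> rw [h] <;> ring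

include hQN hNN in
/-- Invariant subspaces of either sign, when some moved vector is non-singular and the rank is even. -/
theorem nonalt_exists (hQ : (polarBilin Q).Nondegenerate) {d : ℕ} (hn : Module.finrank F V = 2 * d)
    (hev : Even (Module.finrank F (LinearMap.range N))) {v : V} (hv0 : Q (N v) ≠ 0) {k : ℕ} (hk : 1 ≤ k)
    (hkd : k < d) {s : ℤ} (hs : s = 1 ∨ s = -1) :
    ∃ W : Submodule F V, Nd Q W ∧ NInv N W ∧ Module.finrank F W = 2 * k ∧ qsgn (rQ Q W) = s := by
  obtain ⟨hPn, hPd, hPi, hPr⟩ := exists_plane hQN hNN hv0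
  set P := Submodule.span F (Set.range ![v, N v])
  obtain ⟨hUn, hsup, hinf, hUd⟩ := split_in (U := ⊤) (nd_top Q hQ) hPn le_top
  rw [finrank_top] at hUd
  set U := ⊤ ⊓ qperp Q P with hU
  have hUi : NInv N U := fun x hx => ⟨trivial, ninv_qperp hQN hNN hPi x hx.2⟩
  obtain ⟨v₂, hv₂, hv₂0⟩ : ∃ v₂ ∈ U, Q (N v₂) ≠ 0 := by
    by_contra h
    push Not at h
    have he := (alt_blocks hQN hNN _ rfl hUn hUi h).1
    have hsum := rank_sup hPi hUi hinf
    rw [hsup, Submodule.map_top, hPr] at hsum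
    rw [hsum, Nat.even_add] at hev
    exact absurd (hev.2 he) (by decide)
  -- a second plane with a suitable complement
  obtain ⟨v₃, hv₃, hv₃0, hgood⟩ : ∃ v₃ ∈ U, Q (N v₃) ≠ 0 ∧
      ((∃ x ∈ U ⊓ qperp Q (Submodule.span F (Set.range ![v₃, N v₃])), Q (N x) ≠ 0) ∨
        ∀ x ∈ U ⊓ qperp Q (Submodule.span F (Set.range ![v₃, N v₃])), N x = 0) := by
    obtain ⟨hP2n, -, hP2i, -⟩ := exists_plane hQN hNN hv₂0
    set P₂ := Submodule.span F (Set.range ![v₂, N v₂])
    obtain ⟨hRn, -, -, -⟩ := split_in hUn hP2n (plane_le hQN hNN hUi hv₂)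
    set R := U ⊓ qperp Q P₂ with hR
    by_cases h1 : ∃ x ∈ R, Q (N x) ≠ 0
    · exact ⟨v₂, hv₂, hv₂0, Or.inl h1⟩
    by_cases h3 : ∀ x ∈ R, N x = 0
    · exact ⟨v₂, hv₂, hv₂0, Or.inr h3⟩
    push Not at h1 h3
    obtain ⟨u, hu, hu0⟩ := h3
    obtain ⟨y, hy, hy0⟩ : ∃ y ∈ R, polar ⇑Q (N u) y ≠ 0 := by
      by_contra h
      push Not at h
      exact hu0 (hRn _ ⟨hUi u hu.1, ninv_qperp hQN hNN hP2i u hu.2⟩ h)
    have hQu : Q (N (v₂ + u)) = Q (N v₂) := by
      rw [map_add, QuadraticMap.map_add (⇑Q), h1 u hu, polar_NN hQN hNN, add_zero, add_zero]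
    refine ⟨v₂ + u, add_mem hv₂ hu.1, hQu ▸ hv₂0, Or.inl ?_⟩
    set a := polar ⇑Q (N v₂) v₂ with ha
    have ha0 : a ≠ 0 := fun h => hv₂0 (by
      have := q_N hQN v₂; rw [polar_comm, ← ha, h, add_zero] at this; exact this)
    set z := (-a / polar ⇑Q (N u) y) • y with hz
    have hzR : z ∈ R := Submodule.smul_mem _ _ hy
    have e1 : polar ⇑Q (N v₂) z = 0 := (mem_qperp Q).1 hzR.2 _ (Submodule.subset_span ⟨1, rfl⟩)
    have e2 : polar ⇑Q (N u) v₂ = 0 := by
      rw [polar_comm]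
      exact (mem_qperp Q).1 (ninv_qperp hQN hNN hP2i u hu.2) _ (Submodule.subset_span ⟨0, rfl⟩)
    have e3 : polar ⇑Q (N u) z = -a := by rw [hz, polar_smul_right, smul_eq_mul]; field_simp
    have hc : polar ⇑Q (N (v₂ + u)) (v₂ + z) = 0 := by
      rw [map_add, polar_add_left, polar_add_right, polar_add_right, e1, e2, e3, ← ha]; ring
    have hne : polar ⇑Q (v₂ + u) (N (v₂ + u)) ≠ 0 := fun h => hv₂0 (by
      have hh := q_N hQN (v₂ + u)
      rw [h, add_zero] at hh
      rwa [← hQu])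
    let x := v₂ + z - (polar ⇑Q (v₂ + u) (v₂ + z) / polar ⇑Q (v₂ + u) (N (v₂ + u))) • N (v₂ + u)
    refine ⟨x, ⟨sub_mem (add_mem hv₂ hzR.1) (Submodule.smul_mem _ _ (hUi _ (add_mem hv₂ hu.1))), ?_⟩, ?_⟩
    · refine (mem_qperp Q).2 fun y hy => ?_
      obtain ⟨c, rfl⟩ := (Submodule.mem_span_range_iff_exists_fun F).1 hy
      have g0 : polar ⇑Q (v₂ + u) x = 0 := by
        simp only [x, sub_eq_add_neg, polar_add_right, polar_neg_right, polar_smul_right, smul_eq_mul]
        field_simp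
        ring
      have g1 : polar ⇑Q (N (v₂ + u)) x = 0 := by
        simp only [x, sub_eq_add_neg, polar_add_right (y := v₂ + z), polar_neg_right, polar_smul_right,
          polar_NN hQN hNN, hc, smul_zero, neg_zero, add_zero]
      simp only [Fin.sum_univ_two, Matrix.cons_val_zero, Matrix.cons_val_one, Matrix.cons_val_fin_one,
        polar_add_left, polar_smul_left, g0, g1, smul_zero, add_zero]
    · have : N x = N v₂ + N z := by simp [x, map_sub, map_add, hNN]
      rw [this, QuadraticMap.map_add (⇑Q), h1 z hzR, polar_NN hQN hNN, add_zero, add_zero]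
      exact hv₂0
  obtain ⟨hP3n, hP3d, hP3i, -⟩ := exists_plane hQN hNN hv₃0
  set P₃ := Submodule.span F (Set.range ![v₃, N v₃])
  obtain ⟨hRn, -, -, hRd⟩ := split_in hUn hP3n (plane_le hQN hNN hUi hv₃)
  obtain ⟨W₀, hW₀, hW₀n, hW₀i, hW₀d⟩ := all_dims hQN hNN (D := d - 2) hRn
    (fun x hx => ⟨hUi x hx.1, ninv_qperp hQN hNN hP3i x hx.2⟩) (by omega) hgood (j := k - 1) (by omega)
  have hW0P : W₀ ≤ qperp Q P := hW₀.trans (inf_le_left.trans inf_le_right)
  obtain ⟨hn', hd', -⟩ := nd_sup_sign hPn hW₀n hW0P hPd hW₀d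
  refine flex hQN hNN hn' (hPi.sup hW₀i) (k := k) (by rw [hd']; omega) (v := v)
    (Submodule.mem_sup_left (Submodule.subset_span ⟨0, rfl⟩)) hv0 (w := N v₃) ?_ (hNN v₃) hv₃0 hs
  refine (mem_qperp Q).2 fun y hy => ?_
  obtain ⟨a, ha, b, hb, rfl⟩ := Submodule.mem_sup.1 hy
  rw [polar_add_left, (mem_qperp Q).1 (hUi v₃ hv₃).2 a ha, zero_add, polar_comm]
  exact (mem_qperp Q).1 (hW₀ hb).2 _ (Submodule.subset_span ⟨1, rfl⟩)

end Cfsg.Agent.Lib.OrthPrime.Two
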