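import Mathlib
import Cfsg.Agent.Lib.OrthPrime.Criteria
import Cfsg.Agent.Lib.InvolutionSplit.Basic

/-!
A shear of `Ω⁺` with totally singular image of dimension at least `d - 1`: all invariant non-degenerate
subspaces of even dimension are of plus type.
-/

set_option autoImplicit false
set_option linter.unusedSectionVars false

namespace Cfsg.Agent.Lib.OrthPrime

open QuadraticMap
open scoped Matrix

universe u

variable {F : Type u} [Field F] [Fintype F]

section Gen

variable {V : Type u} [AddCommGroup V] [Module F V] [FiniteDimensional F V] {Q : QuadraticForm F V}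

theorem wIdx_minus_le {W : Submodule F V} {a : ℕ} (hd : Module.finrank F W = 2 * a) (hs : qsgn (rQ Q W) = -1) :
    wIdx (rQ Q W) = a - 1 := by
  have hno : ¬ Odd (Module.finrank F W) := by rw [hd]; exact Nat.not_odd_iff_even.2 (even_two_mul a)
  have hnh : ¬ FormConj.IsHyp (rQ Q W) := fun h => by
    rw [(qsgn_eq_one_iff _).2 h] at hs; exact absurd hs (by decide)
  unfold wIdx
  simp only [hno, hnh, or_self, if_false]
  omega

/-- An isometry moving onto a totally singular subspace of dimension at least `d - 1` of a plus space only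
leaves even-dimensional non-degenerate subspaces of plus type invariant. -/
theorem inv_nd_plus_of_ts_mov (hQ : (polarBilin Q).Nondegenerate) {d : ℕ}
    (hn : Module.finrank F V = 2 * d) (hε : qsgn Q = 1) {e : V ≃ₗ[F] V} (hQe : ∀ v, Q (e v) = Q v)
    (hts : ∀ v ∈ LinearMap.range (e.toLinearMap - LinearMap.id), Q v = 0)
    (hr : d ≤ Module.finrank F (LinearMap.range (e.toLinearMap - LinearMap.id)) + 1) {W : Submodule F V} {a : ℕ}
    (hW : Nd Q W) (hd : Module.finrank F W = 2 * a) (ha : 1 ≤ a) (had : a < d) (hWi : Inv e W) :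
    qsgn (rQ Q W) = 1 := by
  rcases qsgn_cases (rQ Q W) with h | h
  · exact h
  exfalso
  have hUd : Module.finrank F (qperp Q W) = 2 * (d - a) := by
    have := finrank_qperp Q hW; omega
  have hUs : qsgn (rQ Q (qperp Q W)) = -1 := by
    have := qsgn_split Q hQ hW hd hUd
    rw [hε, h] at this
    linarith
  have hUn := nd_qperp Q hQ hW
  set N := e.toLinearMap - LinearMap.id with hN
  have hle : ∀ A : Submodule F V, Inv e A → A.map N ≤ A := by
    rintro A hA _ ⟨x, hx, rfl⟩
    exact sub_mem (hA x hx) hx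
  have hbound : ∀ (A : Submodule F V) (k : ℕ), Nd Q A → Module.finrank F A = 2 * k → qsgn (rQ Q A) = -1 →
      Inv e A → Module.finrank F (A.map N : Submodule F V) ≤ k - 1 := by
    intro A k hAn hAd hAs hAi
    have h1 := ts_le_wIdx (Q := rQ Q A) ((nd_iff Q A).2 hAn) (U := (A.map N).comap A.subtype) fun x hx => by
      obtain ⟨y, -, hy⟩ := hx
      show Q (A.subtype x) = 0
      rw [← hy]
      exact hts _ ⟨y, rfl⟩
    rw [(Submodule.comapSubtypeEquivOfLe (hle A hAi)).finrank_eq, wIdx_minus_le hAd hAs] at h1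
    exact h1
  have h1 := hbound W a hW hd h hWi
  have h3 := hbound _ (d - a) hUn hUd hUs (inv_qperp hQe hWi)
  have h4 : LinearMap.range N = W.map N ⊔ (qperp Q W).map N := by
    rw [← Submodule.map_sup, (isCompl_qperp Q hW).sup_eq_top, Submodule.map_top]
  rw [h4] at hr
  have h5 := Submodule.finrank_add_le_finrank_add_finrank (W.map N) ((qperp Q W).map N)
  omega

end Gen

/-- The shear of `Ω⁺` in dimension `2d`. -/
theorem exists_shear_plus {p : ℕ} [Fact p.Prime] [CharP F p] {d : ℕ} (hd : 4 ≤ d) :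
    ∃ x : GL (Fin d ⊕ Fin d) F, x ∈ Cfsg.Geo.omegaGL ⇑(StdForms.plusQ F d) ∧ x ^ p = 1 ∧
      (∀ z : F, (x : Matrix (Fin d ⊕ Fin d) (Fin d ⊕ Fin d) F) ≠ z • 1) ∧
      (∀ v ∈ LinearMap.range ((Forms.glEquiv _ F x).toLinearMap - LinearMap.id), StdForms.plusQ F d v = 0) ∧
      d ≤ Module.finrank F (LinearMap.range ((Forms.glEquiv _ F x).toLinearMap - LinearMap.id)) + 1 := by
  classical
  obtain ⟨e, c, hc, σ⟩ : ∃ e c, c ≤ 1 ∧ Nonempty (Fin d ≃ (Fin e ⊕ Fin e) ⊕ Fin c) :=
    ⟨d / 2, d % 2, by omega, ⟨((finCongr (show d = d / 2 + d / 2 + d % 2 by omega)).trans finSumFinEquiv.symm).trans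
      (finSumFinEquiv.symm.sumCongr (Equiv.refl _))⟩⟩
  obtain ⟨σ⟩ := σ
  have hde : d = e + e + c := by simpa using Fintype.card_congr σ
  -- embedding of the image
  let ιm : (Fin e ⊕ Fin e → F) →ₗ[F] (Fin d ⊕ Fin d → F) :=
    { toFun := fun w => Sum.elim (fun i => Sum.elim w (fun _ => 0) (σ i)) (fun _ => 0)
      map_add' := fun u v => funext fun i => by
        rcases i with i | i
        · rcases h : σ i with j | j <;> simp [h]
        · simp
      map_smul' := fun s u => funext fun i => by
        rcases i with i | i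
        · rcases h : σ i with j | j <;> simp [h]
        · simp }
  let g : (Fin d ⊕ Fin d → F) →ₗ[F] (Fin e ⊕ Fin e → F) :=
    { toFun := fun v => Sum.elim (fun l => v (.inr (σ.symm (.inl (.inr l)))))
        (fun l => -v (.inr (σ.symm (.inl (.inl l)))))
      map_add' := fun u v => funext fun i => by rcases i with i | i <;> simp [add_comm]
      map_smul' := fun s u => funext fun i => by rcases i with i | i <;> simp }
  let N : (Fin d ⊕ Fin d → F) →ₗ[F] (Fin d ⊕ Fin d → F) := ιm ∘ₗ g
  have hNr : ∀ v i, N v (.inr i) = 0 := fun v i => rfl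
  have hgι : ∀ w, g (ιm w) = 0 := fun w => funext fun i => by rcases i with i | i <;> simp [g, ιm]
  have hNN : ∀ v, N (N v) = 0 := fun v => by
    show ιm (g (ιm (g v))) = 0
    rw [hgι, map_zero]
  have hιinj : Function.Injective ιm := fun w w' h => funext fun j => by
    simpa [ιm] using congrFun h (.inl (σ.symm (.inl j)))
  have hgsurj : Function.Surjective g := fun w => ⟨Sum.elim (fun _ => 0)
    (fun i => Sum.elim (Sum.elim (fun l => -w (.inr l)) (fun l => w (.inl l))) (fun _ => 0) (σ i)),
    funext fun j => by rcases j with j | j <;> simp [g]⟩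
  have hrange : LinearMap.range N = LinearMap.range ιm := by
    rw [LinearMap.range_comp_of_range_eq_top _ (LinearMap.range_eq_top.2 hgsurj)]
  have hfin : Module.finrank F (LinearMap.range N) = e + e := by
    rw [hrange, LinearMap.finrank_range_of_inj hιinj, finrank_fun_eq]; simp
  have hts : ∀ v ∈ LinearMap.range N, StdForms.plusQ F d v = 0 := by
    rintro _ ⟨v, rfl⟩
    rw [StdForms.coe_plusQ]
    exact Finset.sum_eq_zero fun i _ => by rw [hNr, mul_zero]
  have hsum : ∀ v : Fin d ⊕ Fin d → F, ∑ i, N v (.inl i) * v (.inr i) = 0 := fun v => by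
    rw [← σ.symm.sum_comp, Fintype.sum_sum_type, Fintype.sum_sum_type]
    simp only [N, LinearMap.comp_apply, ιm, g, LinearMap.coe_mk, AddHom.coe_mk, Sum.elim_inl,
      Equiv.apply_symm_apply, Sum.elim_inr, zero_mul, Finset.sum_const_zero, add_zero, neg_mul,
      Finset.sum_neg_distrib]
    rw [add_neg_eq_zero]
    exact Finset.sum_congr rfl fun l _ => mul_comm _ _
  let x' : (Fin d ⊕ Fin d → F) ≃ₗ[F] (Fin d ⊕ Fin d → F) :=
    LinearEquiv.ofLinearMap (LinearMap.id + N) (LinearMap.id - N)
      (LinearMap.ext fun v => by simp [map_sub, hNN])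
      (LinearMap.ext fun v => by simp [map_add, hNN])
  have hiso : ∀ v, StdForms.plusQ F d (x' v) = StdForms.plusQ F d v := fun v => by
    show StdForms.plusQ F d (v + N v) = _
    rw [StdForms.coe_plusQ]
    simp only [Cfsg.quadFormPlus, Pi.add_apply, hNr, add_zero, add_mul, Finset.sum_add_distrib, hsum]
  set x := (Forms.glEquiv (Fin d ⊕ Fin d) F).symm x' with hxdef
  have hx : Forms.glEquiv _ F x = x' := MulEquiv.apply_symm_apply _ _
  have hxG : x ∈ Cfsg.isometryGroup F ⇑(StdForms.plusQ F d) := fun u v => by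
    show StdForms.plusQ F d ((x : Matrix (Fin d ⊕ Fin d) (Fin d ⊕ Fin d) F) *ᵥ u) = StdForms.plusQ F d u
    rw [← Forms.glEquiv_apply, hx, hiso]
  have hN : (Forms.glEquiv _ F x).toLinearMap - LinearMap.id = N := by
    rw [hx]; exact LinearMap.ext fun v => by simp [x']
  have hpow : ∀ (k : ℕ) v, (x' ^ k) v = v + k • N v := by
    intro k
    induction k with
    | zero => intro v; simp
    | succ k ih =>
      intro v
      rw [pow_succ', LinearEquiv.mul_apply, ih]
      show v + k • N v + N (v + k • N v) = v + (k + 1) • N v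
      rw [map_add, map_nsmul, hNN, smul_zero, add_zero, succ_nsmul, add_assoc]
  have hxp : x ^ p = 1 := by
    apply (Forms.glEquiv _ F).injective
    rw [map_pow, map_one, hx]
    exact LinearEquiv.ext fun v => by rw [hpow, ← Nat.cast_smul_eq_nsmul F, CharP.cast_eq_zero, zero_smul, add_zero]; rfl
  have he1 : 1 ≤ e := by omega
  refine ⟨x, ?_, hxp, fun z hz => ?_, by rw [hN]; exact hts, by rw [hN, hfin]; omega⟩
  · have hQ := StdForms.plusQ_nondegenerate (F := F) d
    rcases eq_or_ne p 2 with rfl | hp2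
    · refine ⟨⟨x, hxG⟩, (InvolutionSplit.mem_omega_iff_fun rfl hQ (Or.inr (by simp; omega)) ⟨x, hxG⟩).2 ?_, rfl⟩
      show Even ((x : Matrix (Fin d ⊕ Fin d) (Fin d ⊕ Fin d) F) - 1).rank
      have : ((x : Matrix (Fin d ⊕ Fin d) (Fin d ⊕ Fin d) F) - 1).mulVecLin = N := by
        rw [← hN]; exact LinearMap.ext fun v => by simp [Matrix.sub_mulVec]
      rw [Matrix.rank, this, hfin]
      exact ⟨e, rfl⟩
    · exact ⟨⟨x, hxG⟩, mem_omega_of_pow_eq_one hQ (by simp; omega) ((Fact.out : p.Prime).odd_of_ne_two hp2)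
        (Subtype.ext hxp), rfl⟩
  · rw [eq_smul_one_iff, hx] at hz
    let l : Fin e := ⟨0, he1⟩
    have h1 := congrFun (hz (Pi.single (.inr (σ.symm (.inl (.inr l)))) 1)) (.inl (σ.symm (.inl (.inl l))))
    simp [x', N, ιm, g] at h1

end Cfsg.Agent.Lib.OrthPrime
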