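import Mathlib
import Cfsg.Agent.Lib.OrthPrime.InvolTwo
import Cfsg.Agent.Lib.OrthPrime.ShearPlus

/-!
Involutions of `Ω` in characteristic two and their invariant non-degenerate subspaces.
-/

set_option autoImplicit false
set_option linter.unusedSectionVars false

namespace Cfsg.Agent.Lib.OrthPrime.Two

open QuadraticMap
open scoped Matrix

universe u

variable {F : Type u} [Field F] [Fintype F] [CharP F 2]

section Gen

variable {V : Type u} [AddCommGroup V] [Module F V] [FiniteDimensional F V]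
variable {Q : QuadraticForm F V} {N : V →ₗ[F] V}

theorem wIdx_le_half {W : Submodule F V} {k : ℕ} (h : Module.finrank F W = 2 * k) : wIdx (rQ Q W) ≤ k := by
  unfold wIdx; split_ifs <;> omega

theorem rank_le_wIdx {W : Submodule F V} (hW : Nd Q W) (hWi : NInv N W) (hts : ∀ v, Q (N v) = 0) :
    Module.finrank F (W.map N : Submodule F V) ≤ wIdx (rQ Q W) := by
  have h1 := ts_le_wIdx (Q := rQ Q W) ((nd_iff Q W).2 hW) (U := (W.map N).comap W.subtype) fun x hx => by
    obtain ⟨y, -, hy⟩ := hx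
    show Q (W.subtype x) = 0
    rw [← hy]
    exact hts y
  rwa [(Submodule.comapSubtypeEquivOfLe hWi.map_le).finrank_eq] at h1

variable (hQN : ∀ v, Q (v + N v) = Q v) (hNN : ∀ v, N (N v) = 0) (hts : ∀ v, Q (N v) = 0)

include hQN hNN hts in
theorem rank_split (hQ : (polarBilin Q).Nondegenerate) {W : Submodule F V} (hW : Nd Q W) (hWi : NInv N W) :
    Module.finrank F (LinearMap.range N) = Module.finrank F (W.map N : Submodule F V) +
        Module.finrank F ((qperp Q W).map N : Submodule F V) ∧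
      Even (Module.finrank F (LinearMap.range N)) ∧ Even (Module.finrank F (W.map N : Submodule F V)) := by
  have hc := isCompl_qperp Q hW
  have h := rank_sup hWi (ninv_qperp hQN hNN hWi) hc.inf_eq_bot
  rw [hc.sup_eq_top, Submodule.map_top] at h
  refine ⟨h, ?_, (alt_blocks hQN hNN _ rfl hW hWi fun x _ => hts x).1⟩
  have := (alt_blocks hQN hNN _ rfl (nd_top Q hQ) (fun x _ => trivial) fun x _ => hts x).1
  rwa [Submodule.map_top] at this

include hQN hNN hts in
/-- No invariant non-degenerate subspace of dimension `2 (mod 4)`, for a maximal rank in a plus space. -/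
theorem no_odd_half (hQ : (polarBilin Q).Nondegenerate) {d : ℕ} (hn : Module.finrank F V = 2 * d) (hd : Even d)
    (hr : d ≤ Module.finrank F (LinearMap.range N) + 1) {W : Submodule F V} (hW : Nd Q W) (hWi : NInv N W)
    {k : ℕ} (hk : Odd k) (hWd : Module.finrank F W = 2 * k) : False := by
  obtain ⟨hsum, he1, he2⟩ := rank_split hQN hNN hts hQ hW hWi
  have hd' := finrank_qperp Q hW
  have h1 := (rank_le_wIdx hW hWi hts).trans (wIdx_le_half hWd)
  have h3 := (rank_le_wIdx (nd_qperp Q hQ hW) (ninv_qperp hQN hNN hWi) hts).trans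
    (wIdx_le_half (k := d - k) (by omega))
  rw [Nat.even_iff] at hd he1 he2
  rw [Nat.odd_iff] at hk
  omega

include hQN hNN hts in
/-- No invariant minus subspace of dimension `0 (mod 4)`, for a maximal rank in a minus space. -/
theorem no_minus_even_half (hQ : (polarBilin Q).Nondegenerate) {d : ℕ} (hn : Module.finrank F V = 2 * d) (hd : Odd d)
    (hr : d - 1 ≤ Module.finrank F (LinearMap.range N) + 1) {W : Submodule F V} (hW : Nd Q W)
    (hWi : NInv N W) {k : ℕ} (hk : Even k) (hk0 : 0 < k) (hWd : Module.finrank F W = 2 * k)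
    (hs : qsgn (rQ Q W) = -1) : False := by
  obtain ⟨hsum, he1, he2⟩ := rank_split hQN hNN hts hQ hW hWi
  have hd' := finrank_qperp Q hW
  have h1 := rank_le_wIdx hW hWi hts
  rw [wIdx_minus_le hWd hs] at h1
  have h3 := (rank_le_wIdx (nd_qperp Q hQ hW) (ninv_qperp hQN hNN hWi) hts).trans
    (wIdx_le_half (k := d - k) (by omega))
  rw [Nat.even_iff] at hk he1 he2
  rw [Nat.odd_iff] at hd
  omega

include hQN hNN in
/-- Subspaces of plus type in a plus space. -/
theorem plus_exists (hQ : (polarBilin Q).Nondegenerate) {d : ℕ} (hn : Module.finrank F V = 2 * d)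
    (hε : qsgn Q = 1) (hev : Even (Module.finrank F (LinearMap.range N))) {k : ℕ} (hk : 1 ≤ k) (hkd : k < d)
    (h : Odd d ∨ Even k) :
    ∃ W : Submodule F V, Nd Q W ∧ NInv N W ∧ Module.finrank F W = 2 * k ∧ qsgn (rQ Q W) = 1 := by
  by_cases halt : ∀ v, Q (N v) = 0
  swap
  · push Not at halt
    obtain ⟨v, hv⟩ := halt
    exact nonalt_exists hQN hNN hQ hn hev hv hk hkd (Or.inl rfl)
  obtain ⟨r, hr⟩ : ∃ r, Module.finrank F (LinearMap.range N) = r := ⟨_, rfl⟩
  obtain ⟨-, hblocks⟩ := alt_blocks hQN hNN _ rfl (nd_top Q hQ) (fun x _ => trivial) fun x _ => halt x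
  rw [Submodule.map_top, hr] at hblocks
  obtain ⟨B, -, -, -, hBd, -, -⟩ := hblocks r (hr ▸ hev) le_rfl
  have hrd := Submodule.finrank_le B
  rw [hBd, hn] at hrd
  rw [hr, Nat.even_iff] at hev
  simp only [Nat.odd_iff, Nat.even_iff] at h
  have htop : qsgn (rQ Q ⊤) = 1 := by
    rw [← hε]; exact (qsgn_congr (R := rQ Q ⊤) (T := Q) Submodule.topEquiv fun v => rfl).symm
  obtain ⟨i, hi, hir, hil⟩ : ∃ i, Even i ∧ i ≤ r ∧ i ≤ k ∧ (k - i) + r ≤ d := by
    rcases Nat.lt_or_ge r k with h1 | h1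
    · exact ⟨r, Nat.even_iff.2 hev, le_rfl, h1.le, by omega⟩
    · refine ⟨k - k % 2, Nat.even_iff.2 (by omega), by omega, by omega, by omega⟩
  obtain ⟨W, -, hW, hWi, hWd, hWs⟩ := alt_exists hQN hNN (nd_top Q hQ) (fun x _ => trivial)
    (by rw [finrank_top, hn]) (fun x _ => halt x) (by rw [Submodule.map_top, hr]) (i := i) (l := k - i) hi hir
    hil.2 (s := 1) (Or.inl rfl) (fun _ => rfl) (fun _ _ => htop.symm)
  exact ⟨W, hW, hWi, by rw [hWd]; omega, hWs⟩

include hQN hNN in
/-- Subspaces of minus type in a minus space. -/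
theorem minus_exists (hQ : (polarBilin Q).Nondegenerate) {d : ℕ} (hn : Module.finrank F V = 2 * d)
    (hε : qsgn Q = -1) (hev : Even (Module.finrank F (LinearMap.range N))) {k : ℕ} (hk : 1 ≤ k) (hkd : k < d)
    (h : Even d ∨ Odd k) :
    ∃ W : Submodule F V, Nd Q W ∧ NInv N W ∧ Module.finrank F W = 2 * k ∧ qsgn (rQ Q W) = -1 := by
  by_cases halt : ∀ v, Q (N v) = 0
  swap
  · push Not at halt
    obtain ⟨v, hv⟩ := halt
    exact nonalt_exists hQN hNN hQ hn hev hv hk hkd (Or.inr rfl)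
  obtain ⟨r, hr⟩ : ∃ r, Module.finrank F (LinearMap.range N) = r := ⟨_, rfl⟩
  obtain ⟨-, hblocks⟩ := alt_blocks hQN hNN _ rfl (nd_top Q hQ) (fun x _ => trivial) fun x _ => halt x
  rw [Submodule.map_top, hr] at hblocks
  obtain ⟨B, -, hBn, -, hBd, hBs, -⟩ := hblocks r (hr ▸ hev) le_rfl
  have hsumB := finrank_qperp Q hBn
  rw [hBd, hn] at hsumB
  have hrd : r < d := by
    rcases Nat.lt_or_ge r d with h' | h'
    · exact h'
    exfalso
    have hsplit := qsgn_split Q hQ hBn hBd (l := 0) (by omega)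
    rw [show qperp Q B = ⊥ from Submodule.finrank_eq_zero.1 (by omega), qsgn_bot, hBs, hε] at hsplit
    exact absurd hsplit (by decide)
  rw [hr, Nat.even_iff] at hev
  simp only [Nat.odd_iff, Nat.even_iff] at h
  have htop : qsgn (rQ Q ⊤) = -1 := by
    rw [← hε]; exact (qsgn_congr (R := rQ Q ⊤) (T := Q) Submodule.topEquiv fun v => rfl).symm
  obtain ⟨i, hi, hir, hik, hil⟩ : ∃ i, Even i ∧ i ≤ r ∧ i < k ∧ (k - i) + r ≤ d := by
    rcases Nat.lt_or_ge r k with h1 | h1
    · exact ⟨r, Nat.even_iff.2 hev, le_rfl, h1, by omega⟩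
    · refine ⟨2 * ((k - 1) / 2), Nat.even_iff.2 (by omega), by omega, by omega, by omega⟩
  obtain ⟨W, -, hW, hWi, hWd, hWs⟩ := alt_exists hQN hNN (nd_top Q hQ) (fun x _ => trivial)
    (by rw [finrank_top, hn]) (fun x _ => halt x) (by rw [Submodule.map_top, hr]) (i := i) (l := k - i) hi hir
    hil (s := -1) (Or.inr rfl) (fun h => absurd h (by omega)) (fun _ _ => htop.symm)
  exact ⟨W, hW, hWi, by rw [hWd]; omega, hWs⟩

end Gen

section Matrix

variable {ι : Type} [Fintype ι] [DecidableEq ι] {Q : QuadraticForm F (ι → F)}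

theorem rank_eq_finrank (x : Matrix.GeneralLinearGroup ι F) :
    ((x : Matrix ι ι F) - 1).rank =
      Module.finrank F (LinearMap.range ((Forms.glEquiv ι F x).toLinearMap - LinearMap.id)) := by
  rw [Matrix.rank]
  refine congrArg (fun f : (ι → F) →ₗ[F] (ι → F) => Module.finrank F (LinearMap.range f)) ?_
  exact LinearMap.ext fun v => by simp [Matrix.sub_mulVec]

/-- The nilpotent part of an element of `Ω` with scalar square. -/
theorem omega_setup (hQ : (polarBilin Q).Nondegenerate) (hn : 5 ≤ Fintype.card ι) {x : Matrix.GeneralLinearGroup ι F}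
    (hx : x ∈ Cfsg.Geo.omegaGL ⇑Q) {z : F}
    (hz : ((x ^ 2 : Matrix.GeneralLinearGroup ι F) : Matrix ι ι F) = z • 1) :
    ∃ N : (ι → F) →ₗ[F] (ι → F), (∀ v, Forms.glEquiv ι F x v = v + N v) ∧ (∀ v, Q (v + N v) = Q v) ∧
      (∀ v, N (N v) = 0) ∧ Even (Module.finrank F (LinearMap.range N)) := by
  rw [eq_smul_one_iff, map_pow] at hz
  have hiso := isometry_of_mem hx
  have hev : ∀ v, Forms.glEquiv ι F x v =
      v + ((Forms.glEquiv ι F x).toLinearMap - (LinearMap.id : (ι → F) →ₗ[F] (ι → F))) v := fun v => by simp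
  refine ⟨(Forms.glEquiv ι F x).toLinearMap - (LinearMap.id : (ι → F) →ₗ[F] (ι → F)), hev, fun v => by rw [← hev, hiso], ?_, ?_⟩
  · obtain ⟨v₀, hv₀⟩ := exists_anisotropic hQ (by omega)
    have hff : ∀ w, Forms.glEquiv ι F x (Forms.glEquiv ι F x w) = z • w := fun w => by simpa [pow_two] using hz w
    have hz2 : z * z = 1 := by
      have h := hiso (Forms.glEquiv ι F x v₀)
      rw [hff, QuadraticMap.map_smul, smul_eq_mul, hiso] at h
      exact mul_eq_right₀ hv₀ |>.1 h
    obtain rfl : z = 1 := by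
      rcases mul_self_eq_one_iff.1 hz2 with h | h
      · exact h
      · rwa [CharTwo.neg_eq] at h
    intro v
    simp only [LinearMap.sub_apply, LinearMap.id_apply, LinearEquiv.coe_coe, map_sub, hff, one_smul]
    have h2 : (2 : F) = 0 := CharTwo.two_eq_zero
    funext l
    simp only [Pi.sub_apply, Pi.zero_apply]
    linear_combination (v l - Forms.glEquiv ι F x v l) * h2
  · obtain ⟨g, hg, rfl⟩ := hx
    have := (InvolutionSplit.mem_omega_iff_fun rfl hQ (Or.inr (by omega)) g).1 hg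
    rwa [rank_eq_finrank] at this

/-- An element of `Ω` with prescribed nilpotent part. -/
theorem exists_of_nil (hQ : (polarBilin Q).Nondegenerate) (hn : 5 ≤ Fintype.card ι) {N : (ι → F) →ₗ[F] (ι → F)}
    (hQN : ∀ v, Q (v + N v) = Q v) (hNN : ∀ v, N (N v) = 0) (hN0 : N ≠ 0)
    (hev : Even (Module.finrank F (LinearMap.range N))) :
    ∃ x : Matrix.GeneralLinearGroup ι F, x ∈ Cfsg.Geo.omegaGL ⇑Q ∧ x ^ 2 = 1 ∧
      (∀ z : F, (x : Matrix ι ι F) ≠ z • 1) ∧ ∀ v, Forms.glEquiv ι F x v = v + N v := by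
  let x' : (ι → F) ≃ₗ[F] (ι → F) :=
    LinearEquiv.ofLinearMap (LinearMap.id + N) (LinearMap.id - N)
      (LinearMap.ext fun v => by simp [map_sub, hNN])
      (LinearMap.ext fun v => by simp [map_add, hNN])
  set x := (Forms.glEquiv ι F).symm x'
  have hx : Forms.glEquiv ι F x = x' := MulEquiv.apply_symm_apply _ _
  have hev' : ∀ v, Forms.glEquiv ι F x v = v + N v := fun v => by rw [hx]; rfl
  have hxG : x ∈ Cfsg.isometryGroup F ⇑Q := fun u v => by
    show Q ((x : Matrix ι ι F) *ᵥ u) = Q u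
    rw [← Forms.glEquiv_apply, hev', hQN]
  refine ⟨x, ⟨⟨x, hxG⟩, (InvolutionSplit.mem_omega_iff_fun rfl hQ (Or.inr (by omega)) ⟨x, hxG⟩).2 ?_, rfl⟩,
    ?_, fun z hz => hN0 ?_, hev'⟩
  · show Even (((x : Matrix ι ι F) - 1).rank)
    rw [rank_eq_finrank]
    rwa [show (Forms.glEquiv ι F x).toLinearMap - LinearMap.id = N from LinearMap.ext fun v => by simp [hx, x']]
  · apply (Forms.glEquiv ι F).injective
    rw [map_pow, map_one]
    refine LinearEquiv.ext fun v => ?_
    show Forms.glEquiv ι F x (Forms.glEquiv ι F x v) = v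
    rw [hev', hev', map_add, hNN, add_zero]
    have h2 : (2 : F) = 0 := CharTwo.two_eq_zero
    funext l
    simp only [Pi.add_apply]
    linear_combination (N v l) * h2
  · rw [eq_smul_one_iff] at hz
    refine LinearMap.ext fun v => ?_
    have h1 : N v = (z - 1) • v := by rw [sub_smul, one_smul, ← hz v, hev', add_sub_cancel_left]
    have h3 := hNN v
    rw [h1, map_smul, h1, smul_smul, smul_eq_zero, mul_self_eq_zero] at h3
    rcases h3 with h3 | h3
    · rw [h1, h3, zero_smul]; rfl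
    · rw [h3, map_zero]; rfl

end Matrix

/-- A shear of maximal rank in a minus space. -/
theorem exists_nil_minus {k : ℕ} (hk : 4 ≤ k) (a b : F) :
    ∃ N : ((Fin k ⊕ Fin k) ⊕ Fin 2 → F) →ₗ[F] ((Fin k ⊕ Fin k) ⊕ Fin 2 → F),
      (∀ v, StdForms.minusQ F k a b (v + N v) = StdForms.minusQ F k a b v) ∧ (∀ v, N (N v) = 0) ∧
      (∀ v, StdForms.minusQ F k a b (N v) = 0) ∧ N ≠ 0 ∧ k ≤ Module.finrank F (LinearMap.range N) + 1 := by
  haveI : Fact (Nat.Prime 2) := ⟨Nat.prime_two⟩
  obtain ⟨x, hx, hxp, hxz, hts, hrk⟩ := exists_shear_plus (F := F) (p := 2) hk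
  obtain ⟨N, hxN, hQN, hNN, -⟩ := omega_setup (StdForms.plusQ_nondegenerate (F := F) k) (by simp; omega) hx
    (z := 1) (by rw [hxp, one_smul]; rfl)
  have hN : (Forms.glEquiv _ F x).toLinearMap - LinearMap.id = N := LinearMap.ext fun v => by simp [hxN]
  rw [hN] at hts hrk
  let ext : (Fin k ⊕ Fin k → F) →ₗ[F] ((Fin k ⊕ Fin k) ⊕ Fin 2 → F) :=
    { toFun := fun w => Sum.elim w fun _ => 0
      map_add' := fun u v => funext fun i => by rcases i with i | i <;> simp
      map_smul' := fun s u => funext fun i => by rcases i with i | i <;> simp }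
  let res : ((Fin k ⊕ Fin k) ⊕ Fin 2 → F) →ₗ[F] (Fin k ⊕ Fin k → F) := LinearMap.funLeft F F Sum.inl
  have hre : ∀ w, res (ext w) = w := fun w => rfl
  have hQm : ∀ v, StdForms.minusQ F k a b v = StdForms.plusQ F k (res v) +
      (v (.inr 0) ^ 2 + a * v (.inr 0) * v (.inr 1) + b * v (.inr 1) ^ 2) := fun v => by
    rw [StdForms.coe_minusQ, StdForms.coe_plusQ]; rfl
  refine ⟨ext ∘ₗ N ∘ₗ res, fun v => ?_, fun v => ?_, fun v => ?_, fun h => ?_, ?_⟩
  · rw [hQm, hQm, map_add, LinearMap.comp_apply, LinearMap.comp_apply, hre, hQN]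
    simp [ext]
  · simp only [LinearMap.comp_apply, hre, hNN, map_zero]
  · rw [hQm, LinearMap.comp_apply, LinearMap.comp_apply, hre, hts _ ⟨_, rfl⟩]
    simp [ext]
  · have hN0 : N = 0 := LinearMap.ext fun w => by
      have h1 := congrArg res (LinearMap.congr_fun h (ext w))
      simpa [hre] using h1
    rw [hN0, LinearMap.range_zero, finrank_bot] at hrk
    omega
  · rw [LinearMap.range_comp, LinearMap.range_comp, LinearMap.range_eq_top.2 (fun w => ⟨ext w, hre w⟩),
      Submodule.map_top, finrank_map_eq' _ (fun u v h => by simpa [hre] using congrArg res h)]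
    exact hrk

end Cfsg.Agent.Lib.OrthPrime.Two
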