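import Mathlib
import Cfsg.Agent.Lib.OrthPrime.InvolOdd

/-!
The square class of an odd-dimensional space, read off from a maximal totally singular subspace and a
vector orthogonal to it; perps of isometric subspaces.
-/

set_option autoImplicit false
set_option linter.unusedSectionVars false

namespace Cfsg.Agent.Lib.OrthPrime

open QuadraticMap

universe u

variable {F : Type u} [Field F] [Fintype F] {V : Type u} [AddCommGroup V] [Module F V] [FiniteDimensional F V]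
variable {Q : QuadraticForm F V}

/-- `W` contains a totally singular `k`-space and a vector of value `β` orthogonal to it. -/
def HasClass (Q : QuadraticForm F V) (k : ℕ) (W : Submodule F V) (β : F) : Prop :=
  ∃ T : Submodule F V, T ≤ W ∧ Module.finrank F T = k ∧ (∀ t ∈ T, Q t = 0) ∧
    ∃ w ∈ W, (∀ t ∈ T, polar ⇑Q t w = 0) ∧ Q w = β

theorem HasClass.of_isometry {k : ℕ} {W W' : Submodule F V} {β : F} (h : HasClass Q k W β) (φ : W ≃ₗ[F] W')
    (hφ : ∀ x, rQ Q W' (φ x) = rQ Q W x) : HasClass Q k W' β := by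
  obtain ⟨T, hTW, hTd, hT0, w, hw, hwT, hwβ⟩ := h
  have hQ' : ∀ x : W, Q (φ x : V) = Q (x : V) := hφ
  have hB : ∀ x y : W, polar ⇑Q (φ x : V) (φ y : V) = polar ⇑Q (x : V) y := fun x y => by
    rw [polar, polar, ← Submodule.coe_add, ← map_add, hQ', hQ', hQ', Submodule.coe_add]
  let f : T →ₗ[F] V := W'.subtype ∘ₗ φ.toLinearMap ∘ₗ Submodule.inclusion hTW
  have hf : Function.Injective f :=
    W'.injective_subtype.comp (φ.injective.comp (Submodule.inclusion_injective hTW))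
  refine ⟨LinearMap.range f, ?_, by rw [LinearMap.finrank_range_of_inj hf, hTd], ?_,
    (φ ⟨w, hw⟩ : V), (φ ⟨w, hw⟩).2, ?_, (hQ' _).trans hwβ⟩
  · rintro _ ⟨x, rfl⟩
    exact (φ _).2
  · rintro _ ⟨x, rfl⟩
    exact (hQ' _).trans (hT0 x x.2)
  · rintro _ ⟨x, rfl⟩
    exact (hB _ _).trans (hwT x x.2)

theorem class_unique (hQ : (polarBilin Q).Nondegenerate) (h2 : (2 : F) ≠ 0) {k : ℕ}
    (hn : Module.finrank F V = 2 * k + 1) {T T' : Submodule F V} (hTd : Module.finrank F T = k)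
    (hT : ∀ t ∈ T, Q t = 0) (hT'd : Module.finrank F T' = k) (hT' : ∀ t ∈ T', Q t = 0) {w w' : V}
    (hw : ∀ t ∈ T, polar ⇑Q t w = 0) (hw' : ∀ t ∈ T', polar ⇑Q t w' = 0) (h0' : Q w' ≠ 0) :
    IsSquare (Q w * Q w') := by
  let ψ : T ≃ₗ[F] T' := LinearEquiv.ofFinrankEq _ _ (by rw [hTd, hT'd])
  obtain ⟨g, hg, hgT⟩ := Forms.witt_quad hQ (T'.subtype ∘ₗ ψ.toLinearMap)
    (T'.injective_subtype.comp ψ.injective) (fun x => (hT' _ (ψ x).2).trans (hT x x.2).symm)
  have hgw : g w ∈ qperp Q T' := (mem_qperp Q).2 fun t ht => by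
    have h1 : g ((ψ.symm ⟨t, ht⟩ : T) : V) = t := by
      rw [hgT]; simp
    rw [← h1, show polar ⇑Q (g ((ψ.symm ⟨t, ht⟩ : T) : V)) (g w) = polar ⇑Q ((ψ.symm ⟨t, ht⟩ : T) : V) w by
      simp only [polar, ← map_add, hg]]
    exact hw _ (ψ.symm ⟨t, ht⟩).2
  have hTT : ∀ a ∈ T', ∀ t ∈ T', polar ⇑Q a t = 0 := fun a ha t ht => by
    simp [polar, hT' a ha, hT' t ht, hT' _ (add_mem ha ht)]
  have hle : T' ⊔ (F ∙ w') ≤ qperp Q T' := sup_le (fun a ha => (mem_qperp Q).2 fun t ht => hTT t ht a ha)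
    ((Submodule.span_singleton_le_iff_mem _ _).2 ((mem_qperp Q).2 hw'))
  have hne : w' ∉ T' := fun h => h0' (hT' _ h)
  have hd : Module.finrank F ↥(qperp Q T') = k + 1 := by
    have := LinearMap.BilinForm.finrank_orthogonal hQ T'
    rw [← qperp] at this
    omega
  have hd' : k + 1 ≤ Module.finrank F ↥(T' ⊔ (F ∙ w')) := by
    have hlt : T' < T' ⊔ (F ∙ w') := lt_of_le_of_ne le_sup_left fun h =>
      hne (h ▸ Submodule.mem_sup_right (Submodule.mem_span_singleton_self w'))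
    have := Submodule.finrank_lt_finrank_of_lt hlt
    omega
  rw [← Submodule.eq_of_le_of_finrank_le hle (by omega)] at hgw
  obtain ⟨t, ht, y, hy, hsum⟩ := Submodule.mem_sup.1 hgw
  obtain ⟨c, rfl⟩ := Submodule.mem_span_singleton.1 hy
  refine ⟨c * Q w', ?_⟩
  rw [← hg w, ← hsum, QuadraticMap.map_add (⇑Q), hT' t ht, QuadraticMap.map_smul, polar_smul_right, hw' t ht,
    smul_zero, zero_add, add_zero, smul_eq_mul]
  ring

theorem HasClass.unique {k : ℕ} {W : Submodule F V} (hW : Nd Q W) (h2 : (2 : F) ≠ 0)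
    (hWd : Module.finrank F W = 2 * k + 1) {β β' : F} (h : HasClass Q k W β) (h' : HasClass Q k W β')
    (hβ' : β' ≠ 0) : IsSquare (β * β') := by
  obtain ⟨T, hTW, hTd, hT0, w, hw, hwT, rfl⟩ := h
  obtain ⟨T', hTW', hTd', hT0', w', hw', hwT', rfl⟩ := h'
  exact class_unique (Q := rQ Q W) ((nd_iff Q W).2 hW) h2 hWd (T := T.comap W.subtype) (T' := T'.comap W.subtype)
    (w := ⟨w, hw⟩) (w' := ⟨w', hw'⟩)
    (by rw [(Submodule.comapSubtypeEquivOfLe hTW).finrank_eq, hTd]) (fun x hx => hT0 x hx)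
    (by rw [(Submodule.comapSubtypeEquivOfLe hTW').finrank_eq, hTd']) (fun x hx => hT0' x hx)
    (fun x hx => by rw [polar_rQ]; exact hwT x hx) (fun x hx => by rw [polar_rQ]; exact hwT' x hx) hβ'

/-- Perps of isometric non-degenerate subspaces are isometric. -/
theorem qperp_isometry (hQ : (polarBilin Q).Nondegenerate) {W W₀ : Submodule F V} (hW : Nd Q W) (hW₀ : Nd Q W₀)
    (φ : W ≃ₗ[F] W₀) (hφ : ∀ x, rQ Q W₀ (φ x) = rQ Q W x) :
    ∃ ψ : qperp Q W ≃ₗ[F] qperp Q W₀, ∀ x, rQ Q (qperp Q W₀) (ψ x) = rQ Q (qperp Q W) x := by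
  obtain ⟨g, hg, hgW⟩ := Forms.witt_quad hQ (W₀.subtype ∘ₗ φ.toLinearMap)
    (W₀.injective_subtype.comp φ.injective) (fun x => hφ x)
  have hle : (qperp Q W).map g.toLinearMap ≤ qperp Q W₀ := by
    rintro _ ⟨x, hx, rfl⟩
    refine (mem_qperp Q).2 fun t ht => ?_
    have h1 : g ((φ.symm ⟨t, ht⟩ : W) : V) = t := by rw [hgW]; simp
    rw [← h1, LinearEquiv.coe_coe,
      show polar ⇑Q (g ((φ.symm ⟨t, ht⟩ : W) : V)) (g x) = polar ⇑Q ((φ.symm ⟨t, ht⟩ : W) : V) x by
        simp only [polar, ← map_add, hg]]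
    exact (mem_qperp Q).1 hx _ (φ.symm ⟨t, ht⟩).2
  have heq : (qperp Q W).map g.toLinearMap = qperp Q W₀ := by
    refine Submodule.eq_of_le_of_finrank_le hle ?_
    rw [LinearEquiv.finrank_map_eq]
    have h1 := finrank_qperp Q hW
    have h3 := finrank_qperp Q hW₀
    have h4 := φ.finrank_eq
    omega
  refine ⟨(Submodule.equivMapOfInjective g.toLinearMap g.injective _).trans (LinearEquiv.ofEq _ _ heq),
    fun x => ?_⟩
  exact hg x

end Cfsg.Agent.Lib.OrthPrime
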