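import Mathlib
import Cfsg.Agent.Lib.OrthPrime.InvolOmega

/-!
Isometries with square `-1`, `q` odd.
-/

set_option autoImplicit false
set_option linter.unusedSectionVars false

namespace Cfsg.Agent.Lib.OrthPrime

open QuadraticMap
open scoped _root_.Classical

universe u

section Gen

variable {F : Type u} [Field F] [Fintype F] {V : Type u} [AddCommGroup V] [Module F V] [FiniteDimensional F V]
variable {Q : QuadraticForm F V} {e : V ≃ₗ[F] V}

theorem polar_sqrt_neg (hQe : ∀ v, Q (e v) = Q v) (he : ∀ v, e (e v) = -v) (x y : V) :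
    polar ⇑Q (e x) y = -polar ⇑Q x (e y) := by
  conv_rhs => rw [← polar_e hQe x (e y), he, polar_neg_right, neg_neg]

theorem polar_self_apply (h2 : (2 : F) ≠ 0) (hQe : ∀ v, Q (e v) = Q v) (he : ∀ v, e (e v) = -v) (x : V) :
    polar ⇑Q x (e x) = 0 := by
  have h := polar_sqrt_neg hQe he x x
  rw [polar_comm] at h
  exact (mul_eq_zero.1 (by linear_combination h : (2 : F) * polar ⇑Q x (e x) = 0)).resolve_left h2

theorem exists_aniso_mem (h2 : (2 : F) ≠ 0) {W : Submodule F V} (hW : Nd Q W) (h : 0 < Module.finrank F W) :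
    ∃ a ∈ W, Q a ≠ 0 := by
  obtain ⟨v, hv, hv', hspan⟩ := exists_orth_span h2 hW (k := Module.finrank F W) rfl
  exact ⟨v ⟨0, h⟩, hspan.le (Submodule.subset_span (Set.mem_range_self _)), hv' _⟩

/-- Orthogonal pairs `u, e u` in an invariant non-degenerate subspace. -/
theorem exists_pairs (h2 : (2 : F) ≠ 0) (hQe : ∀ v, Q (e v) = Q v) (he : ∀ v, e (e v) = -v) {c : F} (hc : c ≠ 0) :
    ∀ (n : ℕ) {W : Submodule F V}, Module.finrank F W = n → Nd Q W → Inv e W →
      ∃ (j : ℕ) (u : Fin j → V), n = 2 * j ∧ (∀ i, u i ∈ W ∧ Q (u i) = c) ∧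
        (∀ i i', i ≠ i' → polar ⇑Q (u i) (u i') = 0) ∧ (∀ i i', polar ⇑Q (u i) (e (u i')) = 0) ∧
        (qsgn (rQ Q W) = 1 ↔ IsSquare ((-1 : F) ^ j)) := by
  intro n
  induction n using Nat.strong_induction_on with
  | _ n ih =>
    intro W hWd hW hWi
    rcases Nat.eq_zero_or_pos n with rfl | hn
    · refine ⟨0, Fin.elim0, rfl, fun i => i.elim0, fun i => i.elim0, fun i => i.elim0, iff_of_true ?_ (by simp)⟩
      rw [qsgn_eq_one_iff]
      exact ⟨⊥, by rw [finrank_bot, hWd], fun x hx => by simp [(Submodule.mem_bot F).1 hx]⟩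
    obtain ⟨a, haW, ha⟩ := exists_aniso_mem h2 hW (by omega)
    have hpair : ∀ x : V, Q x ≠ 0 → Nd Q (Submodule.span F (Set.range ![x, e x])) ∧
        Module.finrank F (Submodule.span F (Set.range ![x, e x])) = 2 := fun x hx => by
      refine span_orth h2 (fun i j hij => ?_) fun i => ?_
      · fin_cases i <;> fin_cases j <;> first
          | exact absurd rfl hij
          | exact polar_self_apply h2 hQe he x
          | exact (polar_comm _ _ _).trans (polar_self_apply h2 hQe he x)
      · fin_cases i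
        · exact hx
        · show Q (e x) ≠ 0
          rwa [hQe]
    have hle : ∀ x ∈ W, Submodule.span F (Set.range ![x, e x]) ≤ W := fun x hx => by
      rw [Submodule.span_le]
      rintro _ ⟨i, rfl⟩
      fin_cases i
      · exact hx
      · exact hWi x hx
    have hn2 : 2 ≤ n := by rw [← hWd, ← (hpair a ha).2]; exact Submodule.finrank_mono (hle a haW)
    obtain ⟨u₀, hu₀W, hu₀⟩ := exists_value hW h2 (by omega) hc
    obtain ⟨hPn, hPd⟩ := hpair u₀ (hu₀.symm ▸ hc)
    set P := Submodule.span F (Set.range ![u₀, e u₀])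
    have hu₀P : u₀ ∈ P := Submodule.subset_span ⟨0, rfl⟩
    have heu₀P : e u₀ ∈ P := Submodule.subset_span ⟨1, rfl⟩
    set W' := qperp Q P ⊓ W
    have hPle : P ≤ W := hle u₀ hu₀W
    have hsplit : W = P ⊔ W' := by
      refine le_antisymm (fun x hx => ?_) (sup_le hPle inf_le_right)
      obtain ⟨p, hp, q', hq', rfl⟩ :=
        Submodule.mem_sup.1 ((isCompl_qperp Q hPn).sup_eq_top ▸ Submodule.mem_top : x ∈ P ⊔ qperp Q P)
      exact Submodule.add_mem_sup hp ⟨hq', by simpa using sub_mem hx (hPle hp)⟩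
    have hW'n : Nd Q W' := by
      intro x hx h
      refine hW x hx.2 fun y hy => ?_
      obtain ⟨p, hp, q', hq', rfl⟩ := Submodule.mem_sup.1 (hsplit.le hy)
      rw [polar_add_right, h q' hq', add_zero, polar_comm]
      exact (mem_qperp Q).1 hx.1 p hp
    have hW'i : Inv e W' := fun x hx => ⟨(mem_qperp Q).2 fun p hp => by
      obtain ⟨cc, rfl⟩ := (Submodule.mem_span_range_iff_exists_fun F).1 hp
      rw [Fin.sum_univ_two, polar_add_left, polar_smul_left, polar_smul_left]
      simp only [Matrix.cons_val_zero, Matrix.cons_val_one, Matrix.cons_val_fin_one]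
      have h1 : polar ⇑Q (e u₀) x = 0 := (mem_qperp Q).1 hx.1 _ heu₀P
      have h3 : polar ⇑Q u₀ (e x) = 0 := by
        rw [polar_sqrt_neg hQe he] at h1; exact neg_eq_zero.1 h1
      have h4 : polar ⇑Q (e u₀) (e x) = 0 := by rw [polar_e hQe]; exact (mem_qperp Q).1 hx.1 _ hu₀P
      rw [h3, h4, smul_zero, smul_zero, add_zero], hWi x hx.2⟩
    have hW'd : Module.finrank F W' = n - 2 := by
      have h := finrank_sup_of_disjoint (nd_sup hPn hW'n (inf_le_left : W' ≤ qperp Q P)).2
      rw [← hsplit, hWd, hPd] at h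
      omega
    obtain ⟨j, u, hj, hu, horth, horth', hs⟩ := ih (n - 2) (by omega) hW'd hW'n hW'i
    have hsign : qsgn (rQ Q W) = qsgn (rQ Q P) * qsgn (rQ Q W') := by
      conv_lhs => rw [hsplit]
      exact (nd_sup_sign hPn hW'n inf_le_left (k := 1) (l := j) (by rw [hPd]) (by rw [hW'd, hj])).2.2
    have hperp : ∀ i, polar ⇑Q u₀ (u i) = 0 ∧ polar ⇑Q (e u₀) (u i) = 0 := fun i =>
      ⟨(mem_qperp Q).1 (hu i).1.1 _ hu₀P, (mem_qperp Q).1 (hu i).1.1 _ heu₀P⟩
    refine ⟨j + 1, Fin.cons u₀ u, by omega, fun i => ?_, fun i i' => ?_, fun i i' => ?_, ?_⟩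
    · cases i using Fin.cases with
      | zero => exact ⟨hu₀W, hu₀⟩
      | succ i => simp only [Fin.cons_succ]; exact ⟨(hu i).1.2, (hu i).2⟩
    · cases i using Fin.cases <;> cases i' using Fin.cases <;> intro hne <;>
        simp only [Fin.cons_zero, Fin.cons_succ]
      · exact absurd rfl hne
      · exact (hperp _).1
      · rw [polar_comm]; exact (hperp _).1
      · exact horth _ _ fun h => hne (by rw [h])
    · cases i using Fin.cases <;> cases i' using Fin.cases <;> simp only [Fin.cons_zero, Fin.cons_succ]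
      · exact polar_self_apply h2 hQe he u₀
      · exact neg_eq_zero.1 ((polar_sqrt_neg hQe he _ _).symm.trans (hperp _).2)
      · rw [polar_comm]; exact (hperp _).2
      · exact horth' _ _
    · have hP := qsgn_orth (Q := Q) h2 (b := 1) (v := ![u₀, e u₀]) (fun i j hij => by
          fin_cases i <;> fin_cases j <;> first
            | exact absurd rfl hij
            | exact polar_self_apply h2 hQe he u₀
            | exact (polar_comm _ _ _).trans (polar_self_apply h2 hQe he u₀))
        (fun i => by fin_cases i; exacts [hu₀.symm ▸ hc, ((hQe u₀).trans hu₀).symm ▸ hc])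
      rw [Fin.prod_univ_two] at hP
      simp only [Matrix.cons_val_zero, Matrix.cons_val_one, Matrix.cons_val_fin_one, hQe, hu₀, pow_one] at hP
      rw [isSquare_mul_iff h2 (neg_ne_zero.2 one_ne_zero) (mul_ne_zero hc hc)] at hP
      have hP' : qsgn (rQ Q P) = 1 ↔ IsSquare (-1 : F) := hP.trans (iff_true_right ⟨c, rfl⟩)
      rw [pow_succ, isSquare_mul_iff h2 (pow_ne_zero _ (neg_ne_zero.2 one_ne_zero)) (neg_ne_zero.2 one_ne_zero),
        ← hs, ← hP', hsign]
      rcases qsgn_cases (rQ Q P) with h | h <;> rcases qsgn_cases (rQ Q W') with h' | h' <;> rw [h, h'] <;> simp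

/-- A totally singular span. -/
theorem ts_span (h2 : (2 : F) ≠ 0) {κ : Type} [Fintype κ] (t w : κ → V) (hts : ∀ i j, polar ⇑Q (t i) (t j) = 0)
    (hd : ∀ i, polar ⇑Q (t i) (w i) ≠ 0) (ho : ∀ i j, i ≠ j → polar ⇑Q (t i) (w j) = 0)
    (hinv : ∀ i, e (t i) ∈ Submodule.span F (Set.range t)) :
    ∃ W, TSsub Q (Fintype.card κ) W ∧ Inv e W := by
  refine ⟨Submodule.span F (Set.range t), ⟨?_, fun x hx => ?_⟩, fun x hx => ?_⟩
  · rw [finrank_span_eq_card]
    rw [Fintype.linearIndependent_iff]
    intro c hc i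
    have h0 : polarBilin Q (∑ j, c j • t j) (w i) = 0 := by rw [hc, map_zero, LinearMap.zero_apply]
    rw [map_sum, LinearMap.sum_apply, Finset.sum_eq_single i, map_smul, LinearMap.smul_apply] at h0
    · exact (mul_eq_zero.1 h0).resolve_right (hd i)
    · intro j _ hji
      rw [map_smul, LinearMap.smul_apply, polarBilin_apply_apply, ho j i hji, smul_zero]
    · simp
  · have hperp : ∀ a ∈ Submodule.span F (Set.range t), polarBilin Q a a = 0 := by
      intro a ha
      obtain ⟨c, rfl⟩ := (Submodule.mem_span_range_iff_exists_fun F).1 ha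
      simp [map_sum, hts]
    have h := hperp x hx
    rw [polarBilin_apply_apply, polar_self, two_nsmul, ← two_mul] at h
    exact (mul_eq_zero.1 h).resolve_left h2
  · obtain ⟨c, rfl⟩ := (Submodule.mem_span_range_iff_exists_fun F).1 hx
    rw [map_sum]
    exact Submodule.sum_mem _ fun i _ => by rw [map_smul]; exact Submodule.smul_mem _ _ (hinv i)

/-- Invariant subspaces have square `(-1)^dim`. -/
theorem isSquare_neg_one_pow_of_inv (he : ∀ v, e (e v) = -v) {W : Submodule F V} (hW : Inv e W) :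
    IsSquare ((-1 : F) ^ Module.finrank F W) := by
  let f : W →ₗ[F] W := e.toLinearMap.restrict hW
  have hf : f ∘ₗ f = (-1 : F) • LinearMap.id := LinearMap.ext fun w => Subtype.ext (by
    show e (e (w : V)) = ((-1 : F) • w : W)
    rw [he, neg_one_smul]
    rfl)
  have h := congrArg LinearMap.det hf
  rw [LinearMap.det_comp, LinearMap.det_smul, LinearMap.det_id, mul_one] at h
  exact ⟨LinearMap.det f, h.symm⟩

/-- Totally singular invariant subspaces, when `-1` is a square. -/
theorem ts_of_isSquare (h2 : (2 : F) ≠ 0) (hQ : (polarBilin Q).Nondegenerate) (hQe : ∀ v, Q (e v) = Q v)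
    (he : ∀ v, e (e v) = -v) (hsq : IsSquare (-1 : F)) {m : ℕ} (hm : 2 * m ≤ Module.finrank F V) :
    ∃ W, TSsub Q m W ∧ Inv e W := by
  obtain ⟨s, hs⟩ := hsq
  obtain ⟨j, u, hj, hu, horth, horth', -⟩ := exists_pairs h2 hQe he (one_ne_zero (α := F)) (Module.finrank F V)
    (W := ⊤) (finrank_top F V) (nd_top Q hQ) (fun _ _ => trivial)
  let v : Fin m → V := fun i => u (Fin.castLE (by omega) i)
  have hv : ∀ i i', i ≠ i' → polar ⇑Q (v i) (v i') = 0 := fun i i' h =>
    horth _ _ fun hh => h (Fin.castLE_injective _ hh)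
  have hv' : ∀ i i', polar ⇑Q (v i) (e (v i')) = 0 := fun i i' => horth' _ _
  have hQv : ∀ i, Q (v i) = 1 := fun i => (hu _).2
  have hw : ∀ i i', polar ⇑Q (v i + s • e (v i)) (v i') = polar ⇑Q (v i) (v i') := fun i i' => by
    rw [polar_add_left, polar_smul_left, polar_comm ⇑Q (e (v i)), hv', smul_zero, add_zero]
  have h := ts_span (Q := Q) (e := e) h2 (fun i => v i + s • e (v i)) v (fun i i' => ?_) (fun i => ?_)
    (fun i i' h => by rw [hw]; exact hv i i' h) (fun i => ?_)
  · rwa [Fintype.card_fin] at h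
  · simp only [polar_add_left, polar_add_right, polar_smul_left, polar_smul_right, polar_e hQe, hv',
      (fun a b => (polar_comm ⇑Q (e (v a)) (v b)).trans (hv' b a)), smul_zero, add_zero, zero_add, smul_eq_mul]
    rcases eq_or_ne i i' with rfl | h
    · linear_combination -(polar ⇑Q (v i) (v i)) * hs
    · rw [hv i i' h]; ring
  · rw [hw, polar_self, hQv, two_nsmul, ← two_mul, mul_one]; exact h2
  · refine (show e (v i + s • e (v i)) = (-s) • (v i + s • e (v i)) from ?_) ▸
      Submodule.smul_mem _ _ (Submodule.subset_span ⟨i, rfl⟩)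
    rw [map_add, map_smul, he, smul_add, smul_smul, show -s * s = 1 by linear_combination hs, one_smul,
      smul_neg, neg_smul, add_comm]

/-- Totally singular invariant subspaces of even dimension. -/
theorem ts_even (h2 : (2 : F) ≠ 0) (hQ : (polarBilin Q).Nondegenerate) (hQe : ∀ v, Q (e v) = Q v)
    (he : ∀ v, e (e v) = -v) {k : ℕ} (hk : 4 * k ≤ Module.finrank F V) :
    ∃ W, TSsub Q (2 * k) W ∧ Inv e W := by
  obtain ⟨j, u, hj, hu, horth, horth', -⟩ := exists_pairs h2 hQe he (one_ne_zero (α := F)) (Module.finrank F V)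
    (W := ⊤) (finrank_top F V) (nd_top Q hQ) (fun _ _ => trivial)
  obtain ⟨α, β, hab⟩ := PlusType.exists_sum_eq (F := F) h2 one_ne_zero one_ne_zero (-1 : F)
  let a : Fin k → V := fun i => u ⟨2 * i, by omega⟩
  let b : Fin k → V := fun i => u ⟨2 * i + 1, by omega⟩
  have haa : ∀ i i', i ≠ i' → polar ⇑Q (a i) (a i') = 0 := fun i i' h => horth _ _ fun hh => h (Fin.ext (by
    have := congrArg Fin.val hh; simp at this; omega))
  have hbb : ∀ i i', i ≠ i' → polar ⇑Q (b i) (b i') = 0 := fun i i' h => horth _ _ fun hh => h (Fin.ext (by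
    have := congrArg Fin.val hh; simp at this; omega))
  have hab' : ∀ i i', polar ⇑Q (a i) (b i') = 0 := fun i i' => horth _ _ fun hh => by
    have := congrArg Fin.val hh; simp at this; omega
  have hba : ∀ i i', polar ⇑Q (b i) (a i') = 0 := fun i i' => (polar_comm _ _ _).trans (hab' i' i)
  have hae : ∀ i i', polar ⇑Q (a i) (e (a i')) = 0 ∧ polar ⇑Q (a i) (e (b i')) = 0 ∧
      polar ⇑Q (b i) (e (a i')) = 0 ∧ polar ⇑Q (b i) (e (b i')) = 0 :=
    fun i i' => ⟨horth' _ _, horth' _ _, horth' _ _, horth' _ _⟩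
  let t : Fin k → V := fun i => a i + α • b i + β • e (b i)
  have hta : ∀ i i', polar ⇑Q (t i) (a i') = polar ⇑Q (a i) (a i') ∧ polar ⇑Q (t i) (e (a i')) = 0 := by
    intro i i'
    simp only [t, polar_add_left, polar_smul_left, polar_e hQe, hba, polar_comm ⇑Q (e (b i)) (a i'),
      (hae _ _).2.1, (hae _ _).1, (hae _ _).2.2.1, smul_zero, add_zero, and_self]
  have hea : ∀ i i', polar ⇑Q (e (t i)) (e (a i')) = polar ⇑Q (a i) (a i') ∧ polar ⇑Q (e (t i)) (a i') = 0 :=
    fun i i' => ⟨by rw [polar_e hQe, (hta i i').1], by rw [polar_sqrt_neg hQe he, (hta i i').2, neg_zero]⟩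
  have htt : ∀ i i', polar ⇑Q (t i) (t i') = 0 := by
    intro i i'
    simp only [t, polar_add_left, polar_add_right, polar_smul_left, polar_smul_right, polar_e hQe, hba, hab',
      (fun x y => (polar_comm ⇑Q (e (b x)) (a y)).trans (hae y x).2.1),
      (fun x y => (polar_comm ⇑Q (e (b x)) (b y)).trans (hae y x).2.2.2),
      (hae _ _).2.1, (hae _ _).2.2.2, smul_zero, add_zero, zero_add, smul_eq_mul]
    rcases eq_or_ne i i' with rfl | h
    · simp only [a, b, polar_self, (hu _).2, two_nsmul]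
      linear_combination 2 * hab
    · rw [haa i i' h, hbb i i' h]; ring
  have hte : ∀ i i', polar ⇑Q (t i) (e (t i')) = 0 := by
    intro i i'
    simp only [t, map_add, map_smul, he, polar_add_left, polar_add_right, polar_smul_left, polar_smul_right,
      polar_neg_right, polar_e hQe, hba, hab', (hae _ _).1, (hae _ _).2.1, (hae _ _).2.2.1, (hae _ _).2.2.2,
      (fun x y => (polar_comm ⇑Q (e (b x)) (a y)).trans (hae y x).2.1),
      (fun x y => (polar_comm ⇑Q (e (b x)) (b y)).trans (hae y x).2.2.2),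
      smul_zero, neg_zero, add_zero, zero_add, smul_eq_mul, mul_zero]
    ring
  have hpos : ∀ i, polar ⇑Q (a i) (a i) ≠ 0 := fun i => by
    rw [polar_self, show Q (a i) = 1 from (hu _).2, two_nsmul, ← two_mul, mul_one]; exact h2
  have h := ts_span (Q := Q) (e := e) h2 (Sum.elim t fun i => e (t i)) (Sum.elim a fun i => e (a i))
    (fun x y => by
      rcases x with i | i <;> rcases y with i' | i' <;> simp only [Sum.elim_inl, Sum.elim_inr]
      · exact htt i i'
      · exact hte i i'
      · rw [polar_comm]; exact hte i' i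
      · rw [polar_e hQe]; exact htt i i')
    (fun x => by
      rcases x with i | i <;> simp only [Sum.elim_inl, Sum.elim_inr]
      · rw [(hta i i).1]; exact hpos i
      · rw [(hea i i).1]; exact hpos i)
    (fun x y hxy => by
      rcases x with i | i <;> rcases y with i' | i' <;> simp only [Sum.elim_inl, Sum.elim_inr]
      · rw [(hta i i').1]; exact haa i i' fun h => hxy (by rw [h])
      · exact (hta i i').2
      · exact (hea i i').2
      · rw [(hea i i').1]; exact haa i i' fun h => hxy (by rw [h]))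
    (fun x => by
      rcases x with i | i <;> simp only [Sum.elim_inl, Sum.elim_inr]
      · exact Submodule.subset_span ⟨Sum.inr i, rfl⟩
      · rw [he]; exact Submodule.neg_mem _ (Submodule.subset_span ⟨Sum.inl i, rfl⟩))
  rwa [Fintype.card_sum, Fintype.card_fin, ← two_mul] at h

theorem span_orth' (h2 : (2 : F) ≠ 0) {κ : Type} [Fintype κ] {v : κ → V}
    (hv : ∀ i j, i ≠ j → polar ⇑Q (v i) (v j) = 0) (hv' : ∀ i, Q (v i) ≠ 0) :
    Nd Q (Submodule.span F (Set.range v)) ∧ Module.finrank F (Submodule.span F (Set.range v)) = Fintype.card κ := by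
  have h := span_orth (Q := Q) h2 (v := v ∘ (Fintype.equivFin κ).symm)
    (fun i j hij => hv _ _ fun e => hij ((Fintype.equivFin κ).symm.injective e)) fun i => hv' _
  rwa [Set.range_comp, Set.range_eq_univ.2 (Fintype.equivFin κ).symm.surjective, Set.image_univ] at h

/-- Invariant non-degenerate subspaces. -/
theorem exists_nd_sqrt (h2 : (2 : F) ≠ 0) (hQ : (polarBilin Q).Nondegenerate) (hQe : ∀ v, Q (e v) = Q v)
    (he : ∀ v, e (e v) = -v) {k : ℕ} (hk : 2 * k ≤ Module.finrank F V) :
    ∃ W : Submodule F V, Module.finrank F W = 2 * k ∧ Nd Q W ∧ Inv e W ∧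
      (qsgn (rQ Q W) = 1 ↔ IsSquare ((-1 : F) ^ k)) := by
  obtain ⟨j, u, hj, hu, horth, horth', -⟩ := exists_pairs h2 hQe he (one_ne_zero (α := F)) (Module.finrank F V)
    (W := ⊤) (finrank_top F V) (nd_top Q hQ) (fun _ _ => trivial)
  let a : Fin k → V := fun i => u (Fin.castLE (by omega) i)
  let v : Fin k ⊕ Fin k → V := Sum.elim a fun i => e (a i)
  obtain ⟨hn, hd⟩ := span_orth' (Q := Q) h2 (v := v) (fun x y hxy => by
      rcases x with i | i <;> rcases y with i' | i' <;> simp only [v, Sum.elim_inl, Sum.elim_inr]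
      · exact horth _ _ fun h => hxy (by rw [Fin.castLE_injective _ h])
      · exact horth' _ _
      · rw [polar_comm]; exact horth' _ _
      · rw [polar_e hQe]; exact horth _ _ fun h => hxy (by rw [Fin.castLE_injective _ h]))
    (fun x => by
      rcases x with i | i
      · show Q (a i) ≠ 0
        rw [show Q (a i) = 1 from (hu _).2]; exact one_ne_zero
      · show Q (e (a i)) ≠ 0
        rw [hQe, show Q (a i) = 1 from (hu _).2]; exact one_ne_zero)
  rw [Fintype.card_sum, Fintype.card_fin, ← two_mul] at hd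
  have hi : Inv e (Submodule.span F (Set.range v)) := fun x hx => by
    obtain ⟨c, rfl⟩ := (Submodule.mem_span_range_iff_exists_fun F).1 hx
    rw [map_sum]
    refine Submodule.sum_mem _ fun i _ => ?_
    rw [map_smul]
    refine Submodule.smul_mem _ _ ?_
    rcases i with i | i
    · exact Submodule.subset_span ⟨Sum.inr i, rfl⟩
    · show e (e (a i)) ∈ _
      rw [he]
      exact Submodule.neg_mem _ (Submodule.subset_span ⟨Sum.inl i, rfl⟩)
  obtain ⟨j', -, hj', -, -, -, hs⟩ := exists_pairs h2 hQe he (one_ne_zero (α := F)) _ hd hn hi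
  obtain rfl : j' = k := by omega
  exact ⟨_, hd, hn, hi, hs⟩

end Gen

section Matrix

variable {F : Type u} [Field F] [Fintype F] {ι : Type} [Fintype ι] [DecidableEq ι]
variable {Q : QuadraticForm F (ι → F)}

/-- The product of quarter turns in orthogonal planes. -/
theorem exists_turns (h2 : (2 : F) ≠ 0) (hQ : (polarBilin Q).Nondegenerate) (hn : 2 ≤ Fintype.card ι) {d : ℕ}
    (hd : Fintype.card ι = 2 * d) {u u' : Fin d → ι → F}
    (huu : ∀ i j, i ≠ j → polar ⇑Q (u i) (u j) = 0) (huu' : ∀ i j, i ≠ j → polar ⇑Q (u' i) (u' j) = 0)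
    (hmix : ∀ i j, polar ⇑Q (u i) (u' j) = 0) (hu : ∀ i, Q (u i) = 1) (hu' : ∀ i, Q (u' i) = 1) :
    ∃ g : ↥(Cfsg.isometryGroup F ⇑Q),
      (∀ i, Forms.glEquiv ι F (g : Matrix.GeneralLinearGroup ι F) (u i) = u' i) ∧
      (∀ i, Forms.glEquiv ι F (g : Matrix.GeneralLinearGroup ι F) (u' i) = -u i) ∧
      (∀ v, Forms.glEquiv ι F (g : Matrix.GeneralLinearGroup ι F)
        (Forms.glEquiv ι F (g : Matrix.GeneralLinearGroup ι F) v) = -v) ∧
      (g ∈ Cfsg.Omega F ⇑Q ↔ Even d ∨ IsSquare (2 : F)) ∧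
      ∀ e : (ι → F) ≃ₗ[F] (ι → F), (∀ i, e (u i) = u' i) → (∀ i, e (u' i) = -u i) →
        e = Forms.glEquiv ι F (g : Matrix.GeneralLinearGroup ι F) := by
  have hu0 : ∀ i, Q (u i) ≠ 0 := fun i => by rw [hu]; exact one_ne_zero
  let w : Fin d → ι → F := fun i => u i - u' i
  have hw : ∀ i j, i ≠ j → polar ⇑Q (w i) (w j) = 0 := fun i j h => by
    simp only [w, sub_eq_add_neg, polar_add_left, polar_add_right, polar_neg_left, polar_neg_right, huu i j h,
      huu' i j h, hmix, polar_comm ⇑Q (u' i) (u j), neg_zero, add_zero]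
  have hw2 : ∀ i, Q (w i) = 2 := fun i => by
    simp only [w, sub_eq_add_neg, QuadraticMap.map_add (⇑Q), QuadraticMap.map_neg, polar_neg_right, hu, hu', hmix,
      neg_zero, add_zero]
    norm_num
  have hw0 : ∀ i, Q (w i) ≠ 0 := fun i => by rw [hw2]; exact h2
  obtain ⟨g₁, hg₁v, hg₁fix, -, hg₁χ⟩ := Orth.exists_negate h2 hQ huu hu0
  obtain ⟨g₂, hg₂v, hg₂fix, -, hg₂χ⟩ := Orth.exists_negate h2 hQ hw hw0
  have hsum : ∀ i, Orth.app g₂ (u i + u' i) = u i + u' i := fun i => hg₂fix _ fun j => by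
    simp only [w, sub_eq_add_neg, polar_add_left, polar_add_right, polar_neg_left, hmix,
      polar_comm ⇑Q (u' j) (u i), neg_zero, add_zero, zero_add]
    rcases eq_or_ne j i with rfl | h
    · rw [polar_self, polar_self, hu, hu']; abel
    · rw [huu j i h, huu' j i h]; simp
  have h12 : ∀ i, Orth.app g₂ (u i) = u' i ∧ Orth.app g₂ (u' i) = u i := by
    intro i
    have h1 := hsum i
    have h3 := hg₂v i
    rw [Orth.app_add] at h1
    simp only [w, Orth.app_sub, neg_sub] at h3
    have ha : (2 : F) • Orth.app g₂ (u i) = (2 : F) • u' i := by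
      linear_combination (norm := module) h1 + h3
    have hb : (2 : F) • Orth.app g₂ (u' i) = (2 : F) • u i := by
      linear_combination (norm := module) h1 - h3
    exact ⟨smul_right_injective _ h2 ha, smul_right_injective _ h2 hb⟩
  have hfix1 : ∀ i, Orth.app g₁ (u' i) = u' i := fun i => hg₁fix _ fun j => hmix j i
  refine ⟨g₁ * g₂, ?_⟩
  set e₀ := Forms.glEquiv ι F ((g₁ * g₂ : ↥(Cfsg.isometryGroup F ⇑Q)) : Matrix.GeneralLinearGroup ι F) with he₀
  have happ : ∀ v, e₀ v = Orth.app g₁ (Orth.app g₂ v) := fun v => by rw [← Orth.app_mul]; rfl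
  have he1 : ∀ i, e₀ (u i) = u' i := fun i => by rw [happ, (h12 i).1, hfix1]
  have he2 : ∀ i, e₀ (u' i) = -u i := fun i => by rw [happ, (h12 i).2, hg₁v]
  have hext : ∀ f f' : (ι → F) →ₗ[F] (ι → F), (∀ i, f (u i) = f' (u i)) → (∀ i, f (u' i) = f' (u' i)) → f = f' := by
    intro f f' hf hf'
    have h := span_orth' (Q := Q) h2 (v := Sum.elim u u') (fun x y hxy => by
        rcases x with i | i <;> rcases y with i' | i' <;> simp only [Sum.elim_inl, Sum.elim_inr]
        · exact huu _ _ fun h => hxy (by rw [h])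
        · exact hmix _ _
        · rw [polar_comm]; exact hmix _ _
        · exact huu' _ _ fun h => hxy (by rw [h]))
      (fun x => by rcases x with i | i <;> simp [hu, hu'])
    rw [Fintype.card_sum, Fintype.card_fin, ← two_mul, ← hd, ← Module.finrank_fintype_fun_eq_card F] at h
    refine LinearMap.ext_on (Submodule.eq_top_of_finrank_eq h.2) ?_
    rintro _ ⟨i | i, rfl⟩
    exacts [hf i, hf' i]
  refine ⟨he1, he2, fun v => ?_, ?_, fun e hf hf' => LinearEquiv.toLinearMap_injective
    (hext _ _ (fun i => (hf i).trans (he1 i).symm) fun i => (hf' i).trans (he2 i).symm)⟩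
  · exact LinearMap.congr_fun (hext (e₀.toLinearMap ∘ₗ e₀.toLinearMap) (-LinearMap.id)
      (fun i => by simp [he1, he2]) (fun i => by simp [he1, he2])) v
  · rw [Orth.mem_omega_iff h2 hQ hn]
    have hdet : Orth.detSign Q h2 hQ (g₁ * g₂) = 1 := by
      rw [map_mul, hg₁χ, hg₂χ, Finset.prod_congr rfl fun i _ => Orth.detSign_refl h2 hQ (hu0 i),
        Finset.prod_congr rfl fun i _ => Orth.detSign_refl h2 hQ (hw0 i), ← Finset.prod_mul_distrib]
      simp
    have hspin : Orth.spinor Q (g₁ * g₂) = Similarity.sqSign (2 : F) ^ d := by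
      rw [map_mul, hg₁χ, hg₂χ, Finset.prod_congr rfl fun i _ => Similarity.spinor_refl_eq h2 (hu0 i),
        Finset.prod_congr rfl fun i _ => Similarity.spinor_refl_eq h2 (hw0 i), ← Finset.prod_mul_distrib]
      simp [hu, hw2, Similarity.sqSign_one]
    rw [hdet, hspin, eq_self_iff_true, true_and]
    by_cases hs : IsSquare (2 : F)
    · rw [Similarity.sqSign_eq_one_iff.2 hs, one_pow]
      exact iff_of_true rfl (Or.inr hs)
    · have hneg : Similarity.sqSign (2 : F) = -1 :=
        (Int.units_eq_one_or _).resolve_left fun h => hs (Similarity.sqSign_eq_one_iff.1 h)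
      rw [hneg, neg_one_pow_eq_one_iff_even (R := ℤˣ) (by decide)]
      tauto

/-- An element of `Ω` with square `-1` forces the sign of `Q` and a square condition. -/
theorem sqrt_neg_facts (h2 : (2 : F) ≠ 0) (hQ : (polarBilin Q).Nondegenerate) (hn : 2 ≤ Fintype.card ι)
    {x : Matrix.GeneralLinearGroup ι F} (hx : x ∈ Cfsg.Geo.omegaGL ⇑Q)
    (he : ∀ v, Forms.glEquiv ι F x (Forms.glEquiv ι F x v) = -v) {d : ℕ} (hd : Fintype.card ι = 2 * d) :
    (qsgn Q = 1 ↔ IsSquare ((-1 : F) ^ d)) ∧ (Even d ∨ IsSquare (2 : F)) := by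
  have hQe := isometry_of_mem hx
  obtain ⟨g, hg, rfl⟩ := hx
  set e := Forms.glEquiv ι F ((Cfsg.isometryGroup F ⇑Q).subtype g) with hedef
  obtain ⟨j, u, hj, hu, horth, horth', hs⟩ := exists_pairs h2 hQe he (one_ne_zero (α := F)) (2 * d)
    (W := ⊤) (by rw [finrank_top, Module.finrank_fintype_fun_eq_card, hd]) (nd_top Q hQ) (fun _ _ => trivial)
  obtain rfl : j = d := by omega
  refine ⟨?_, ?_⟩
  · rwa [← qsgn_congr (R := rQ Q ⊤) (T := Q) Submodule.topEquiv fun v => rfl] at hs
  · obtain ⟨g', -, -, -, hiff, huniq⟩ := exists_turns h2 hQ hn hd (u := u) (u' := fun i => e (u i)) horth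
      (fun i k h => by rw [polar_e hQe]; exact horth i k h) horth' (fun i => (hu i).2)
      (fun i => by rw [hQe]; exact (hu i).2)
    have hgg : g = g' := Subtype.ext ((Forms.glEquiv ι F).injective (huniq e (fun i => rfl) fun i => he _))
    rw [← hgg] at hiff
    exact hiff.1 hg

/-- Elements of `Ω` with square `-1`. -/
theorem exists_sqrt_neg (h2 : (2 : F) ≠ 0) (hQ : (polarBilin Q).Nondegenerate) (hn : 2 ≤ Fintype.card ι) {d : ℕ}
    (hd : Fintype.card ι = 2 * d) (hs : qsgn Q = 1 ↔ IsSquare ((-1 : F) ^ d)) (h2d : Even d ∨ IsSquare (2 : F)) :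
    ∃ x : Matrix.GeneralLinearGroup ι F, x ∈ Cfsg.Geo.omegaGL ⇑Q ∧
      ∀ v, Forms.glEquiv ι F x (Forms.glEquiv ι F x v) = -v := by
  obtain ⟨v, hv, hvc⟩ := Orth.exists_orth_family h2 hQ (one_ne_zero (α := F)) (k := 2 * d - 1) (by omega)
  have hv' : ∀ i, Q (v i) ≠ 0 := fun i => by rw [hvc]; exact one_ne_zero
  obtain ⟨hS, hSd⟩ := span_orth h2 hv hv'
  obtain ⟨z, hzS, hz⟩ := exists_aniso_mem h2 (nd_qperp Q hQ hS)
    (by have := finrank_qperp Q hS; rw [Module.finrank_fintype_fun_eq_card] at this; omega)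
  have hzv : ∀ i, polar ⇑Q (v i) z = 0 := fun i => (mem_qperp Q).1 hzS _ (Submodule.subset_span ⟨i, rfl⟩)
  -- all of the family, the last value still free
  let w : Fin (2 * d) → ι → F := fun i => if h : (i : ℕ) < 2 * d - 1 then v ⟨i, h⟩ else z
  have hw : ∀ i k, i ≠ k → polar ⇑Q (w i) (w k) = 0 := by
    intro i k hik
    simp only [w]
    split_ifs with h1 h3 h3
    · exact hv _ _ fun e => hik (Fin.ext (by simpa using congrArg Fin.val e))
    · exact hzv _
    · rw [polar_comm]; exact hzv _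
    · exact absurd (Fin.ext (by omega)) hik
  have hw' : ∀ i, Q (w i) ≠ 0 := fun i => by simp only [w]; split_ifs <;> [exact hv' _; exact hz]
  have hprod : ∏ i, Q (w i) = Q z := by
    rw [Finset.prod_eq_single ⟨2 * d - 1, by omega⟩]
    · simp [w]
    · intro b _ hb
      have hlt : (b : ℕ) < 2 * d - 1 := by
        have := b.2
        by_contra h
        exact hb (Fin.ext (show (b : ℕ) = 2 * d - 1 by omega))
      simp [w, hlt, hvc]
    · simp
  obtain ⟨t, ht⟩ : IsSquare (Q z) := by
    have h := qsgn_orth h2 hw hw'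
    have htop : Submodule.span F (Set.range w) = ⊤ := Submodule.eq_top_of_finrank_eq (by
      rw [(span_orth h2 hw hw').2, Module.finrank_fintype_fun_eq_card, hd])
    rw [htop, ← qsgn_congr (R := rQ Q ⊤) (T := Q) Submodule.topEquiv fun v => rfl, hprod,
      isSquare_mul_iff h2 (pow_ne_zero _ (neg_ne_zero.2 one_ne_zero)) hz, hs] at h
    tauto
  have ht0 : t ≠ 0 := fun h => hz (by rw [ht, h, mul_zero])
  let w₁ : Fin (2 * d) → ι → F := fun i => if (i : ℕ) < 2 * d - 1 then w i else t⁻¹ • w i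
  have hw1 : ∀ i, Q (w₁ i) = 1 := fun i => by
    simp only [w₁]
    split_ifs with h
    · simp [w, h, hvc]
    · simp only [w, dif_neg h]
      rw [QuadraticMap.map_smul, ht, smul_eq_mul]
      field_simp
  have hw1o : ∀ i k, i ≠ k → polar ⇑Q (w₁ i) (w₁ k) = 0 := fun i k h => by
    simp only [w₁]
    split_ifs <;> simp [polar_smul_left, polar_smul_right, hw i k h]
  obtain ⟨g, -, -, hsq, hiff, -⟩ := exists_turns h2 hQ hn hd
    (u := fun i : Fin d => w₁ ⟨2 * i, by omega⟩) (u' := fun i : Fin d => w₁ ⟨2 * i + 1, by omega⟩)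
    (fun i k h => hw1o _ _ fun e => h (Fin.ext (by have := congrArg Fin.val e; simp at this; omega)))
    (fun i k h => hw1o _ _ fun e => h (Fin.ext (by have := congrArg Fin.val e; simp at this; omega)))
    (fun i k => hw1o _ _ fun e => by have := congrArg Fin.val e; simp at this; omega)
    (fun i => hw1 _) (fun i => hw1 _)
  exact ⟨g, ⟨g, hiff.2 h2d, rfl⟩, hsq⟩

end Matrix

end Cfsg.Agent.Lib.OrthPrime
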