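import Mathlib
import Cfsg.Agent.Lib.OrthPrime.Fix

/-!
The number of totally singular `m`-spaces is `1` modulo the characteristic, for `2m` less than the dimension.
-/

set_option autoImplicit false
set_option linter.unusedSectionVars false

namespace Cfsg.Agent.Lib.OrthPrime

open QuadraticMap
open scoped _root_.Classical

universe u

variable {F : Type u} [Field F] [Fintype F] {V : Type u} [AddCommGroup V] [Module F V] [FiniteDimensional F V]
variable {Q : QuadraticForm F V}

/-- An Eichler transformation as a map. -/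
def eichMap (Q : QuadraticForm F V) (v a : V) (x : V) : V :=
  x + polar ⇑Q x v • a - (polar ⇑Q x a + Q a * polar ⇑Q x v) • v

theorem eichMap_zero (v x : V) : eichMap Q v 0 x = x := by
  simp [eichMap, polar]

theorem eichMap_add {v a b : V} (hv : Q v = 0) (ha : polar ⇑Q a v = 0) (hb : polar ⇑Q b v = 0) (x : V) :
    eichMap Q v (a + b) x = eichMap Q v a (eichMap Q v b x) := by
  have hvv : polar ⇑Q v v = 0 := by rw [polar_self, hv, smul_zero]
  have h1 : polar ⇑Q (eichMap Q v b x) v = polar ⇑Q x v := by
    simp only [eichMap, sub_eq_add_neg, polar_add_left, polar_neg_left, polar_smul_left, hb, hvv, smul_zero,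
      neg_zero, add_zero]
  have h2 : polar ⇑Q (eichMap Q v b x) a = polar ⇑Q x a + polar ⇑Q x v * polar ⇑Q b a := by
    simp only [eichMap, sub_eq_add_neg, polar_add_left, polar_neg_left, polar_smul_left,
      (polar_comm ⇑Q v a).trans ha, smul_zero, neg_zero, add_zero, smul_eq_mul, mul_zero]
  show x + polar ⇑Q x v • (a + b) - _ • v = eichMap Q v b x + polar ⇑Q (eichMap Q v b x) v • a - _ • v
  rw [h1, h2]
  simp only [eichMap, QuadraticMap.map_add (⇑Q), polar_add_right, smul_add, polar_comm ⇑Q b a]
  module

theorem eichMap_map {v a : V} (hv : Q v = 0) (ha : polar ⇑Q a v = 0) (x : V) : Q (eichMap Q v a x) = Q x := by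
  unfold eichMap
  rw [sub_eq_add_neg, ← neg_smul, QuadraticMap.map_add (⇑Q), QuadraticMap.map_add (⇑Q), QuadraticMap.map_smul,
    QuadraticMap.map_smul, hv, polar_add_left, polar_smul_right, polar_smul_right, polar_smul_right, polar_smul_left,
    ha]
  simp only [smul_eq_mul]
  ring

theorem eichMap_lin (v a x y : V) (c : F) :
    eichMap Q v a (c • x + y) = c • eichMap Q v a x + eichMap Q v a y := by
  simp only [eichMap, polar_add_left, polar_smul_left, smul_eq_mul]
  module

theorem ts_polar_zero {W : Submodule F V} (hW : ∀ w ∈ W, Q w = 0) {x y : V} (hx : x ∈ W) (hy : y ∈ W) :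
    polar ⇑Q x y = 0 := by
  simp [polar, hW _ hx, hW _ hy, hW _ (W.add_mem hx hy)]

/-- A hyperbolic pair. -/
theorem exists_hyp_pair (hQ : (polarBilin Q).Nondegenerate) {v : V} (hv0 : v ≠ 0) (hv : Q v = 0) :
    ∃ u, Q u = 0 ∧ polar ⇑Q v u = 1 := by
  obtain ⟨u, hu⟩ : ∃ u, polar ⇑Q v u ≠ 0 := by
    by_contra h
    push Not at h
    exact hv0 (hQ.1 v h)
  refine ⟨(polar ⇑Q v u)⁻¹ • u - ((polar ⇑Q v u)⁻¹ * (polar ⇑Q v u)⁻¹ * Q u) • v, ?_, ?_⟩
  · rw [sub_eq_add_neg, ← neg_smul, QuadraticMap.map_add (⇑Q), QuadraticMap.map_smul, QuadraticMap.map_smul, hv,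
      polar_smul_right, polar_smul_left, polar_comm ⇑Q u v]
    simp only [smul_eq_mul]
    field_simp
    ring
  · rw [sub_eq_add_neg, ← neg_smul, polar_add_right, polar_smul_right, polar_smul_right, polar_self, hv]
    simp [inv_mul_cancel₀ hu]

/-- Splitting off a hyperbolic plane. -/
theorem exists_plane (hQ : (polarBilin Q).Nondegenerate) {v : V} (hv0 : v ≠ 0) (hv : Q v = 0) :
    ∃ (u : V) (H : Submodule F V), Q u = 0 ∧ polar ⇑Q v u = 1 ∧ Nd Q H ∧ Module.finrank F H = 2 ∧
      qsgn (rQ Q H) = 1 ∧ v ∈ H ∧ u ∈ H ∧ ∀ x ∈ H, ∃ α γ : F, x = α • v + γ • u := by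
  obtain ⟨u, hu, hvu⟩ := exists_hyp_pair hQ hv0 hv
  have hmem : ∀ x ∈ (F ∙ v) ⊔ (F ∙ u), ∃ α γ : F, x = α • v + γ • u := by
    intro x hx
    obtain ⟨y, hy, z, hz, rfl⟩ := Submodule.mem_sup.1 hx
    obtain ⟨α, rfl⟩ := Submodule.mem_span_singleton.1 hy
    obtain ⟨γ, rfl⟩ := Submodule.mem_span_singleton.1 hz
    exact ⟨α, γ, rfl⟩
  have hvm : v ∈ (F ∙ v) ⊔ (F ∙ u) := Submodule.mem_sup_left (Submodule.mem_span_singleton_self v)
  have hum : u ∈ (F ∙ v) ⊔ (F ∙ u) := Submodule.mem_sup_right (Submodule.mem_span_singleton_self u)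
  have hnd : Nd Q ((F ∙ v) ⊔ (F ∙ u)) := by
    intro x hx h
    obtain ⟨α, γ, rfl⟩ := hmem x hx
    have h1 := h v hvm
    have h2 := h u hum
    simp only [polar_add_left, polar_smul_left, polar_self, hv, hu, polar_comm ⇑Q u v, hvu, smul_zero,
      smul_eq_mul, mul_one, mul_zero, add_zero, zero_add] at h1 h2
    rw [h1, h2, zero_smul, zero_smul, add_zero]
  have hu0 : u ≠ 0 := fun h => one_ne_zero (α := F) (by rw [← hvu, h, polar_zero_right])
  have hdim : Module.finrank F ↥((F ∙ v) ⊔ (F ∙ u)) = 2 := by
    rw [finrank_sup_of_disjoint, finrank_span_singleton hv0, finrank_span_singleton hu0]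
    rw [eq_bot_iff]
    rintro x ⟨hx1, hx2⟩
    obtain ⟨α, rfl⟩ := Submodule.mem_span_singleton.1 hx1
    obtain ⟨γ, hγ⟩ := Submodule.mem_span_singleton.1 hx2
    have h := congrArg (fun y => polar ⇑Q v y) hγ
    simp only [polar_smul_right, polar_self, hv, hvu, smul_zero, smul_eq_mul, mul_one, mul_zero] at h
    rw [← hγ, h, zero_smul]
    exact zero_mem _
  refine ⟨u, _, hu, hvu, hnd, hdim, ?_, hvm, hum, hmem⟩
  rw [qsgn_eq_one_iff, isHyp_rQ_iff]
  refine ⟨F ∙ v, le_sup_left, fun x hx => ?_, by rw [finrank_span_singleton hv0, hdim]⟩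
  obtain ⟨α, rfl⟩ := Submodule.mem_span_singleton.1 hx
  rw [QuadraticMap.map_smul, hv, smul_zero]

theorem wIdx_qperp_plane (hQ : (polarBilin Q).Nondegenerate) {H : Submodule F V} (hH : Nd Q H)
    (hd : Module.finrank F H = 2) (hs : qsgn (rQ Q H) = 1) {m : ℕ} (hm : m + 1 ≤ wIdx Q) :
    m ≤ wIdx (rQ Q (qperp Q H)) := by
  have hsum := finrank_qperp Q hH
  unfold wIdx at hm ⊢
  rcases Nat.even_or_odd (Module.finrank F V) with ⟨k, hk⟩ | hod
  · have h := qsgn_split Q hQ hH (k := 1) (l := k - 1) (by omega) (by omega)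
    rw [hs, one_mul] at h
    by_cases hh : FormConj.IsHyp Q
    · rw [if_pos (Or.inr hh)] at hm
      rw [if_pos (Or.inr ((qsgn_eq_one_iff _).1 (h.symm.trans ((qsgn_eq_one_iff Q).2 hh))))]
      omega
    · rw [if_neg (by rintro (h' | h'); exacts [Nat.not_odd_iff_even.2 ⟨k, hk⟩ h', hh h'])] at hm
      split_ifs <;> omega
  · obtain ⟨k, hk⟩ := hod
    rw [if_pos (Or.inl ⟨k - 1, by omega⟩)]
    split_ifs at hm <;> omega

/-- The count is `1` modulo `p`. -/
theorem card_ts_modEq_one (p : ℕ) [Fact p.Prime] [CharP F p] : ∀ (m : ℕ) {V : Type u} [AddCommGroup V] [Module F V]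
    [FiniteDimensional F V] (Q : QuadraticForm F V), (polarBilin Q).Nondegenerate →
    (Odd (Module.finrank F V) → (2 : F) ≠ 0) → m ≤ wIdx Q → 2 * m < Module.finrank F V →
    Nat.card {W : Submodule F V // TSsub Q m W} ≡ 1 [MOD p]
  | 0, V, _, _, _, Q, _, _, _, _ => by
    have h : Nat.card {W : Submodule F V // TSsub Q 0 W} = 1 := Nat.card_eq_one_iff_unique.2
      ⟨⟨fun W W' => Subtype.ext ((Submodule.finrank_eq_zero.1 W.2.1).trans (Submodule.finrank_eq_zero.1 W'.2.1).symm)⟩,
        ⟨⟨⊥, finrank_bot F V, fun w hw => by simp [(Submodule.mem_bot F).1 hw]⟩⟩⟩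
    rw [h]
  | m + 1, V, _, _, _, Q, hQ, h2, hm, hn => by
    haveI : Finite V := Module.finite_of_finite F
    obtain ⟨U₀, hU₀, hU₀d⟩ := exists_ts_sub hQ h2 (j := 1) (by omega)
    obtain ⟨v, hvU, hv0⟩ : ∃ v ∈ U₀, v ≠ 0 := Submodule.exists_mem_ne_zero_of_ne_bot (fun h => by
      rw [h, finrank_bot] at hU₀d; omega)
    have hv := hU₀ v hvU
    obtain ⟨u, H, hu, hvu, hH, hHd, hHs, hvH, huH, hHmem⟩ := exists_plane hQ hv0 hv
    set V' := qperp Q H
    have hV' := nd_qperp Q hQ hH
    have hsum : 2 + Module.finrank F V' = Module.finrank F V := hHd ▸ finrank_qperp Q hH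
    have hvperp : ∀ a : V', polar ⇑Q (a : V) v = 0 := fun a => by
      rw [polar_comm]; exact (mem_qperp Q).1 a.2 v hvH
    let X := {W : Submodule F V // TSsub Q (m + 1) W}
    -- the action
    let T : V' → (V ≃ₗ[F] V) := fun a =>
      LinearEquiv.ofLinear
        { toFun := eichMap Q v a
          map_add' := fun x y => by simpa using eichMap_lin (Q := Q) v a x y 1
          map_smul' := fun c x => by
            have h0 : eichMap Q v a 0 = 0 := by simp [eichMap, polar]
            simpa [h0] using eichMap_lin (Q := Q) v a x 0 c }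
        { toFun := eichMap Q v (-a : V')
          map_add' := fun x y => by simpa using eichMap_lin (Q := Q) v (-a : V') x y 1
          map_smul' := fun c x => by
            have h0 : eichMap Q v (-a : V') 0 = 0 := by simp [eichMap, polar]
            show eichMap Q v (-a : V') (c • x) = c • eichMap Q v (-a : V') x
            have h := eichMap_lin (Q := Q) v (-a : V') x 0 c
            rwa [h0, add_zero, add_zero] at h }
        (LinearMap.ext fun x => by
          show eichMap Q v a (eichMap Q v (-a : V') x) = x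
          rw [← eichMap_add hv (hvperp a) (hvperp (-a)), ← Submodule.coe_add, add_neg_cancel, Submodule.coe_zero,
            eichMap_zero])
        (LinearMap.ext fun x => by
          show eichMap Q v (-a : V') (eichMap Q v a x) = x
          rw [← eichMap_add hv (hvperp (-a)) (hvperp a), ← Submodule.coe_add, neg_add_cancel, Submodule.coe_zero,
            eichMap_zero])
    have hT : ∀ a x, T a x = eichMap Q v a x := fun a x => rfl
    letI : MulAction (Multiplicative V') X :=
      { smul := fun a W => ⟨W.1.map (T a.toAdd).toLinearMap, by rw [LinearEquiv.finrank_map_eq, W.2.1], by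
          rintro _ ⟨w, hw, rfl⟩
          show Q (T a.toAdd w) = 0
          rw [hT, eichMap_map hv (hvperp _), W.2.2 w hw]⟩
        one_smul := fun W => Subtype.ext (by
          show W.1.map (T (Multiplicative.toAdd 1)).toLinearMap = W.1
          rw [show (T (Multiplicative.toAdd (1 : Multiplicative V'))).toLinearMap = LinearMap.id from
            LinearMap.ext fun x => eichMap_zero v x]
          exact Submodule.map_id _)
        mul_smul := fun a b W => Subtype.ext (by
          show W.1.map (T (a * b).toAdd).toLinearMap = (W.1.map (T b.toAdd).toLinearMap).map (T a.toAdd).toLinearMap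
          rw [← Submodule.map_comp]
          exact congrArg (fun f : V →ₗ[F] V => W.1.map f)
            (LinearMap.ext fun x => eichMap_add hv (hvperp _) (hvperp _) x)) }
    have hP : IsPGroup p (Multiplicative V') := by
      obtain ⟨k, -, hk⟩ := FiniteField.card F p
      refine IsPGroup.of_card (n := k * Module.finrank F V') ?_
      rw [show Nat.card (Multiplicative V') = Nat.card V' from Nat.card_congr Multiplicative.toAdd,
        Module.natCard_eq_pow_finrank (K := F), Nat.card_eq_fintype_card, hk, ← pow_mul]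
    refine (hP.card_modEq_card_fixedPoints X).trans ?_
    have hfix : ∀ W : X, W ∈ MulAction.fixedPoints (Multiplicative V') X ↔ v ∈ W.1 := by
      intro W
      constructor
      · intro hW
        have hinv : ∀ (a : V') (w : V), w ∈ W.1 → eichMap Q v a w ∈ W.1 := fun a w hw => by
          have h := congrArg Subtype.val (hW (Multiplicative.ofAdd a))
          exact h.le ⟨w, hw, rfl⟩
        have hperp : ∀ w ∈ W.1, polar ⇑Q w v = 0 := by
          intro w hw
          by_contra hβ
          have hall : ∀ a : V', Q (a : V) = 0 := by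
            intro a
            have hD : eichMap Q v a w - w ∈ W.1 := sub_mem (hinv a w hw) hw
            have h0 := W.2.2 _ hD
            have hD' : eichMap Q v a w - w =
                polar ⇑Q w v • (a : V) + (-(polar ⇑Q w a + Q a * polar ⇑Q w v)) • v := by
              simp only [eichMap]; module
            rw [hD', QuadraticMap.map_add (⇑Q), QuadraticMap.map_smul, QuadraticMap.map_smul, hv, polar_smul_left,
              polar_smul_right, hvperp a] at h0
            simp only [smul_eq_mul, mul_zero, add_zero] at h0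
            exact (mul_eq_zero.1 h0).resolve_left (mul_ne_zero hβ hβ)
          have hbot : ∀ a : V', a = 0 := fun a => ((nd_iff Q V').2 hV').1 a fun b => by
            rw [polarBilin_apply_apply, polar_rQ]
            have hab : Q ((a : V) + (b : V)) = 0 := hall (a + b)
            simp [polar, hall a, hall b, hab]
          have : Module.finrank F V' = 0 := by
            haveI : Subsingleton V' := ⟨fun a b => (hbot a).trans (hbot b).symm⟩
            exact Module.finrank_zero_of_subsingleton
          omega
        by_contra hvW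
        have hle : W.1 ≤ F ∙ v := by
          intro w hw
          have hw0 : ∀ a : V', polar ⇑Q w a = 0 := by
            intro a
            by_contra hne
            have h1 : polar ⇑Q w a • v ∈ W.1 := by
              have := sub_mem hw (hinv a w hw)
              simp only [eichMap, hperp w hw, zero_smul, add_zero, mul_zero] at this
              simpa using this
            exact hvW ((Submodule.smul_mem_iff _ hne).1 h1)
          obtain ⟨h, hh, b, hb, rfl⟩ :=
            Submodule.mem_sup.1 ((isCompl_qperp Q hH).sup_eq_top ▸ Submodule.mem_top : w ∈ H ⊔ V')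
          obtain ⟨α, γ, rfl⟩ := hHmem h hh
          have hb0 : b = 0 := congrArg Subtype.val (((nd_iff Q V').2 hV').1 ⟨b, hb⟩ fun a => by
            rw [polarBilin_apply_apply, polar_rQ]
            have := hw0 a
            rwa [polar_add_left, (mem_qperp Q).1 a.2 _ hh, zero_add] at this)
          subst hb0
          have hγ := hperp _ hw
          simp only [polar_add_left, polar_smul_left, polar_self, hv, polar_comm ⇑Q u v, hvu, polar_zero_left,
            smul_zero, zero_add, add_zero, smul_eq_mul, mul_one, mul_zero] at hγ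
          rw [hγ, zero_smul, add_zero, add_zero]
          exact Submodule.smul_mem _ _ (Submodule.mem_span_singleton_self v)
        have heq : W.1 = F ∙ v := Submodule.eq_of_le_of_finrank_le hle (by
          rw [finrank_span_singleton hv0, W.2.1]; omega)
        exact hvW (heq ▸ Submodule.mem_span_singleton_self v)
      · intro hvW a
        refine Subtype.ext (Submodule.eq_of_le_of_finrank_eq ?_ (LinearEquiv.finrank_map_eq _ _))
        rintro _ ⟨w, hw, rfl⟩
        show eichMap Q v (a.toAdd : V) w ∈ W.1
        rw [eichMap, ts_polar_zero W.2.2 hw hvW, zero_smul, add_zero]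
        exact sub_mem hw (W.1.smul_mem _ hvW)
    have hequiv : Nat.card (MulAction.fixedPoints (Multiplicative V') X) =
        Nat.card {U : Submodule F V' // TSsub (rQ Q V') m U} := by
      have hdisj : ∀ U : Submodule F V', (F ∙ v) ⊓ U.map V'.subtype = ⊥ := fun U => eq_bot_iff.2
        (le_trans (inf_le_inf ((Submodule.span_singleton_le_iff_mem _ _).2 hvH) (Submodule.map_subtype_le _ _))
          (isCompl_qperp Q hH).inf_eq_bot.le)
      have hsplit : ∀ W : Submodule F V, (∀ w ∈ W, Q w = 0) → v ∈ W →
          W = (F ∙ v) ⊔ (W.comap V'.subtype).map V'.subtype := by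
        intro W hW hvW
        refine le_antisymm (fun w hw => ?_) (sup_le ((Submodule.span_singleton_le_iff_mem _ _).2 hvW)
          (Submodule.map_comap_le _ _))
        obtain ⟨h, hh, b, hb, rfl⟩ :=
          Submodule.mem_sup.1 ((isCompl_qperp Q hH).sup_eq_top ▸ Submodule.mem_top : w ∈ H ⊔ V')
        obtain ⟨α, γ, rfl⟩ := hHmem h hh
        have hγ := ts_polar_zero hW hw hvW
        simp only [polar_add_left, polar_smul_left, polar_self, hv, polar_comm ⇑Q u v, hvu, hvperp ⟨b, hb⟩,
          smul_zero, zero_add, add_zero, smul_eq_mul, mul_one, mul_zero] at hγ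
        subst hγ
        rw [zero_smul, add_zero] at hw ⊢
        refine Submodule.add_mem_sup (Submodule.smul_mem _ _ (Submodule.mem_span_singleton_self v))
          ⟨⟨b, hb⟩, ?_, rfl⟩
        show b ∈ W
        simpa using sub_mem hw (W.smul_mem α hvW)
      refine Nat.card_congr
        { toFun := fun W => ⟨W.1.1.comap V'.subtype, ?_, fun x hx => W.1.2.2 _ hx⟩
          invFun := fun U => ⟨⟨(F ∙ v) ⊔ U.1.map V'.subtype, ?_, ?_⟩, (hfix _).2 (Submodule.mem_sup_left
            (Submodule.mem_span_singleton_self v))⟩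
          left_inv := fun W => Subtype.ext (Subtype.ext (hsplit _ W.1.2.2 ((hfix _).1 W.2)).symm)
          right_inv := fun U => Subtype.ext ?_ }
      · have h := finrank_sup_of_disjoint (hdisj (W.1.1.comap V'.subtype))
        rw [← hsplit _ W.1.2.2 ((hfix _).1 W.2), W.1.2.1, finrank_span_singleton hv0,
          finrank_map_eq' _ V'.injective_subtype] at h
        omega
      · rw [finrank_sup_of_disjoint (hdisj _), finrank_span_singleton hv0, finrank_map_eq' _ V'.injective_subtype,
          U.2.1]
        omega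
      · refine ts_sup (fun x hx => ?_) ?_ fun x hx y hy => ?_
        · obtain ⟨α, rfl⟩ := Submodule.mem_span_singleton.1 hx
          rw [QuadraticMap.map_smul, hv, smul_zero]
        · rintro _ ⟨x, hx, rfl⟩
          exact U.2.2 x hx
        · obtain ⟨α, rfl⟩ := Submodule.mem_span_singleton.1 hx
          rw [polar_smul_left, (mem_qperp Q).1 (Submodule.map_subtype_le _ _ hy) v hvH, smul_zero]
      · ext x
        constructor
        · intro hx
          obtain ⟨y, hy, z, ⟨z', hz', rfl⟩, hyz⟩ := Submodule.mem_sup.1 hx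
          obtain ⟨α, rfl⟩ := Submodule.mem_span_singleton.1 hy
          have hmem : α • v ∈ H ⊓ V' := ⟨H.smul_mem _ hvH, by
            have := sub_mem x.2 z'.2
            rwa [show (α • v : V) = (x : V) - z' by rw [eq_sub_iff_add_eq]; exact hyz]⟩
          rw [(isCompl_qperp Q hH).inf_eq_bot, Submodule.mem_bot] at hmem
          rw [hmem, zero_add] at hyz
          rwa [← Subtype.ext hyz]
        · exact fun hx => Submodule.mem_sup_right ⟨x, hx, rfl⟩
    rw [hequiv]
    exact card_ts_modEq_one p m (rQ Q V') ((nd_iff Q V').2 hV') (fun ho => h2 (by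
      obtain ⟨k, hk⟩ := ho; exact ⟨k + 1, by omega⟩)) (wIdx_qperp_plane hQ hH hHd hHs hm) (by omega)

theorem not_dvd_card_ts {p : ℕ} [Fact p.Prime] [CharP F p] (hQ : (polarBilin Q).Nondegenerate)
    (h2 : Odd (Module.finrank F V) → (2 : F) ≠ 0) {m : ℕ} (hm : m ≤ wIdx Q) (hn : 2 * m < Module.finrank F V) :
    ¬ p ∣ Nat.card {W : Submodule F V // TSsub Q m W} := fun hd =>
  (Fact.out : p.Prime).ne_one (Nat.eq_one_of_dvd_one
    (Nat.modEq_zero_iff_dvd.1 ((card_ts_modEq_one p m Q hQ h2 hm hn).symm.trans (Nat.modEq_zero_iff_dvd.2 hd))))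

end Cfsg.Agent.Lib.OrthPrime
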