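import Mathlib
import Cfsg.Agent.Lib.OrthPrime.SqrtNeg
import Cfsg.Agent.Lib.OrthPrime.InvolEven
import Cfsg.Agent.Lib.OrthPrime.TSCount
import Cfsg.Agent.Lib.OrthPrime.Criteria

/-!
Elements of order two modulo scalars, and square classes of `-1` and `2`.
-/

set_option autoImplicit false
set_option linter.unusedSectionVars false

namespace Cfsg.Agent.Lib.OrthPrime

open QuadraticMap
open scoped _root_.Classical

universe u

variable {F : Type u} [Field F] [Fintype F] {ι : Type} [Fintype ι] [DecidableEq ι]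
variable {Q : QuadraticForm F (ι → F)} {q : ℕ}

theorem two_ne_zero_of_odd (hq : Fintype.card F = q) (hodd : Odd q) : (2 : F) ≠ 0 := fun h => by
  haveI : CharP F 2 := CharTwo.of_one_ne_zero_of_two_eq_zero one_ne_zero h
  obtain ⟨k, -, hk⟩ := FiniteField.card F 2
  rw [← hq, hk, Nat.odd_pow_iff k.ne_zero] at hodd
  exact absurd hodd (by decide)

theorem odd_of_char_ne_two {p : ℕ} [Fact p.Prime] [CharP F p] (hq : Fintype.card F = q) (hp : p ≠ 2) : Odd q := by
  obtain ⟨k, -, hk⟩ := FiniteField.card F p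
  rw [← hq, hk]
  exact ((Fact.out : p.Prime).odd_of_ne_two hp).pow

theorem char_ne_two_of_odd {p : ℕ} [Fact p.Prime] [CharP F p] (hq : Fintype.card F = q) (hodd : Odd q) : p ≠ 2 := by
  rintro rfl
  exact two_ne_zero_of_odd (F := F) hq hodd (by exact_mod_cast CharP.cast_eq_zero F 2)

theorem q_mod_eight (hodd : Odd q) : q % 8 = 1 ∨ q % 8 = 3 ∨ q % 8 = 5 ∨ q % 8 = 7 := by
  obtain ⟨k, rfl⟩ := hodd; omega

theorem isSquare_two_iff' (hq : Fintype.card F = q) (hodd : Odd q) :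
    IsSquare (2 : F) ↔ q % 8 = 1 ∨ q % 8 = 7 := by
  rw [FiniteField.isSquare_two_iff, hq]
  have := q_mod_eight hodd
  omega

theorem isSquare_neg_pow_iff (hq : Fintype.card F = q) (hodd : Odd q) (k : ℕ) :
    IsSquare ((-1 : F) ^ k) ↔ k % 2 = 0 ∨ q % 4 = 1 := by
  have := q_mod_eight hodd
  rcases Nat.even_or_odd k with hk | hk
  · rw [hk.neg_one_pow]
    exact iff_of_true IsSquare.one (Or.inl (Nat.even_iff.1 hk))
  · rw [hk.neg_one_pow, FiniteField.isSquare_neg_one_iff, hq]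
    rw [Nat.odd_iff] at hk
    omega

/-- The negated space of an element of `Ω` of order two. -/
theorem movS_facts (h2 : (2 : F) ≠ 0) (hQ : (polarBilin Q).Nondegenerate) (hn : 2 ≤ Fintype.card ι)
    {x : Matrix.GeneralLinearGroup ι F} (hx : x ∈ Cfsg.Geo.omegaGL ⇑Q)
    (he : Forms.glEquiv ι F x ^ 2 = 1) :
    ∃ b, Module.finrank F (movS (Forms.glEquiv ι F x)) = 2 * b ∧
      (qsgn (rQ Q (movS (Forms.glEquiv ι F x))) = 1 ↔ IsSquare ((-1 : F) ^ b)) := by
  obtain ⟨g, hg, rfl⟩ := hx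
  exact (mem_omega_involution_iff h2 hQ hn g he).1 hg

/-- The two kinds of elements of `Ω` with scalar square. -/
theorem two_cases (hQ : (polarBilin Q).Nondegenerate) (hn : 2 ≤ Fintype.card ι)
    {x : Matrix.GeneralLinearGroup ι F} (hx : x ∈ Cfsg.Geo.omegaGL ⇑Q) {z : F}
    (hz : ((x ^ 2 : Matrix.GeneralLinearGroup ι F) : Matrix ι ι F) = z • 1) :
    Forms.glEquiv ι F x ^ 2 = 1 ∨ ∀ v, Forms.glEquiv ι F x (Forms.glEquiv ι F x v) = -v := by
  rw [eq_smul_one_iff, map_pow] at hz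
  have hiso := isometry_of_mem hx
  set f := Forms.glEquiv ι F x
  obtain ⟨v, hv⟩ := exists_anisotropic hQ (by omega)
  have hff : ∀ w, f (f w) = z • w := fun w => by simpa [pow_two] using hz w
  have hz2 : z * z = 1 := by
    have h := hiso (f v)
    rw [hff, QuadraticMap.map_smul, smul_eq_mul, hiso] at h
    exact mul_eq_right₀ hv |>.1 h
  rcases mul_self_eq_one_iff.1 hz2 with rfl | rfl
  · exact Or.inl (LinearEquiv.ext fun w => by rw [hz, one_smul]; rfl)
  · exact Or.inr fun w => by rw [hff, neg_one_smul]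

/-- The signs of the two eigenspaces multiply to the sign of the form. -/
theorem qsgn_fix_mov (hQ : (polarBilin Q).Nondegenerate) (h2 : (2 : F) ≠ 0) {e : (ι → F) ≃ₗ[F] (ι → F)}
    (hQe : ∀ v, Q (e v) = Q v) (he : e ^ 2 = 1) {a b : ℕ} (ha : Module.finrank F (fixS e) = 2 * a)
    (hb : Module.finrank F (movS e) = 2 * b) :
    qsgn (rQ Q (fixS e)) * qsgn (rQ Q (movS e)) = qsgn Q := by
  have hr0 : ((2 : ℕ) : F) ≠ 0 := by simpa using h2
  obtain ⟨hC, hD, -⟩ := qperp_fixS hQe he hr0 hQ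
  obtain ⟨-, -, hs⟩ := nd_sup_sign hC hD
    (fun x hx => (mem_qperp Q).2 fun y hy => fixS_perp_movS hQe hy hx) ha hb
  rw [← hs, (isCompl_fixS_movS he hr0).sup_eq_top]
  exact (qsgn_congr (R := rQ Q ⊤) (T := Q) Submodule.topEquiv fun v => rfl).symm

theorem wIdx_odd {X : Type u} [AddCommGroup X] [Module F X] (R : QuadraticForm F X) {a : ℕ}
    (h : Module.finrank F X = 2 * a + 1) : wIdx R = a := by
  rw [wIdx, if_pos (Or.inl ⟨a, h⟩)]; omega

theorem wIdx_even {X : Type u} [AddCommGroup X] [Module F X] (R : QuadraticForm F X) {a : ℕ}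
    (h : Module.finrank F X = 2 * a) : wIdx R = if qsgn R = 1 then a else a - 1 := by
  have hno : ¬ Odd (Module.finrank F X) := by rw [h]; exact Nat.not_odd_iff_even.2 (even_two_mul a)
  unfold wIdx
  simp only [qsgn_eq_one_iff, hno, false_or]
  split_ifs <;> omega

theorem wIdx_of_qsgn {X : Type u} [AddCommGroup X] [Module F X] (R : QuadraticForm F X) {a : ℕ}
    (h : Module.finrank F X = 2 * a) : a - 1 ≤ wIdx R ∧ (qsgn R = 1 → wIdx R = a) ∧ (qsgn R = -1 → wIdx R = a - 1) := by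
  rw [wIdx_even R h]
  refine ⟨by split_ifs <;> omega, fun h1 => if_pos h1, fun h1 => if_neg (by rw [h1]; decide)⟩

end Cfsg.Agent.Lib.OrthPrime
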