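import Mathlib
import Cfsg.Agent.Lib.OrthUnipotent.Witness
import Cfsg.Agent.Lib.OrthUnipotent.Partitions

/-!
The standard forms in model coordinates, and the small partitions used for derangements of order `p`.
-/
set_option autoImplicit false

namespace Cfsg.Agent.Lib.OrthPrime.Unip

open Cfsg.Agent.Lib.OrthUnipotent

variable {F : Type*} [Field F]

/-- Coordinates of the odd standard space. -/
def stdOdd (d : ℕ) : (Unit ⊕ (Fin d ⊕ Fin d) → F) ≃ₗ[F] StdSpace F d 1 where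
  toFun v := (fun i => v (.inr (.inl i)), fun i => v (.inr (.inr i)), fun _ => v (.inl ()))
  map_add' _ _ := rfl
  map_smul' _ _ := rfl
  invFun w := Sum.elim (fun _ => w.2.2 0) (Sum.elim w.1 w.2.1)
  left_inv v := funext fun i => by rcases i with i | i | i <;> rfl
  right_inv w := by
    refine Prod.ext rfl (Prod.ext rfl (funext fun i => ?_))
    fin_cases i; rfl

theorem polar_odd (d : ℕ) (u v : Unit ⊕ (Fin d ⊕ Fin d) → F) :
    QuadraticMap.polar (Cfsg.quadFormOdd d F) u v = stdForm d (fun _ => (1 : F)) (stdOdd d u) (stdOdd d v) := by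
  simp only [QuadraticMap.polar, Cfsg.quadFormOdd, stdForm_apply, stdOdd, LinearEquiv.coe_mk, LinearMap.coe_mk,
    AddHom.coe_mk, Pi.add_apply, Fin.sum_univ_one, mul_add, add_mul, Finset.sum_add_distrib,
    mul_comm (v (Sum.inr (Sum.inl _))) (u (Sum.inr (Sum.inr _)))]
  ring

theorem two_mul_odd (d : ℕ) (v : Unit ⊕ (Fin d ⊕ Fin d) → F) :
    2 * Cfsg.quadFormOdd d F v = QuadraticMap.polar (Cfsg.quadFormOdd d F) v v := by
  simp only [QuadraticMap.polar, Cfsg.quadFormOdd, Pi.add_apply, add_mul, mul_add, Finset.sum_add_distrib]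
  ring

/-- Coordinates of the plus standard space. -/
def stdPlus (d : ℕ) : (Fin d ⊕ Fin d → F) ≃ₗ[F] StdSpace F d 0 where
  toFun v := (fun i => v (.inl i), fun i => v (.inr i), ![])
  map_add' _ _ := Prod.ext rfl (Prod.ext rfl (Subsingleton.elim _ _))
  map_smul' _ _ := Prod.ext rfl (Prod.ext rfl (Subsingleton.elim _ _))
  invFun w := Sum.elim w.1 w.2.1
  left_inv v := funext fun i => by rcases i with i | i <;> rfl
  right_inv w := Prod.ext rfl (Prod.ext rfl (Subsingleton.elim _ _))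

theorem polar_plus (d : ℕ) (u v : Fin d ⊕ Fin d → F) :
    QuadraticMap.polar (Cfsg.quadFormPlus d F) u v = stdForm d (![] : Fin 0 → F) (stdPlus d u) (stdPlus d v) := by
  simp only [QuadraticMap.polar, Cfsg.quadFormPlus, stdForm_apply, stdPlus, LinearEquiv.coe_mk, LinearMap.coe_mk,
    AddHom.coe_mk, Pi.add_apply, Finset.univ_eq_empty, Finset.sum_empty, mul_add, add_mul, Finset.sum_add_distrib,
    mul_comm (v (Sum.inl _)) (u (Sum.inr _))]
  ring

theorem two_mul_plus (d : ℕ) (v : Fin d ⊕ Fin d → F) :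
    2 * Cfsg.quadFormPlus d F v = QuadraticMap.polar (Cfsg.quadFormPlus d F) v v := by
  simp only [QuadraticMap.polar, Cfsg.quadFormPlus, Pi.add_apply, add_mul, mul_add, Finset.sum_add_distrib]
  ring

/-- Coordinates of the minus standard space. -/
def stdMinus (k : ℕ) (a : F) : ((Fin k ⊕ Fin k) ⊕ Fin 2 → F) ≃ₗ[F] StdSpace F k 2 where
  toFun v := (fun i => v (.inl (.inl i)), fun i => v (.inl (.inr i)),
    ![v (.inr 0) + a / 2 * v (.inr 1), v (.inr 1)])
  map_add' u v := by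
    refine Prod.ext rfl (Prod.ext rfl (funext fun i => ?_))
    fin_cases i
    · simp; ring
    · simp
  map_smul' c u := by
    refine Prod.ext rfl (Prod.ext rfl (funext fun i => ?_))
    fin_cases i
    · simp; ring
    · simp
  invFun w := Sum.elim (Sum.elim w.1 w.2.1) ![w.2.2 0 - a / 2 * w.2.2 1, w.2.2 1]
  left_inv v := funext fun i => by
    rcases i with (i | i) | i
    · rfl
    · rfl
    · fin_cases i <;> simp
  right_inv w := by
    refine Prod.ext rfl (Prod.ext rfl (funext fun i => ?_))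
    fin_cases i <;> simp

theorem two_mul_minus (k : ℕ) (a b : F) (v : (Fin k ⊕ Fin k) ⊕ Fin 2 → F) :
    2 * Cfsg.quadFormMinus k F a b v = QuadraticMap.polar (Cfsg.quadFormMinus k F a b) v v := by
  simp only [QuadraticMap.polar, Cfsg.quadFormMinus, Pi.add_apply, add_mul, mul_add, Finset.sum_add_distrib]
  ring

theorem polar_minus' (h2 : (2 : F) ≠ 0) (k : ℕ) (a b : F) (u v : (Fin k ⊕ Fin k) ⊕ Fin 2 → F) :
    QuadraticMap.polar (Cfsg.quadFormMinus k F a b) u v =
      stdForm k (![1, b - a ^ 2 / 4] : Fin 2 → F) (stdMinus k a u) (stdMinus k a v) := by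
  have h4 : (4 : F) ≠ 0 := by rw [show (4 : F) = 2 * 2 by norm_num]; exact mul_ne_zero h2 h2
  simp only [QuadraticMap.polar, Cfsg.quadFormMinus, stdForm_apply, stdMinus, LinearEquiv.coe_mk,
    LinearMap.coe_mk, AddHom.coe_mk, Pi.add_apply, Fin.sum_univ_two, Matrix.cons_val_zero, Matrix.cons_val_one,
    Matrix.cons_val_fin_one, mul_add, add_mul, Finset.sum_add_distrib,
    mul_comm (v (Sum.inl (Sum.inl _))) (u (Sum.inl (Sum.inr _)))]
  field_simp
  ring

theorem minus_coeff_ne_zero (h2 : (2 : F) ≠ 0) {a b : F}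
    (hab : ∀ x y : F, x ^ 2 + a * x * y + b * y ^ 2 = 0 → x = 0 ∧ y = 0) (i : Fin 2) :
    (![1, b - a ^ 2 / 4] : Fin 2 → F) i ≠ 0 := by
  have h4 : (4 : F) ≠ 0 := by rw [show (4 : F) = 2 * 2 by norm_num]; exact mul_ne_zero h2 h2
  fin_cases i
  · simp
  · show b - a ^ 2 / 4 ≠ 0
    intro h
    exact one_ne_zero (hab (-a / 2) 1 (by field_simp at h ⊢; linear_combination h)).2

/-- The partition with `c₁` ones, `c₂` twos and `c₃` threes. -/
def parts (c₁ c₂ c₃ : ℕ) : Multiset ℕ :=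
  Multiset.replicate c₁ 1 + Multiset.replicate c₂ 2 + Multiset.replicate c₃ 3

theorem mem_parts {c₁ c₂ c₃ k : ℕ} (h : k ∈ parts c₁ c₂ c₃) :
    (k = 1 ∧ c₁ ≠ 0) ∨ (k = 2 ∧ c₂ ≠ 0) ∨ (k = 3 ∧ c₃ ≠ 0) := by
  simp only [parts, Multiset.mem_add, Multiset.mem_replicate] at h
  tauto

theorem sum_parts (c₁ c₂ c₃ : ℕ) : (parts c₁ c₂ c₃).sum = c₁ + 2 * c₂ + 3 * c₃ := by
  simp only [parts, Multiset.sum_add, Multiset.sum_replicate, smul_eq_mul]; ring

theorem count_parts (c₁ c₂ c₃ k : ℕ) : (parts c₁ c₂ c₃).count k =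
    (if 1 = k then c₁ else 0) + (if 2 = k then c₂ else 0) + (if 3 = k then c₃ else 0) := by
  simp only [parts, Multiset.count_add, Multiset.count_replicate]

theorem even_count_parts {c₁ c₂ c₃ : ℕ} (h : Even c₂) (k : ℕ) (hk : Even k) :
    Even ((parts c₁ c₂ c₃).count k) := by
  rw [count_parts, if_neg (fun e => by subst e; exact absurd hk (by decide)),
    if_neg (c := 3 = k) (fun e => by subst e; exact absurd hk (by decide)), add_zero, zero_add]
  split_ifs
  · exact h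
  · exact Even.zero

theorem parts_facts {c₁ c₂ c₃ : ℕ} {ν : Multiset ℕ} (hν : ν ≤ parts c₁ c₂ c₃) :
    ν.count 1 ≤ c₁ ∧ ν.count 2 ≤ c₂ ∧ ν.count 3 ≤ c₃ ∧
      ν.sum = ν.count 1 + 2 * ν.count 2 + 3 * ν.count 3 := by
  have h := fun k => Multiset.count_le_of_le k hν
  simp only [count_parts] at h
  have h1 := h 1
  have h2 := h 2
  have h3 := h 3
  norm_num at h1 h2 h3
  refine ⟨h1, h2, h3, sum_eq_count_add ν fun k hk => ?_⟩
  rcases mem_parts (Multiset.mem_of_le hν hk) with h | h | h <;> omega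

/-- An element of order `p` of `Ω` whose invariant non-degenerate subspaces follow a small partition. -/
theorem exists_parts_witness {ι : Type} [Fintype ι] [DecidableEq ι] {p : ℕ} [Fact p.Prime] [CharP F p]
    (hp : Odd p) (h2 : (2 : F) ≠ 0) (Q : (ι → F) → F) (hQ : ∀ v, 2 * Q v = QuadraticMap.polar Q v v)
    {N t : ℕ} (β : Fin t → F) (hβ : ∀ i, β i ≠ 0) (e : (ι → F) ≃ₗ[F] StdSpace F N t)
    (hpol : ∀ u v, QuadraticMap.polar Q u v = stdForm N β (e u) (e v))
    {c₁ c₂ c₃ : ℕ} (hc : Even c₂) (hbig : c₂ ≠ 0 ∨ c₃ ≠ 0) (hsum : c₁ + 2 * c₂ + 3 * c₃ = 2 * N + t)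
    (ht : t = 0 ∨ t = 1 ∨ (t = 2 ∧ (c₁ ≠ 0 ∨ c₃ ≠ 0))) :
    ∃ x : GL ι F, x ∈ Geo.omegaGL Q ∧ x ^ p = 1 ∧ orderOf x = p ∧
      (∀ z : F, (x : Matrix ι ι F) ≠ z • (1 : Matrix ι ι F)) ∧
      ∀ W : Submodule F (ι → F), Geo.IsNondegenerateOn (QuadraticMap.polar Q) W →
        W.map (Matrix.toLin' (x : Matrix ι ι F)) ≤ W →
        ∃ a₁ a₂ a₃ : ℕ, a₁ ≤ c₁ ∧ a₂ ≤ c₂ ∧ a₃ ≤ c₃ ∧ Even a₂ ∧ Module.finrank F W = a₁ + 2 * a₂ + 3 * a₃ ∧
          (c₃ = 0 → a₁ = 0 → Geo.IsPlusTypeOn Q W) := by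
  have hp3 : 3 ≤ p := by
    have := (Fact.out : p.Prime).two_le
    obtain ⟨k, hk⟩ := hp
    omega
  have hbig' : ∃ k ∈ parts c₁ c₂ c₃, 2 ≤ k := by
    rcases hbig with h | h
    · exact ⟨2, by simp [parts, Multiset.mem_replicate, h], le_rfl⟩
    · exact ⟨3, by simp [parts, Multiset.mem_replicate, h], by omega⟩
  have hreal := isRealised_of_tail h2 (parts c₁ c₂ c₃)
    (fun k hk => by rcases mem_parts hk with h | h | h <;> omega) (even_count_parts hc) β hβ (N := N)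
    (by rw [sum_parts]; omega) (by
      rcases ht with h | h | ⟨h, h' | h'⟩
      · exact Or.inl h
      · exact Or.inr (Or.inl h)
      · exact Or.inr (Or.inr ⟨h, 1, by simp [parts, Multiset.mem_replicate, h'], odd_one⟩)
      · exact Or.inr (Or.inr ⟨h, 3, by simp [parts, Multiset.mem_replicate, h'], by decide⟩))
  obtain ⟨x, hxΩ, hxp, hxns, hW⟩ := exists_omega_element hp Q hQ β e hpol _ hreal
    (fun k hk => by rcases mem_parts hk with h | h | h <;> omega) hbig'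
  refine ⟨x, hxΩ, hxp, orderOf_eq_prime hxp fun h => hxns 1 (by rw [h, Units.val_one, one_smul]), hxns,
    fun W hnd hinv => ?_⟩
  obtain ⟨ν, hν, hs, hev, -, hpl⟩ := hW W hnd hinv
  obtain ⟨b₁, b₂, b₃, hsum'⟩ := parts_facts hν
  exact ⟨_, _, _, b₁, b₂, b₃, hev 2 even_two, hs ▸ hsum',
    fun h3 => hpl fun k hk => by rcases mem_parts hk with h | h | h <;> omega⟩

end Cfsg.Agent.Lib.OrthPrime.Unip
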