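import Mathlib
import Cfsg.Prelude.Def_GeometricClasses
import Cfsg.Agent.Lib.OrthUnipotent.Model

/-!
Elements of order `p` of `Ω(Q)` with prescribed Jordan type and the constraint they put on invariant
non-degenerate subspaces (odd characteristic).
-/
set_option autoImplicit false

namespace Cfsg.Agent.Lib.OrthPrime.Unip

open Cfsg.Agent.Lib.OrthUnipotent

open scoped Matrix commutatorElement

variable {F : Type*} [Field F]

theorem omega_of_skew {ι : Type} [Fintype ι] [DecidableEq ι] {p : ℕ} [Fact p.Prime] [CharP F p]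
    (hp : Odd p) (Q : (ι → F) → F) (hQ : ∀ v, 2 * Q v = QuadraticMap.polar Q v v)
    (B : LinearMap.BilinForm F (ι → F)) (hB : ∀ u v, B u v = QuadraticMap.polar Q u v)
    (L S : Module.End F (ι → F)) (hL : ∀ u v, B (L u) v + B u (L v) = 0) (hS : ∀ u v, B (S u) (S v) = B u v)
    (hSS : S * S = 1) (hSL : S * L = -(L * S)) (hLp : L ^ p = 0) (hL0 : L ≠ 0) :
    ∃ x : GL ι F, x ∈ Geo.omegaGL Q ∧ x ^ p = 1 ∧
      (∀ z : F, (x : Matrix ι ι F) ≠ z • (1 : Matrix ι ι F)) ∧
      ∀ W : Submodule F (ι → F), W.map (Matrix.toLin' (x : Matrix ι ι F)) ≤ W → W.map L ≤ W := by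
  have hp2 : (2 : F) ≠ 0 := by
    intro h
    have : p ∣ 2 := (CharP.cast_eq_zero_iff F p 2).mp (by exact_mod_cast h)
    have hpp : p.Prime := Fact.out
    have := (Nat.prime_dvd_prime_iff_eq hpp Nat.prime_two).mp this
    subst this
    exact absurd hp (by decide)
  haveI : Nontrivial (Module.End F (ι → F)) := ⟨⟨L, 0, hL0⟩⟩
  haveI : CharP (Module.End F (ι → F)) p :=
    charP_of_injective_algebraMap (algebraMap F (Module.End F (ι → F))).injective p
  have hnil : IsNilpotent L := ⟨p, hLp⟩
  obtain ⟨a, ha⟩ := hnil.isUnit_one_add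
  obtain ⟨b, hb⟩ := hnil.isUnit_one_sub
  have hab : Commute a b := Units.ext (by
    rw [Units.val_mul, Units.val_mul, ha, hb]; simp only [add_mul, mul_sub, mul_add, sub_mul, one_mul, mul_one]; abel)
  let xu : (Module.End F (ι → F))ˣ := a * b⁻¹
  let su : (Module.End F (ι → F))ˣ := ⟨S, S, hSS, hSS⟩
  have hsa : su * a = b * su := Units.ext (by
    rw [Units.val_mul, Units.val_mul, ha, hb]
    change S * (1 + L) = (1 - L) * S
    rw [mul_add, sub_mul, mul_one, one_mul, hSL]; abel)
  have hsb : su * b = a * su := Units.ext (by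
    rw [Units.val_mul, Units.val_mul, ha, hb]
    change S * (1 - L) = (1 + L) * S
    rw [mul_sub, add_mul, mul_one, one_mul, hSL]; abel)
  have hrev : su * xu⁻¹ * su⁻¹ = xu := by
    have h1 : su * b * su⁻¹ = a := by rw [hsb, mul_inv_cancel_right]
    have h2 : su * a * su⁻¹ = b := by rw [hsa, mul_inv_cancel_right]
    calc su * xu⁻¹ * su⁻¹ = (su * b * su⁻¹) * (su * a * su⁻¹)⁻¹ := by simp only [xu]; group
      _ = xu := by rw [h1, h2]
  have hxpow : xu ^ p = 1 := by
    have h1 : a ^ p = 1 := Units.ext (by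
      rw [Units.val_pow_eq_pow_val, ha, add_pow_char_of_commute p (Commute.one_left L), hLp]; simp)
    have h2 : b ^ p = 1 := Units.ext (by
      rw [Units.val_pow_eq_pow_val, hb, sub_pow_char_of_commute p (Commute.one_left L), hLp]; simp)
    simp only [xu]
    rw [hab.inv_right.mul_pow, h1, inv_pow, h2, inv_one, one_mul]
  let φ : GL ι F ≃* (Module.End F (ι → F))ˣ := Units.mapEquiv (Matrix.toLinAlgEquiv' : Matrix ι ι F ≃ₐ[F] _).toMulEquiv
  have hφ : ∀ g : GL ι F, Matrix.toLin' (g : Matrix ι ι F) = (φ g : Module.End F (ι → F)) := fun g => rfl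
  let x : GL ι F := φ.symm xu
  let s : GL ι F := φ.symm su
  have hx : Matrix.toLin' (x : Matrix ι ι F) = (xu : Module.End F (ι → F)) := by
    rw [hφ]; simp [x]
  have hs : Matrix.toLin' (s : Matrix ι ι F) = S := by
    rw [hφ]; simp [s, su]
  have hxiso : ∀ u v, B ((xu : Module.End F (ι → F)) u) ((xu : Module.End F (ι → F)) v) = B u v := by
    intro u v
    have key : ∀ u, ∃ u', (1 - L) u' = u ∧ (xu : Module.End F (ι → F)) u = (1 + L) u' := by
      intro u
      refine ⟨((b⁻¹ : (Module.End F (ι → F))ˣ) : Module.End F (ι → F)) u, ?_, ?_⟩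
      · rw [← hb, ← Module.End.mul_apply, ← Units.val_mul, mul_inv_cancel, Units.val_one, Module.End.one_apply]
      · simp [xu, ha, Module.End.mul_apply]
    obtain ⟨u', hu1, hu2⟩ := key u
    obtain ⟨v', hv1, hv2⟩ := key v
    rw [hu2, hv2, ← hu1, ← hv1]
    simp only [LinearMap.add_apply, LinearMap.sub_apply, Module.End.one_apply, map_add, map_sub]
    linear_combination 2 * hL u' v'
  have hiso : ∀ g : GL ι F, (∀ u v, B (Matrix.toLin' (g : Matrix ι ι F) u)
      (Matrix.toLin' (g : Matrix ι ι F) v) = B u v) → g ∈ isometryGroup F Q := by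
    intro g hg u v
    change Q ((g : Matrix ι ι F) *ᵥ u) = Q u
    apply mul_left_cancel₀ hp2
    rw [hQ, hQ, ← hB, ← hB]
    exact hg u u
  have hxG : x ∈ isometryGroup F Q := hiso x (by rw [hx]; exact hxiso)
  have hsG : s ∈ isometryGroup F Q := hiso s (by rw [hs]; exact hS)
  have hxp : x ^ p = 1 := by simp only [x]; rw [← map_pow, hxpow, map_one]
  have hxΩ : x ∈ Geo.omegaGL Q := by
    let xG : isometryGroup F Q := ⟨x, hxG⟩
    let sG : isometryGroup F Q := ⟨s, hsG⟩
    have h1 : ⁅xG, sG⁆ ∈ Omega F Q := Subgroup.commutator_mem_commutator (Subgroup.mem_top _) (Subgroup.mem_top _)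
    have h2 : x ^ 2 ∈ Geo.omegaGL Q := by
      refine ⟨⁅xG, sG⁆, h1, ?_⟩
      change x * s * x⁻¹ * s⁻¹ = x ^ 2
      have : s * x⁻¹ * s⁻¹ = x := by
        simp only [x, s, ← map_inv, ← map_mul]
        rw [hrev]
      rw [pow_two, mul_assoc x s, mul_assoc x, this]
    obtain ⟨k, hk⟩ := hp
    have : x = (x ^ 2) ^ (k + 1) := by
      rw [← pow_mul, show 2 * (k + 1) = p + 1 by omega, pow_succ, hxp, one_mul]
    rw [this]
    exact Subgroup.pow_mem _ h2 _
  refine ⟨x, hxΩ, hxp, fun z hz => ?_, fun W hWx => ?_⟩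
  · have h1 : (xu : Module.End F (ι → F)) = algebraMap F _ z := by
      rw [← hx, hz, map_smul, Matrix.toLin'_one, Algebra.algebraMap_eq_smul_one]
      rfl
    have h2 : (1 + L : Module.End F (ι → F)) = algebraMap F _ z * (1 - L) := by
      rw [← h1, ← ha, ← hb, ← Units.val_mul]; simp [xu]
    have h3 := congrArg (fun y : Module.End F (ι → F) => y ^ p) h2
    rw [add_pow_char_of_commute p (Commute.one_left L), Commute.mul_pow (Algebra.commutes z (1 - L)),
      sub_pow_char_of_commute p (Commute.one_left L), hLp, one_pow, add_zero, sub_zero, mul_one, ← map_pow] at h3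
    rw [← map_one (algebraMap F (Module.End F (ι → F)))] at h3
    have hz1 : z ^ p = 1 := ((algebraMap F (Module.End F (ι → F))).injective h3).symm
    have hz' : z = 1 := by
      have : (z - 1) ^ p = 0 := by rw [sub_pow_char z 1, hz1, one_pow, sub_self]
      exact sub_eq_zero.mp (pow_eq_zero_iff (Nat.Prime.ne_zero Fact.out) |>.mp this)
    rw [hz', map_one, one_mul] at h2
    apply hL0
    have h4 : (2 : F) • L = 0 := by
      rw [two_smul]
      calc L + L = (1 + L) - (1 - L) := by abel
        _ = 0 := by rw [h2, sub_self]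
    exact (smul_eq_zero.mp h4).resolve_left hp2
  · rw [hx] at hWx
    have hWb : ∀ w ∈ W, ((b⁻¹ : (Module.End F (ι → F))ˣ) : Module.End F (ι → F)) w ∈ W := by
      intro w hw
      have h1 : (2 : F) • ((b⁻¹ : (Module.End F (ι → F))ˣ) : Module.End F (ι → F)) =
          (xu : Module.End F (ι → F)) + 1 := by
        rw [← Units.mul_inv b, hb, Units.val_mul, ha, ← add_mul, two_smul]
        rw [show (1 + L + (1 - L) : Module.End F (ι → F)) = 1 + 1 by abel, add_mul, one_mul]
      have h2 := LinearMap.congr_fun h1 w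
      rw [LinearMap.smul_apply, LinearMap.add_apply, Module.End.one_apply] at h2
      have h3 : (2 : F) • ((b⁻¹ : (Module.End F (ι → F))ˣ) : Module.End F (ι → F)) w ∈ W := by
        rw [h2]; exact add_mem (hWx ⟨w, hw, rfl⟩) hw
      exact (Submodule.smul_mem_iff _ hp2).mp h3
    have hWL : W.map L ≤ W := by
      rintro _ ⟨w, hw, rfl⟩
      let g : W →ₗ[F] W := ((b⁻¹ : (Module.End F (ι → F))ˣ) : Module.End F (ι → F)).restrict hWb
      have hg : Function.Injective g := by
        intro u v huv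
        have := congrArg (fun y : W => (b : Module.End F (ι → F)) (y : ι → F)) huv
        simp only [g, LinearMap.coe_restrict_apply, ← Module.End.mul_apply, ← Units.val_mul, mul_inv_cancel,
          Units.val_one, Module.End.one_apply] at this
        exact Subtype.ext this
      obtain ⟨w', hw'⟩ := (LinearMap.injective_iff_surjective.mp hg) ⟨w, hw⟩
      have : (w' : ι → F) = (b : Module.End F (ι → F)) w := by
        have h6 := congrArg (fun y : W => (b : Module.End F (ι → F)) (y : ι → F)) hw'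
        simp only [g, LinearMap.coe_restrict_apply, ← Module.End.mul_apply, ← Units.val_mul, mul_inv_cancel,
          Units.val_one, Module.End.one_apply] at h6
        exact h6
      rw [hb, LinearMap.sub_apply, Module.End.one_apply] at this
      have h5 : L w = w - (w' : ι → F) := by rw [this]; abel
      rw [h5]
      exact sub_mem hw w'.2
    exact hWL


theorem exists_omega_unipotent {ι : Type} [Fintype ι] [DecidableEq ι] {p : ℕ} [Fact p.Prime] [CharP F p]
    (hp : Odd p) (Q : (ι → F) → F) (hQ : ∀ v, 2 * Q v = QuadraticMap.polar Q v v)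
    {N t : ℕ} (β : Fin t → F) (e : (ι → F) ≃ₗ[F] StdSpace F N t)
    (hpol : ∀ u v, QuadraticMap.polar Q u v = stdForm N β (e u) (e v))
    (μ : Multiset ℕ) (hreal : IsRealised (stdForm N β) μ) (hle : ∀ k ∈ μ, k ≤ p) (hbig : ∃ k ∈ μ, 2 ≤ k) :
    ∃ (x : GL ι F) (L : Module.End F (ι → F)), x ∈ Geo.omegaGL Q ∧ x ^ p = 1 ∧
      (∀ z : F, (x : Matrix ι ι F) ≠ z • (1 : Matrix ι ι F)) ∧
      (∀ u v, QuadraticMap.polar Q (L u) v + QuadraticMap.polar Q u (L v) = 0) ∧
      (∀ j, Module.finrank F (LinearMap.range (L ^ j)) = OrthUnipotent.tailRank μ j) ∧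
      ∀ W : Submodule F (ι → F), W.map (Matrix.toLin' (x : Matrix ι ι F)) ≤ W → W.map L ≤ W := by
  have hp2 : (2 : F) ≠ 0 := by
    intro h
    have : p ∣ 2 := (CharP.cast_eq_zero_iff F p 2).mp (by exact_mod_cast h)
    have hpp : p.Prime := Fact.out
    have := (Nat.prime_dvd_prime_iff_eq hpp Nat.prime_two).mp this
    subst this
    exact absurd hp (by decide)
  let B : LinearMap.BilinForm F (ι → F) := (stdForm N β).compl₁₂ e.toLinearMap e.toLinearMap
  have hB : ∀ u v, B u v = QuadraticMap.polar Q u v := fun u v => (hpol u v).symm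
  have hBsymm : ∀ u v, B u v = B v u := fun u v => stdForm_symm β _ _
  obtain ⟨L, S, hL, hS, hSS, hSL, hr⟩ :=
    hreal.transport (B' := B) e.symm (fun u v => by simp [B])
  have hLp : L ^ p = 0 := by
    have h := hr p
    rw [tailRank_eq_zero μ p hle, Submodule.finrank_eq_zero, LinearMap.range_eq_bot] at h
    exact h
  have hL0 : L ≠ 0 := by
    intro h
    obtain ⟨k, hk, hk2⟩ := hbig
    have h1 := hr 1
    rw [pow_one, h, LinearMap.range_zero, finrank_bot] at h1
    have h2 := Multiset.single_le_sum (fun x _ => Nat.zero_le x) (k - 1)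
      (Multiset.mem_map_of_mem (fun e => e - 1) hk)
    rw [show (μ.map (fun e => e - 1)).sum = 0 from h1.symm] at h2
    omega
  obtain ⟨x, hx, hxp, hxz, hW⟩ := omega_of_skew hp Q hQ B hB L S hL hS hSS hSL hLp hL0
  exact ⟨x, L, hx, hxp, hxz, fun u v => by rw [← hB, ← hB]; exact hL u v, hr, hW⟩

end Cfsg.Agent.Lib.OrthPrime.Unip
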