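import Mathlib
import Cfsg.Agent.Lib.OrthPrime.UnipWitness
import Cfsg.Agent.Lib.OrthPrime.UnipStd
import Cfsg.Agent.Lib.OrthPrime.OddClass
import Cfsg.Agent.Lib.OrthPrime.Sub
import Cfsg.Agent.Lib.PlusType.Criterion

/-!
Elements of order `p` of `Ω⁻` of type `1 + 3 + 2^(d-2)`, with prescribed value on the fixed line, and the
square class they force on invariant subspaces of dimension `1 (mod 4)`.
-/

set_option autoImplicit false
set_option linter.unusedSectionVars false

namespace Cfsg.Agent.Lib.OrthPrime.Unip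

open QuadraticMap
open Cfsg.Agent.Lib.OrthUnipotent

universe u

variable {F : Type u} [Field F] [Fintype F]

/-- Coordinates of the minus space splitting off a line of value `γ = α² + c β²`. -/
def stdLine (k : ℕ) (a c α β γ : F) (hγ : γ ≠ 0) (h : α ^ 2 + c * β ^ 2 = γ) :
    ((Fin k ⊕ Fin k) ⊕ Fin 2 → F) ≃ₗ[F] F × StdSpace F k 1 :=
  (stdMinus k a).trans
    { toFun := fun w => ((α * w.2.2 0 + c * β * w.2.2 1) / γ, (w.1, w.2.1, fun _ => (α * w.2.2 1 - β * w.2.2 0) / γ))
      map_add' := fun u v => by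
        refine Prod.ext ?_ (Prod.ext rfl (Prod.ext rfl (funext fun i => ?_))) <;>
          simp only [Prod.fst_add, Prod.snd_add, Pi.add_apply] <;> ring
      map_smul' := fun s u => by
        refine Prod.ext ?_ (Prod.ext rfl (Prod.ext rfl (funext fun i => ?_))) <;>
          simp only [Prod.smul_fst, Prod.smul_snd, Pi.smul_apply, smul_eq_mul, RingHom.id_apply] <;> ring
      invFun := fun y => (y.2.1, y.2.2.1, ![α * y.1 - c * β * y.2.2.2 0, β * y.1 + α * y.2.2.2 0])
      left_inv := fun w => by
        refine Prod.ext rfl (Prod.ext rfl (funext fun i => ?_))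
        fin_cases i
        · simp only [Fin.zero_eta, Matrix.cons_val_zero]
          field_simp
          linear_combination (w.2.2 0) * h
        · simp only [Fin.mk_one, Matrix.cons_val_one, Matrix.cons_val_fin_one]
          field_simp
          linear_combination (w.2.2 1) * h
      right_inv := fun y => by
        refine Prod.ext ?_ (Prod.ext rfl (Prod.ext rfl (funext fun i => ?_)))
        · simp only [Matrix.cons_val_zero, Matrix.cons_val_one, Matrix.cons_val_fin_one]
          field_simp
          linear_combination y.1 * h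
        · rw [Subsingleton.elim i 0]
          simp only [Matrix.cons_val_zero, Matrix.cons_val_one, Matrix.cons_val_fin_one]
          field_simp
          linear_combination (y.2.2.2 0) * h }

theorem exists_class_witness {p : ℕ} [Fact p.Prime] [CharP F p] (hp : Odd p) (h2 : (2 : F) ≠ 0) (k : ℕ)
    (hk : Odd k) {a b : F} (hab : ∀ x y : F, x ^ 2 + a * x * y + b * y ^ 2 = 0 → x = 0 ∧ y = 0) {γ : F}
    (hγ : γ ≠ 0) :
    ∃ x : GL ((Fin k ⊕ Fin k) ⊕ Fin 2) F, x ∈ Geo.omegaGL ⇑(StdForms.minusQ F k a b) ∧ x ^ p = 1 ∧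
      (∀ z : F, (x : Matrix ((Fin k ⊕ Fin k) ⊕ Fin 2) ((Fin k ⊕ Fin k) ⊕ Fin 2) F) ≠ z • 1) ∧
      ∀ (W : Submodule F ((Fin k ⊕ Fin k) ⊕ Fin 2 → F)) (j : ℕ), Nd (StdForms.minusQ F k a b) W →
        Module.finrank F W = 4 * j + 1 →
        W.map (Matrix.toLin' (x : Matrix ((Fin k ⊕ Fin k) ⊕ Fin 2) ((Fin k ⊕ Fin k) ⊕ Fin 2) F)) ≤ W →
        ∃ s : F, s ≠ 0 ∧ HasClass (StdForms.minusQ F k a b) (2 * j) W (s * s * γ) := by
  classical
  set Q := StdForms.minusQ F k a b with hQdef
  have hp3 : 3 ≤ p := by
    have := (Fact.out : p.Prime).two_le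
    obtain ⟨i, hi⟩ := hp
    omega
  set c := b - a ^ 2 / 4 with hc
  have hcc := minus_coeff_ne_zero h2 hab 1
  simp only [Matrix.cons_val_one, Matrix.cons_val_fin_one] at hcc
  obtain ⟨α, β, hαβ⟩ := PlusType.exists_sum_eq h2 one_ne_zero hcc γ
  rw [one_mul] at hαβ
  let E := stdLine k a c α β γ hγ hαβ
  let B : LinearMap.BilinForm F ((Fin k ⊕ Fin k) ⊕ Fin 2 → F) := polarBilin Q
  let B' : LinearMap.BilinForm F (StdSpace F k 1) := stdForm k (fun _ => c * γ)
  have hpol : ∀ u v, B u v = 2 * γ * (E u).1 * (E v).1 + B' (E u).2 (E v).2 := by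
    intro u v
    simp only [B, B', polarBilin_apply_apply, hQdef, StdForms.coe_minusQ, polar_minus' h2, stdForm_apply, E, stdLine,
      LinearEquiv.trans_apply, LinearEquiv.coe_mk, LinearMap.coe_mk, AddHom.coe_mk, Fin.sum_univ_two,
      Fin.sum_univ_one, Matrix.cons_val_zero, Matrix.cons_val_one, Matrix.cons_val_fin_one, ← hc]
    field_simp
    linear_combination -(2 * (stdMinus k a u).2.2 0 * (stdMinus k a v).2.2 0 +
      2 * c * (stdMinus k a u).2.2 1 * (stdMinus k a v).2.2 1) * hαβ
  set μ := parts 0 (k - 1) 1 with hμ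
  have hev : Even (k - 1) := by rw [Nat.even_iff]; rw [Nat.odd_iff] at hk; omega
  obtain ⟨L', S', hL', hS', hSS', hSL', hr'⟩ := isRealised_of_tail h2 μ
    (fun e he => by rcases mem_parts he with h | h | h <;> omega) (even_count_parts hev) (fun _ : Fin 1 => c * γ)
    (fun _ => mul_ne_zero hcc hγ) (N := k) (by rw [hμ, sum_parts]; rw [Nat.odd_iff] at hk; omega) (Or.inr (Or.inl rfl))
  let L₁ : Module.End F (F × StdSpace F k 1) := LinearMap.prodMap 0 L'
  let S₁ : Module.End F (F × StdSpace F k 1) := LinearMap.prodMap 1 S'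
  let L : Module.End F ((Fin k ⊕ Fin k) ⊕ Fin 2 → F) := E.symm.conj L₁
  let S : Module.End F ((Fin k ⊕ Fin k) ⊕ Fin 2 → F) := E.symm.conj S₁
  have hEL : ∀ v, E (L v) = (0, L' (E v).2) := fun v => by
    simp [L, L₁, LinearEquiv.conj_apply]
  have hES : ∀ v, E (S v) = ((E v).1, S' (E v).2) := fun v => by
    simp [S, S₁, LinearEquiv.conj_apply]
  have hL : ∀ u v, B (L u) v + B u (L v) = 0 := fun u v => by
    rw [hpol, hpol, hEL, hEL]
    have := hL' (E u).2 (E v).2
    simp only [B'] at this ⊢
    linear_combination this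
  have hS : ∀ u v, B (S u) (S v) = B u v := fun u v => by
    rw [hpol, hpol, hES, hES]
    simp only [B', hS']
  have hSS : S * S = 1 := LinearMap.ext fun v => E.injective (by
    rw [Module.End.mul_apply, hES, hES, Module.End.one_apply]
    exact Prod.ext rfl (LinearMap.congr_fun hSS' _))
  have hSL : S * L = -(L * S) := LinearMap.ext fun v => E.injective (by
    rw [Module.End.mul_apply, LinearMap.neg_apply, Module.End.mul_apply, map_neg, hES, hEL, hEL, hES]
    exact Prod.ext (by simp) (LinearMap.congr_fun hSL' _))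
  let ν : Multiset ℕ := parts 1 (k - 1) 1
  have hrank : ∀ i, Module.finrank F (LinearMap.range (L ^ i)) = tailRank ν i := by
    intro i
    have h1 : Module.finrank F (LinearMap.range (L ^ i)) = Module.finrank F (LinearMap.range (L₁ ^ i)) := by
      rw [show L ^ i = E.symm.conj (L₁ ^ i) from (conjAlgEquiv_pow _ _ _).symm, LinearEquiv.conj_apply,
        LinearMap.range_comp_of_range_eq_top _ (LinearEquiv.range _), LinearMap.range_comp]
      exact (E.symm.submoduleMap _).finrank_eq.symm
    rw [h1, show L₁ ^ i = ((0 : Module.End F F) ^ i).prodMap (L' ^ i) from prodMap_pow _ _ _,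
      LinearMap.range_prodMap, finrank_prod_submodule, hr' i,
      show ν = parts 1 0 0 + μ by simp [ν, hμ, parts, add_assoc], tailRank_add]
    congr 1
    rcases Nat.eq_zero_or_pos i with rfl | hi
    · rw [pow_zero, Module.End.one_eq_id, LinearMap.range_id, finrank_top, Module.finrank_self]
      simp [tailRank, parts]
    · rw [zero_pow hi.ne', LinearMap.range_zero, finrank_bot]
      simp [tailRank, parts]; omega
  have hp' : ∀ e ∈ ν, e ≤ p := fun e he => by rcases mem_parts he with h | h | h <;> omega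
  have hLp : L ^ p = 0 := by
    have h := hrank p
    rw [tailRank_eq_zero ν p hp', Submodule.finrank_eq_zero, LinearMap.range_eq_bot] at h
    exact h
  have hr1 : Module.finrank F (LinearMap.range L) = k + 1 := by
    rw [← pow_one L, hrank]
    simp only [tailRank, ν, parts, Multiset.map_add, Multiset.map_replicate, Multiset.sum_add,
      Multiset.sum_replicate, smul_eq_mul]
    rw [Nat.odd_iff] at hk
    omega
  have hr2 : tailRank ν 2 = 1 := by
    simp [tailRank, ν, parts, Multiset.map_replicate, Multiset.sum_replicate]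
  have hL0 : L ≠ 0 := fun h => by rw [h, LinearMap.range_zero, finrank_bot] at hr1; omega
  obtain ⟨x, hx, hxp, hxz, hW⟩ := omega_of_skew (p := p) hp ⇑Q
    (fun v => by rw [hQdef, StdForms.coe_minusQ]; exact two_mul_minus k a b v) B (fun u v => rfl) L S hL hS hSS hSL
    hLp hL0
  refine ⟨x, hx, hxp, hxz, fun W j hWn hWd hWi => ?_⟩
  have hWL := hW W hWi
  have hsymm : ∀ u v, B u v = B v u := fun u v => polar_comm _ _ _
  obtain ⟨η, hη, hηs, hηev, -, hid⟩ := exists_subPartition B hsymm h2 L hL ν hrank W hWL hWn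
  obtain ⟨b1, b2, b3, -⟩ := parts_facts hη
  obtain ⟨u1, hu1⟩ := even_imDim B hsymm h2 L hL W hWL hWn 1 odd_one
  have ha2 : imDim L W 2 ≤ 1 := by
    rw [← hr2, ← hrank 2, ← imDim_top]
    exact Submodule.finrank_mono (Submodule.map_mono le_top)
  have hL2 : imDim L W 2 = 0 := by omega
  have hT : ∀ y ∈ W, L (L y) = 0 := fun y hy => by
    have h : L (L y) ∈ W.map (L ^ 2) := ⟨y, hy, by rw [pow_two]; rfl⟩
    rw [Submodule.finrank_eq_zero.1 hL2] at h
    exact (Submodule.mem_bot F).1 h
  have hT0 : ∀ t ∈ W.map L, Q t = 0 := by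
    rintro _ ⟨y, hy, rfl⟩
    have h1 := hL y (L y)
    rw [hT y hy, map_zero, add_zero] at h1
    have h3 : 2 * Q (L y) = 0 := by
      rw [← h1]; simp only [B, polarBilin_apply_apply, polar_self, two_nsmul, two_mul]
    exact (mul_eq_zero.1 h3).resolve_left h2
  have hTd : Module.finrank F (W.map L : Submodule F _) = 2 * j := by
    have : imDim L W 1 = Module.finrank F (W.map L : Submodule F _) := by rw [imDim, pow_one]
    omega
  have hkerd : Module.finrank F (W ⊓ LinearMap.ker L : Submodule F _) = 2 * j + 1 := by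
    have h := imDim_step L W 0
    rw [imDim_zero, pow_zero, Module.End.one_eq_id, Submodule.map_id, zero_add, imDim, pow_one] at h
    omega
  obtain ⟨w, hw, hw0⟩ : ∃ w ∈ W ⊓ LinearMap.ker L, Q w ≠ 0 := by
    by_contra hcon
    push Not at hcon
    have := ts_le_wIdx (Q := rQ Q W) ((nd_iff Q W).2 hWn) (U := (W ⊓ LinearMap.ker L).comap W.subtype)
      fun y hy => hcon _ hy
    rw [(Submodule.comapSubtypeEquivOfLe inf_le_left).finrank_eq, hkerd] at this
    have h5 : wIdx (rQ Q W) ≤ Module.finrank F W / 2 := by unfold wIdx; split_ifs <;> omega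
    omega
  have hk' : ∀ v, L' v = 0 → B' v v = 0 := by
    intro v hv
    have h1 : LinearMap.ker L' ≤ LinearMap.range L' := by
      have h3 : LinearMap.range L' ⊓ LinearMap.ker L' = LinearMap.ker L' := by
        refine Submodule.eq_of_le_of_finrank_le inf_le_right ?_
        have h4 := LinearMap.finrank_range_add_finrank_ker L'
        have h5 := imDim_step L' ⊤ 1
        rw [imDim_top, imDim_top, Submodule.map_top, pow_one, show (1 : ℕ) + 1 = 2 from rfl, hr' 2] at h5
        have h6 := hr' 1
        rw [pow_one] at h6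
        have h7 : Module.finrank F (StdSpace F k 1) = 2 * k + 1 := by simp; omega
        simp only [tailRank, hμ, parts, Multiset.map_add, Multiset.map_replicate, Multiset.sum_add,
          Multiset.sum_replicate, smul_eq_mul] at h5 h6
        rw [Nat.odd_iff] at hk
        omega
      exact h3 ▸ inf_le_left
    obtain ⟨y, hy⟩ := h1 (LinearMap.mem_ker.2 hv)
    have h8 := hL' y v
    rw [hv, map_zero, add_zero, hy] at h8
    exact h8
  have hwker : L' (E w).2 = 0 := by
    have h := hEL w
    rw [LinearMap.mem_ker.1 hw.2, map_zero] at h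
    exact (congrArg Prod.snd h).symm
  have hQw : Q w = (E w).1 * (E w).1 * γ := by
    have h1 := hpol w w
    rw [hk' _ hwker, add_zero] at h1
    simp only [B, polarBilin_apply_apply, polar_self, two_nsmul] at h1
    apply mul_left_cancel₀ h2
    linear_combination h1
  refine ⟨(E w).1, fun h => hw0 (by rw [hQw, h, zero_mul, zero_mul]), W.map L, hWL, hTd, hT0, w, hw.1, ?_, hQw⟩
  rintro _ ⟨y, hy, rfl⟩
  have h1 := hL y w
  rw [LinearMap.mem_ker.1 hw.2, map_zero, add_zero] at h1
  exact h1

end Cfsg.Agent.Lib.OrthPrime.Unip
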